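import Mathlib

/-!
# Minimal groups with a nonabelian centraliser of a noncentral element: definitions

`CAIn H` : the subgroup `H` is a CA group modulo its centre, i.e. centralisers in `H` of elements
outside `Z(H)` are abelian.  `MinNonCA G` : every proper subgroup is `CAIn`, `G` is not.
-/

set_option autoImplicit false

namespace CfsgLib.MinNonCA98

variable {G : Type*} [Group G]

/-- Centralisers in `H` of non-central elements of `H` are abelian. -/
def CAIn (H : Subgroup G) : Prop :=
  ∀ x ∈ H, (∃ y ∈ H, ¬ Commute x y) →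
    ∀ a ∈ H, ∀ b ∈ H, Commute x a → Commute x b → Commute a b

/-- Centralisers of non-central elements of `G` are abelian. -/
def CA (G : Type*) [Group G] : Prop :=
  ∀ x a b : G, x ∉ Subgroup.center G → Commute x a → Commute x b → Commute a b

/-- The hypothesis of the theorem: all proper subgroups are CA, the group is not. -/
structure MinNonCA (G : Type*) [Group G] : Prop where
  not_solvable : ¬ Group.IsSolvable G
  not_ca : ¬ CA G
  proper : ∀ H : Subgroup G, H ≠ ⊤ → CAIn H

theorem not_mem_center_iff {x : G} : x ∉ Subgroup.center G ↔ ∃ y, ¬ Commute x y := by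
  rw [Subgroup.mem_center_iff]
  push Not
  exact ⟨fun ⟨y, hy⟩ => ⟨y, fun h => hy h.symm.eq⟩, fun ⟨y, hy⟩ => ⟨y, fun h => hy h.symm⟩⟩

/-- An element with a nonabelian centraliser which is not central. -/
def Red (x : G) : Prop :=
  x ∉ Subgroup.center G ∧ ∃ a b : G, Commute x a ∧ Commute x b ∧ ¬ Commute a b

theorem exists_red_of_not_ca (h : ¬ CA G) : ∃ x : G, Red x := by
  simp only [CA, not_forall] at h
  obtain ⟨x, a, b, hx, ha, hb, hab⟩ := h
  exact ⟨x, hx, a, b, ha, hb, hab⟩

theorem CAIn.mono {H K : Subgroup G} (hH : CAIn H) (hKH : K ≤ H) : CAIn K := by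
  intro x hx ⟨y, hy, hxy⟩ a ha b hb hxa hxb
  exact hH x (hKH hx) ⟨y, hKH hy, hxy⟩ a (hKH ha) b (hKH hb) hxa hxb

/-- In a CA subgroup, two commuting noncentral elements have the same centraliser. -/
theorem CAIn.commute_trans {H : Subgroup G} (hH : CAIn H) {x y z : G} (hx : x ∈ H) (hy : y ∈ H)
    (hz : z ∈ H) (hync : ∃ w ∈ H, ¬ Commute y w) (hxy : Commute x y) (hyz : Commute y z) :
    Commute x z :=
  hH y hy hync x hx z hz hxy.symm hyz

/-- The template form of `CAIn`. -/
theorem caIn_iff (H : Subgroup G) :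
    CAIn H ↔ ∀ x : H, x ∉ Subgroup.center H →
      IsMulCommutative (Subgroup.centralizer ({x} : Set H)) := by
  constructor
  · intro h x hx
    refine ⟨⟨fun a b => Subtype.ext (Subtype.ext ?_)⟩⟩
    obtain ⟨y, hy⟩ := not_mem_center_iff.mp hx
    have ha := Subgroup.mem_centralizer_singleton_iff.mp a.2
    have hb := Subgroup.mem_centralizer_singleton_iff.mp b.2
    exact h x x.2 ⟨y, y.2, fun h' => hy (Subtype.ext h'.eq)⟩ _ (a : H).2 _ (b : H).2
      (congrArg Subtype.val ha).symm (congrArg Subtype.val hb).symm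
  · intro h x hx ⟨y, hy, hxy⟩ a ha b hb hxa hxb
    have hnc : (⟨x, hx⟩ : H) ∉ Subgroup.center H :=
      not_mem_center_iff.mpr ⟨⟨y, hy⟩, fun h' => hxy (congrArg Subtype.val h'.eq)⟩
    haveI := h _ hnc
    have := mul_comm' (⟨⟨a, ha⟩, Subgroup.mem_centralizer_singleton_iff.mpr
        (Subtype.ext hxa.eq.symm)⟩ : Subgroup.centralizer ({(⟨x, hx⟩ : H)} : Set H))
      ⟨⟨b, hb⟩, Subgroup.mem_centralizer_singleton_iff.mpr (Subtype.ext hxb.eq.symm)⟩
    exact congrArg (fun z : Subgroup.centralizer ({(⟨x, hx⟩ : H)} : Set H) => ((z : H) : G)) this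

theorem ca_iff : CA G ↔ ∀ x : G, x ∉ Subgroup.center G →
    IsMulCommutative (Subgroup.centralizer ({x} : Set G)) := by
  constructor
  · intro h x hx
    exact ⟨⟨fun a b => Subtype.ext (h x a b hx
      (Subgroup.mem_centralizer_singleton_iff.mp a.2).symm
      (Subgroup.mem_centralizer_singleton_iff.mp b.2).symm)⟩⟩
  · intro h x a b hx ha hb
    haveI := h x hx
    exact congrArg Subtype.val (mul_comm'
      (⟨a, Subgroup.mem_centralizer_singleton_iff.mpr ha.eq.symm⟩ :
        Subgroup.centralizer ({x} : Set G))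
      ⟨b, Subgroup.mem_centralizer_singleton_iff.mpr hb.eq.symm⟩)

/-- A red element has maximal centraliser, and is central in every proper subgroup containing
two noncommuting elements of it. -/
theorem Red.le_centralizer (h : MinNonCA G) {x : G} (hx : Red x) {H : Subgroup G} (hH : H ≠ ⊤)
    (hxH : x ∈ H) {a b : G} (ha : a ∈ H) (hb : b ∈ H) (hxa : Commute x a) (hxb : Commute x b)
    (hab : ¬ Commute a b) : H ≤ Subgroup.centralizer ({x} : Set G) := by
  intro y hy
  rw [Subgroup.mem_centralizer_singleton_iff]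
  by_contra hxy
  exact hab (h.proper H hH x hxH ⟨y, hy, fun h' => hxy h'.symm⟩ a ha b hb hxa hxb)

theorem Red.centralizer_ne_top {x : G} (hx : Red x) :
    Subgroup.centralizer ({x} : Set G) ≠ ⊤ := by
  intro h
  refine hx.1 (Subgroup.mem_center_iff.mpr fun g => ?_)
  have : g ∈ Subgroup.centralizer ({x} : Set G) := h ▸ Subgroup.mem_top g
  exact Subgroup.mem_centralizer_singleton_iff.mp this

theorem Red.isCoatom (h : MinNonCA G) {x : G} (hx : Red x) :
    IsCoatom (Subgroup.centralizer ({x} : Set G)) := by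
  refine ⟨hx.centralizer_ne_top, fun H hlt => ?_⟩
  by_contra hH
  obtain ⟨a, b, ha, hb, hab⟩ := hx.2
  refine not_le_of_gt hlt (hx.le_centralizer h hH (hlt.le ?_) (hlt.le ?_) (hlt.le ?_) ha hb hab)
  · exact Subgroup.mem_centralizer_singleton_iff.mpr rfl
  · exact Subgroup.mem_centralizer_singleton_iff.mpr ha.eq.symm
  · exact Subgroup.mem_centralizer_singleton_iff.mpr hb.eq.symm

end CfsgLib.MinNonCA98
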