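import Mathlib
import Cfsg.Agent.MinNonCA98.Defs

/-!
# The parts of piece D (recognition), as propositions
-/

set_option autoImplicit false

namespace CfsgLib.MinNonCA98

universe u

/-- What is known about a Klein four Sylow 2-subgroup and the centraliser of one of its
involutions: `C(t) = K * V` with `K` odd and normal, `C(V)` abelian, an element `f` of `N(V)`
moves `t` to `u`. -/
structure KleinData (G : Type u) [Group G] where
  V : Sylow 2 G
  t : G
  u : G
  f : G
  K : Subgroup G
  card_V : Nat.card (V : Subgroup G) = 4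
  sq_V : ∀ a ∈ (V : Subgroup G), a * a = 1
  t_mem : t ∈ (V : Subgroup G)
  u_mem : u ∈ (V : Subgroup G)
  t_ne : t ≠ 1
  u_ne : u ≠ 1
  ne : u ≠ t
  t_red : Red t
  f_mem : f ∈ Subgroup.normalizer ((V : Subgroup G) : Set G)
  f_t : f * t * f⁻¹ = u
  K_odd : Odd (Nat.card K)
  K_le : K ≤ Subgroup.centralizer ({t} : Set G)
  K_norm : ∀ g : G, Commute t g → ∀ k ∈ K, g * k * g⁻¹ ∈ K
  cent : ∀ g : G, Commute t g → ∃ k ∈ K, ∃ v ∈ (V : Subgroup G), g = k * v
  cent_V : ∀ a b : G, (∀ v ∈ (V : Subgroup G), Commute v a) →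
    (∀ v ∈ (V : Subgroup G), Commute v b) → Commute a b

/-- D1: some involution has a nonabelian centraliser. -/
def InvolutionStep : Prop :=
  ∀ (G : Type u) [Group G] [Finite G], MinNonCA G → commutator G = ⊤ →
    IsSimpleGroup (G ⧸ Subgroup.center G) → Odd (Nat.card (Subgroup.center G)) →
      ∃ t : G, orderOf t = 2 ∧ Red t

/-- D2: the Sylow 2-subgroups are four groups and the centraliser data holds. -/
def KleinStep : Prop :=
  ∀ (G : Type u) [Group G] [Finite G], MinNonCA G → commutator G = ⊤ →
    IsSimpleGroup (G ⧸ Subgroup.center G) → Odd (Nat.card (Subgroup.center G)) →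
      (∃ t : G, orderOf t = 2 ∧ Red t) → Nonempty (KleinData G)

/-- D3: the four group case is a two-dimensional linear group modulo the centre. -/
def EndStep : Prop :=
  ∀ (G : Type u) [Group G] [Finite G], MinNonCA G → commutator G = ⊤ →
    IsSimpleGroup (G ⧸ Subgroup.center G) → Odd (Nat.card (Subgroup.center G)) → KleinData G →
      ∃ (F : Type) (_ : Field F) (_ : Fintype F), Odd (Fintype.card F) ∧ 5 ≤ Fintype.card F ∧
        Fintype.card F ≠ 9 ∧
        Nonempty (G ⧸ Subgroup.center G ≃* Matrix.ProjectiveSpecialLinearGroup (Fin 2) F)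

/-- D4: an odd perfect central extension of such a group splits trivially. -/
def CoverStep : Prop :=
  ∀ (G : Type u) [Group G] [Finite G] (F : Type) [Field F] [Fintype F],
    commutator G = ⊤ → Odd (Nat.card (Subgroup.center G)) →
    Odd (Fintype.card F) → 5 ≤ Fintype.card F → Fintype.card F ≠ 9 →
    Nonempty (G ⧸ Subgroup.center G ≃* Matrix.ProjectiveSpecialLinearGroup (Fin 2) F) →
      Nonempty (G ≃* Matrix.ProjectiveSpecialLinearGroup (Fin 2) F)

end CfsgLib.MinNonCA98
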