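import Mathlib
import Cfsg.Agent.S0205

/-!
# Small solvability criteria used for the solvable radical of a minimal non-CA group
-/

set_option autoImplicit false

namespace CfsgLib.MinNonCA98.Rad

variable {G : Type*} [Group G]

/-- An element with two coprime powers in a subgroup lies in it. -/
theorem mem_of_pow_mem {K : Subgroup G} {a : G} {i j : ℕ} (hij : Nat.Coprime i j)
    (hi : a ^ i ∈ K) (hj : a ^ j ∈ K) : a ∈ K := by
  have hb : (1 : ℤ) = i * Nat.gcdA i j + j * Nat.gcdB i j := by
    have h := Nat.gcd_eq_gcd_ab i j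
    rw [hij.gcd_eq_one] at h
    exact_mod_cast h
  rw [← zpow_one a, hb, zpow_add, zpow_mul, zpow_mul, zpow_natCast, zpow_natCast]
  exact mul_mem (zpow_mem hi _) (zpow_mem hj _)

/-- An element with two coprime vanishing powers is trivial. -/
theorem eq_one_of_pow {a : G} {i j : ℕ} (hij : Nat.Coprime i j) (hi : a ^ i = 1)
    (hj : a ^ j = 1) : a = 1 :=
  Subgroup.mem_bot.mp (mem_of_pow_mem hij (Subgroup.mem_bot.mpr hi) (Subgroup.mem_bot.mpr hj))

theorem exists_two_pow_mul_odd [Finite G] (a : G) :
    ∃ k m : ℕ, Odd m ∧ orderOf a = 2 ^ k * m ∧ orderOf (a ^ m) = 2 ^ k ∧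
      orderOf (a ^ (2 ^ k)) = m := by
  obtain ⟨k, m, hm, he⟩ := Nat.exists_eq_two_pow_mul_odd (orderOf_pos a).ne'
  refine ⟨k, m, hm, he, ?_, ?_⟩
  · rw [orderOf_pow' a (by rcases hm with ⟨r, rfl⟩; omega), he,
      Nat.gcd_eq_right (dvd_mul_left m _), Nat.mul_div_cancel _ (by rcases hm with ⟨r, rfl⟩; omega)]
  · rw [orderOf_pow' a (by positivity), he, Nat.gcd_eq_right (dvd_mul_right _ m),
      Nat.mul_div_cancel_left _ (by positivity)]

/-- A nontrivial element has, among its powers, an involution or an element of odd prime order;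
for elements of two-power order, an involution. -/
theorem exists_pow_involution {a : G} {k : ℕ} (hk : orderOf a = 2 ^ k) (ha : a ≠ 1) :
    ∃ i : ℕ, a ^ i ≠ 1 ∧ a ^ i * a ^ i = 1 := by
  rcases k with _ | k
  · exact absurd (orderOf_eq_one_iff.mp (by simpa using hk)) ha
  · refine ⟨2 ^ k, fun h => ?_, ?_⟩
    · have h1 := orderOf_dvd_of_pow_eq_one h
      rw [hk, Nat.pow_dvd_pow_iff_le_right one_lt_two] at h1
      omega
    · rw [← pow_add, ← two_mul, ← pow_succ', ← hk, pow_orderOf_eq_one]

theorem exists_orderOf_two_pow {P : Subgroup G} (hP : IsPGroup 2 P) {a : G} (ha : a ∈ P) :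
    ∃ k : ℕ, orderOf a = 2 ^ k := by
  haveI : Fact (Nat.Prime 2) := ⟨Nat.prime_two⟩
  obtain ⟨k, hk⟩ := IsPGroup.iff_orderOf.mp hP ⟨a, ha⟩
  exact ⟨k, by rwa [Subgroup.orderOf_mk] at hk⟩

section Finite

variable [Finite G]

/-- A group with a normal Sylow 2-subgroup is solvable. -/
theorem solvable_of_normal_sylow_two (S : Sylow 2 G) (hS : (S : Subgroup G).Normal) :
    Group.IsSolvable G := by
  haveI : Fact (Nat.Prime 2) := ⟨Nat.prime_two⟩
  haveI : Group.IsNilpotent (S : Subgroup G) := S.2.isNilpotent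
  haveI : Group.IsSolvable (S : Subgroup G) := inferInstance
  haveI := hS
  have hodd : Odd (Nat.card (G ⧸ (S : Subgroup G))) := by
    rw [← Subgroup.index_eq_card, Nat.odd_iff, ← Nat.two_dvd_ne_zero]
    exact S.not_dvd_index
  haveI : Group.IsSolvable (G ⧸ (S : Subgroup G)) := Cfsg.Agent.S0205.result hodd
  exact Group.isSolvable_of_ker_le_range (S : Subgroup G).subtype
    (QuotientGroup.mk' (S : Subgroup G))
    (by rw [Subgroup.range_subtype, QuotientGroup.ker_mk'])

/-- Burnside transfer with the odd order theorem. -/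
theorem solvable_of_normalizer_le (P : Sylow 2 G)
    (hP : Subgroup.normalizer ((P : Subgroup G) : Set G) ≤ Subgroup.centralizer (P : Set G)) :
    Group.IsSolvable G := by
  haveI : Fact (Nat.Prime 2) := ⟨Nat.prime_two⟩
  haveI : IsMulCommutative (P : Subgroup G) :=
    ⟨⟨fun a b => Subtype.ext (hP (Subgroup.le_normalizer b.2) a a.2)⟩⟩
  haveI : Group.IsSolvable (MonoidHom.transferSylow P hP).ker :=
    Cfsg.Agent.S0205.result (Nat.not_even_iff_odd.1 fun h =>
      MonoidHom.not_dvd_card_ker_transferSylow P hP (even_iff_two_dvd.1 h))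
  haveI : Group.IsSolvable (P : Subgroup G) := Group.isSolvable_of_comm fun a b =>
    Subtype.ext (hP (Subgroup.le_normalizer b.2) a a.2)
  exact Group.isSolvable_of_ker_le_range (MonoidHom.transferSylow P hP).ker.subtype
    (MonoidHom.transferSylow P hP) (by rw [Subgroup.range_subtype])

/-- A Sylow 2-subgroup with abelian normalizer makes the group solvable. -/
theorem solvable_of_comm_normalizer (P : Sylow 2 G)
    (h : ∀ a ∈ Subgroup.normalizer ((P : Subgroup G) : Set G),
      ∀ b ∈ Subgroup.normalizer ((P : Subgroup G) : Set G), Commute a b) :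
    Group.IsSolvable G :=
  solvable_of_normalizer_le P fun n hn =>
    Subgroup.mem_centralizer_iff.mpr fun a ha => (h a (Subgroup.le_normalizer ha) n hn).eq

/-- An abelian Sylow 2-subgroup with only one involution makes the group solvable. -/
theorem solvable_of_unique_involution (P : Sylow 2 G)
    (hc : ∀ a ∈ (P : Subgroup G), ∀ b ∈ (P : Subgroup G), Commute a b)
    (hu : ∀ a ∈ (P : Subgroup G), ∀ b ∈ (P : Subgroup G), a ≠ 1 → b ≠ 1 → a * a = 1 → b * b = 1 →
      a = b) :
    Group.IsSolvable G := by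
  haveI : Fact (Nat.Prime 2) := ⟨Nat.prime_two⟩
  refine solvable_of_normalizer_le P fun n hn => ?_
  obtain ⟨k, m, hm, -, hk, hm'⟩ := exists_two_pow_mul_odd n
  refine mem_of_pow_mem (i := 2 ^ k) (j := m) ?_ ?_ ?_
  · exact Nat.Coprime.pow_left _ hm.coprime_two_left
  · set o := n ^ 2 ^ k with ho
    have hoN : o ∈ Subgroup.normalizer ((P : Subgroup G) : Set G) := pow_mem hn _
    suffices hall : ∀ (e : ℕ) (x : G), x ∈ (P : Subgroup G) → x ^ (2 ^ e) = 1 → Commute x o by
      refine Subgroup.mem_centralizer_iff.mpr fun x hx => ?_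
      obtain ⟨e, he⟩ := exists_orderOf_two_pow P.2 hx
      exact (hall e x hx (by rw [← he, pow_orderOf_eq_one])).eq
    intro e
    induction e with
    | zero =>
      intro x _ hx
      rw [pow_zero, pow_one] at hx
      rw [hx]
      exact Commute.one_left _
    | succ e ih =>
      intro x hx hxe
      set c := x⁻¹ * (o * x * o⁻¹) with hcdef
      have hxo : o * x * o⁻¹ ∈ (P : Subgroup G) := (Subgroup.mem_normalizer_iff.mp hoN x).mp hx
      have hcP : c ∈ (P : Subgroup G) := mul_mem (inv_mem hx) hxo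
      have hx2 : Commute (x * x) o :=
        ih (x * x) (mul_mem hx hx) (by rw [← pow_two, ← pow_mul, ← pow_succ']; exact hxe)
      have hc2 : c * c = 1 := by
        have h1 : o * (x * x) * o⁻¹ = x * x := by rw [← hx2.eq, mul_inv_cancel_right]
        have h2 : Commute x⁻¹ (o * x * o⁻¹) := hc _ (inv_mem hx) _ hxo
        calc c * c = x⁻¹ * x⁻¹ * (o * (x * x) * o⁻¹) := by
              rw [hcdef, mul_assoc, ← mul_assoc (o * x * o⁻¹), ← h2.eq]
              group
          _ = 1 := by rw [h1]; group
      have hco : o * c * o⁻¹ = c := by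
        by_cases h1 : c = 1
        · rw [h1]; group
        · refine hu _ ((Subgroup.mem_normalizer_iff.mp hoN c).mp hcP) _ hcP ?_ h1 ?_ hc2
          · exact fun h => h1 (conj_eq_one_iff.mp h)
          · rw [show o * c * o⁻¹ * (o * c * o⁻¹) = o * (c * c) * o⁻¹ by group, hc2]; group
      have hit : ∀ i : ℕ, o ^ i * x * (o ^ i)⁻¹ = x * c ^ i := by
        intro i
        induction i with
        | zero => simp
        | succ i hi =>
          have hci : o * c ^ i * o⁻¹ = c ^ i := by rw [← conj_pow, hco]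
          calc o ^ (i + 1) * x * (o ^ (i + 1))⁻¹ = o * (o ^ i * x * (o ^ i)⁻¹) * o⁻¹ := by
                rw [pow_succ']; group
            _ = (o * x * o⁻¹) * (o * c ^ i * o⁻¹) := by rw [hi]; group
            _ = x * c * c ^ i := by rw [hci, hcdef]; group
            _ = x * c ^ (i + 1) := by rw [pow_succ', mul_assoc]
      have hm1 : c ^ m = 1 := by
        have h1 := hit m
        have h2 : o ^ m = 1 := by rw [← hm']; exact pow_orderOf_eq_one o
        rw [h2] at h1
        simpa using h1
      have hc1 : c = 1 := eq_one_of_pow hm.coprime_two_left (by rw [pow_two, hc2]) hm1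
      exact (mul_inv_eq_iff_eq_mul.mp (inv_mul_eq_one.mp hc1).symm).symm
  · have hPn : IsPGroup 2 (Subgroup.zpowers (n ^ m)) := by
      refine IsPGroup.iff_card.mpr ⟨k, ?_⟩
      rw [Nat.card_zpowers, hk]
    have hsup : IsPGroup 2 ↥(Subgroup.zpowers (n ^ m) ⊔ (P : Subgroup G)) :=
      hPn.to_sup_of_normal_right' P.2 (Subgroup.zpowers_le.mpr (pow_mem hn _))
    have hle : n ^ m ∈ (P : Subgroup G) := by
      rw [← P.3 hsup le_sup_right]
      exact Subgroup.mem_sup_left (Subgroup.mem_zpowers _)
    exact Subgroup.mem_centralizer_iff.mpr fun a ha => (hc a ha _ hle).eq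

/-- A group in which elements of 2-power order square to one and any two involutions generate a
2-group is solvable. -/
theorem solvable_of_involutions
    (hsq : ∀ (a : G) (k : ℕ), orderOf a = 2 ^ k → a * a = 1)
    (hpair : ∀ a b : G, a * a = 1 → b * b = 1 → IsPGroup 2 ↥(Subgroup.closure ({a, b} : Set G)))
    (hBS : ∀ C : Set G, (∀ g c : G, c ∈ C → g * c * g⁻¹ ∈ C) →
      (∀ a ∈ C, ∀ b ∈ C, IsPGroup 2 ↥(Subgroup.closure ({a, b} : Set G))) →
      IsPGroup 2 ↥(Subgroup.closure C)) :
    Group.IsSolvable G := by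
  haveI : Fact (Nat.Prime 2) := ⟨Nat.prime_two⟩
  set C : Set G := {a | a * a = 1} with hC
  have hcl : IsPGroup 2 ↥(Subgroup.closure C) :=
    hBS C (fun g c (hc : c * c = 1) => show _ = _ by
      rw [show g * c * g⁻¹ * (g * c * g⁻¹) = g * (c * c) * g⁻¹ by group, hc]; group)
      (fun a ha b hb => hpair a b ha hb)
  have hle : ∀ P : Sylow 2 G, (P : Subgroup G) ≤ Subgroup.closure C := fun P a ha => by
    obtain ⟨k, hk⟩ := exists_orderOf_two_pow P.2 ha
    exact Subgroup.subset_closure (hsq a k hk)
  haveI : Subsingleton (Sylow 2 G) :=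
    ⟨fun P Q => Sylow.ext ((P.3 hcl (hle P)).symm.trans (Q.3 hcl (hle Q)))⟩
  exact solvable_of_normal_sylow_two default (Sylow.normal_of_subsingleton _)

end Finite

/-- A group generated by two involutions is solvable. -/
theorem solvable_of_two_involutions {a b : G} (ha : a * a = 1) (hb : b * b = 1)
    (htop : Subgroup.closure ({a, b} : Set G) = ⊤) : Group.IsSolvable G := by
  set N := Subgroup.zpowers (a * b) with hN
  have hai : a⁻¹ = a := inv_eq_of_mul_eq_one_right ha
  have hbi : b⁻¹ = b := inv_eq_of_mul_eq_one_right hb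
  have key : ∀ s : G, s * (a * b) * s⁻¹ = (a * b)⁻¹ → s ∈ Subgroup.normalizer (N : Set G) := by
    intro s hs
    rw [Subgroup.mem_normalizer_iff_map_conj_eq, hN, MonoidHom.map_zpowers]
    simp only [MonoidHom.coe_coe, MulEquiv.toMonoidHom_eq_coe, MulAut.conj_apply, hs,
      Subgroup.zpowers_inv]
  haveI hnorm : N.Normal := by
    rw [← Subgroup.normalizer_eq_top_iff, ← top_le_iff, ← htop, Subgroup.closure_le]
    rintro s (rfl | rfl)
    · exact key _ (by rw [mul_inv_rev, hbi, hai, ← mul_assoc, ha, one_mul])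
    · exact key _ (by rw [mul_inv_rev, hbi, hai]; simp [mul_assoc, hb])
  haveI : Group.IsSolvable N := by
    rw [hN]
    exact Group.isSolvable_of_comm fun x y => mul_comm' x y
  haveI : Group.IsSolvable (G ⧸ N) := by
    set q := QuotientGroup.mk' N
    have hq : (Subgroup.zpowers (q a)) = ⊤ := by
      rw [← top_le_iff, ← Subgroup.map_top_of_surjective q (QuotientGroup.mk'_surjective N), ← htop,
        MonoidHom.map_closure, Subgroup.closure_le]
      rintro _ ⟨s, hs, rfl⟩
      rcases hs with hs | hs <;> rw [hs]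
      · exact Subgroup.mem_zpowers _
      · have h1 : q (a * b) = 1 := (QuotientGroup.eq_one_iff _).mpr (Subgroup.mem_zpowers _)
        rw [map_mul] at h1
        rw [SetLike.mem_coe, eq_inv_of_mul_eq_one_right h1]
        exact inv_mem (Subgroup.mem_zpowers _)
    refine Group.isSolvable_of_comm fun x y => ?_
    obtain ⟨i, rfl⟩ := Subgroup.mem_zpowers_iff.mp (hq.ge (Subgroup.mem_top x))
    obtain ⟨j, rfl⟩ := Subgroup.mem_zpowers_iff.mp (hq.ge (Subgroup.mem_top y))
    exact (Commute.zpow_zpow_self _ _ _).eq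
  exact Group.isSolvable_of_ker_le_range N.subtype (QuotientGroup.mk' N)
    (by rw [Subgroup.range_subtype, QuotientGroup.ker_mk'])

/-- A group without proper nontrivial subgroups is abelian, hence solvable. -/
theorem solvable_of_no_subgroups (h : ∀ K : Subgroup G, K = ⊥ ∨ K = ⊤) : Group.IsSolvable G := by
  refine Group.isSolvable_of_comm fun x y => ?_
  rcases h (Subgroup.zpowers x) with h0 | h1
  · rw [Subgroup.zpowers_eq_bot.mp h0, one_mul, mul_one]
  · obtain ⟨i, rfl⟩ := Subgroup.mem_zpowers_iff.mp (h1.ge (Subgroup.mem_top y))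
    exact (Commute.self_zpow x i).eq

end CfsgLib.MinNonCA98.Rad
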