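import Mathlib
import Cfsg.Agent.MinNonCA98.DSteps
import Cfsg.Agent.MinNonCA98.RadicalBasic
import Cfsg.Agent.CAGroups.AbelianInvolutionSplit
import Cfsg.Agent.SteinbergSL.PSL

/-!
# Pieces D1 (some involution is red) and D4 (odd perfect covers of `PSL(2, q)` are trivial)
-/

set_option autoImplicit false

namespace CfsgLib.MinNonCA98

universe u

/-- Piece D4. -/
theorem coverStep : CoverStep.{u} := by
  intro G _ _ F _ _ hperf hodd hq hq5 hq9 ⟨e⟩
  set τ : G →* Matrix.ProjectiveSpecialLinearGroup (Fin 2) F :=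
    e.toMonoidHom.comp (QuotientGroup.mk' (Subgroup.center G)) with hτ
  have hker : τ.ker = Subgroup.center G := by
    ext g
    simp [hτ, MonoidHom.mem_ker, QuotientGroup.eq_one_iff]
  have hstem : Cfsg.IsStemExtension τ :=
    ⟨e.surjective.comp (QuotientGroup.mk'_surjective _), hker.le, by rw [hperf]; exact le_top⟩
  have hgood : CfsgLib.SteinbergSL.PSLGood 2 (Fintype.card F) :=
    Or.inl ⟨rfl, by omega, by omega, hq9⟩
  obtain ⟨π, hπ⟩ := CfsgLib.SteinbergSL.exists_surjective_center hgood τ hstem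
  have hdvd : Nat.card τ.ker ∣ 2 := by
    refine (Subgroup.card_dvd_of_surjective π hπ).trans ?_
    rw [CfsgLib.Classical.Linear.center_sl_card, Fintype.card_fin]
    exact Nat.gcd_dvd_left _ _
  have hone : Nat.card τ.ker = 1 := by
    rcases (Nat.dvd_prime Nat.prime_two).mp hdvd with h1 | h2
    · exact h1
    · rw [hker] at h2
      rw [h2] at hodd
      exact absurd hodd (Nat.not_odd_iff_even.mpr even_two)
  have hinj : Function.Injective τ := τ.ker_eq_bot_iff.1 (Subgroup.eq_bot_of_card_eq _ hone)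
  exact ⟨MulEquiv.ofBijective τ ⟨hinj, hstem.1⟩⟩

/-- Two matrices of size two commuting with a nonscalar one commute. -/
theorem commute_trans_sl2 {F : Type*} [Field F] {x a b : Matrix.SpecialLinearGroup (Fin 2) F}
    (hx : x ∉ Subgroup.center (Matrix.SpecialLinearGroup (Fin 2) F))
    (hxa : Commute x a) (hxb : Commute x b) : Commute a b := by
  have hns : ¬ (x 0 1 = 0 ∧ x 1 0 = 0 ∧ x 0 0 = x 1 1) := by
    rintro ⟨h1, h2, h3⟩
    refine hx (Subgroup.mem_center_iff.mpr fun g => Subtype.ext ?_)
    show (g : Matrix (Fin 2) (Fin 2) F) * x = x * g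
    ext i j
    fin_cases i <;> fin_cases j <;>
      simp [Matrix.mul_apply, Fin.sum_univ_two, h1, h2, h3, mul_comm]
  have key : ∀ c : Matrix.SpecialLinearGroup (Fin 2) F, Commute x c →
      x 0 1 * c 1 0 = c 0 1 * x 1 0 ∧ x 0 1 * (c 0 0 - c 1 1) = c 0 1 * (x 0 0 - x 1 1) ∧
        x 1 0 * (c 0 0 - c 1 1) = c 1 0 * (x 0 0 - x 1 1) := by
    intro c hc
    have h : (x : Matrix (Fin 2) (Fin 2) F) * c = (c : Matrix (Fin 2) (Fin 2) F) * x :=
      congrArg Subtype.val hc.eq
    have h00 := congrFun (congrFun h 0) 0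
    have h01 := congrFun (congrFun h 0) 1
    have h10 := congrFun (congrFun h 1) 0
    simp only [Matrix.mul_apply, Fin.sum_univ_two] at h00 h01 h10
    exact ⟨by linear_combination h00, by linear_combination -h01, by linear_combination h10⟩
  obtain ⟨a1, a2, a3⟩ := key a hxa
  obtain ⟨b1, b2, b3⟩ := key b hxb
  have e1 : a 0 1 * b 1 0 = b 0 1 * a 1 0 := by
    rcases not_and_or.mp hns with h | h
    · exact mul_left_cancel₀ h (by linear_combination a 0 1 * b1 - b 0 1 * a1)
    rcases not_and_or.mp h with h | h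
    · exact mul_left_cancel₀ h (by linear_combination b 1 0 * (-a1) + a 1 0 * b1)
    · exact mul_left_cancel₀ (sub_ne_zero.mpr h)
        (by linear_combination b 1 0 * (-a2) + b 0 1 * a3 + (a 0 0 - a 1 1) * b1)
  have e2 : a 0 1 * (b 0 0 - b 1 1) = b 0 1 * (a 0 0 - a 1 1) := by
    rcases not_and_or.mp hns with h | h
    · exact mul_left_cancel₀ h (by linear_combination a 0 1 * b2 - b 0 1 * a2)
    rcases not_and_or.mp h with h | h
    · exact mul_left_cancel₀ h
        (by linear_combination a 0 1 * b3 - b 0 1 * a3 + (x 0 0 - x 1 1) * e1)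
    · exact mul_left_cancel₀ (sub_ne_zero.mpr h)
        (by linear_combination (b 0 0 - b 1 1) * (-a2) + (a 0 0 - a 1 1) * b2)
  have e3 : a 1 0 * (b 0 0 - b 1 1) = b 1 0 * (a 0 0 - a 1 1) := by
    rcases not_and_or.mp hns with h | h
    · exact mul_left_cancel₀ h
        (by linear_combination a 1 0 * b2 - b 1 0 * a2 - (x 0 0 - x 1 1) * e1)
    rcases not_and_or.mp h with h | h
    · exact mul_left_cancel₀ h (by linear_combination a 1 0 * b3 - b 1 0 * a3)
    · exact mul_left_cancel₀ (sub_ne_zero.mpr h)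
        (by linear_combination (b 0 0 - b 1 1) * (-a3) + (a 0 0 - a 1 1) * b3)
  refine Subtype.ext ?_
  show (a : Matrix (Fin 2) (Fin 2) F) * b = (b : Matrix (Fin 2) (Fin 2) F) * a
  ext i j
  fin_cases i <;> fin_cases j <;> simp only [Matrix.mul_apply, Fin.sum_univ_two, Fin.zero_eta,
    Fin.mk_one]
  · linear_combination e1
  · linear_combination -e2
  · linear_combination e3
  · linear_combination -e1

/-- Piece D1. -/
theorem involutionStep : InvolutionStep.{u} := by
  intro G _ _ h hperf _ hodd
  haveI : Fact (Nat.Prime 2) := ⟨Nat.prime_two⟩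
  by_contra hno
  push Not at hno
  let T : Sylow 2 G := default
  have heven : 2 ∣ Nat.card G := by
    by_contra hodd'
    exact h.not_solvable (Cfsg.Agent.S0205.result (Nat.not_even_iff_odd.1 fun he =>
      hodd' (even_iff_two_dvd.1 he)))
  have hcent : ∀ t : G, orderOf t = 2 →
      IsMulCommutative (Subgroup.centralizer ({t} : Set G)) := by
    intro t ht
    have htz : t ∉ Subgroup.center G := fun hz => by
      have hd := Subgroup.orderOf_dvd_natCard (Subgroup.center G) hz
      rw [ht] at hd
      exact Nat.not_odd_iff_even.mpr (even_iff_two_dvd.mpr hd) hodd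
    refine ⟨⟨fun a b => Subtype.ext ?_⟩⟩
    by_contra hab
    exact hno t ht ⟨htz, a, b, (Subgroup.mem_centralizer_singleton_iff.mp a.2).symm,
      (Subgroup.mem_centralizer_singleton_iff.mp b.2).symm, hab⟩
  have hyp : CfsgLib.CAGroups.AbelianCent.Hyp T := by
    refine ⟨fun hcyc => ?_, fun hn => h.not_solvable (Rad.solvable_of_normal_sylow_two T hn), hcent⟩
    have hmin : (Nat.card G).minFac = 2 := (Nat.minFac_eq_two_iff _).mpr heven
    set f := MonoidHom.transferSylow T (hcyc.normalizer_le_centralizer hmin) with hf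
    haveI := hcyc
    have hker : f.ker = ⊤ := by
      rw [eq_top_iff, ← hperf, commutator_def, Subgroup.commutator_le]
      intro a _ b _
      rw [MonoidHom.mem_ker, map_commutatorElement, commutatorElement_eq_one_iff_commute]
      letI := IsCyclic.commGroup (α := (T : Subgroup G))
      exact Commute.all _ _
    have hdis : f.ker ⊓ (T : Subgroup G) = ⊥ :=
      disjoint_iff.mp (IsCyclic.isComplement' hmin hcyc).disjoint
    rw [hker, top_inf_eq] at hdis
    exact T.ne_bot_of_dvd_card heven hdis
  obtain ⟨A, S⟩ := CfsgLib.CAGroups.AbelianCent.exists_split hyp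
  obtain ⟨F, _, _, φ, hchar, -, -, hφ, hker⟩ := S.sl2 hyp
  have hstem : Cfsg.IsStemExtension φ :=
    ⟨hφ, by rw [hker]; exact S.le_center, by rw [hperf]; exact le_top⟩
  have hA : A = ⊥ := by
    refine Subgroup.eq_bot_of_card_eq _ (Nat.eq_one_iff_not_exists_prime_dvd.2 fun r hr hrA => ?_)
    have hr2 : r ≠ 2 := fun e2 => by
      subst e2
      exact Nat.not_odd_iff_even.mpr (even_iff_two_dvd.mpr hrA) S.odd
    haveI : Fact r.Prime := ⟨hr⟩
    haveI := hchar
    obtain ⟨R⟩ : Nonempty (Sylow r (Matrix.SpecialLinearGroup (Fin 2) F)) := inferInstance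
    haveI := CfsgLib.SL2.isCyclic_sylow_odd (p := 2) hr2 hr2 R
    have hidx : ¬ r ∣ (R : Subgroup (Matrix.SpecialLinearGroup (Fin 2) F)).index := R.not_dvd_index
    have hrk : r ∣ Nat.card φ.ker := by rw [hker]; exact hrA
    exact CfsgLib.Schur.not_dvd_card_ker_of_isCyclic hstem
      (R : Subgroup (Matrix.SpecialLinearGroup (Fin 2) F)) hidx hrk
  -- now every involution centraliser is an elementary abelian Sylow 2-subgroup and `G` is CA
  have hinj : Function.Injective φ := φ.ker_eq_bot_iff.1 (hker.trans hA)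
  refine h.not_ca fun x a b hx hxa hxb => ?_
  have key := commute_trans_sl2 (F := F) (x := φ x) (a := φ a) (b := φ b)
    (fun hc => hx (Subgroup.mem_center_iff.mpr fun g =>
      hinj (by rw [map_mul, map_mul]; exact Subgroup.mem_center_iff.mp hc (φ g))))
    (hxa.map φ) (hxb.map φ)
  exact hinj (by rw [map_mul, map_mul]; exact key.eq)

end CfsgLib.MinNonCA98
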