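import Mathlib
import Cfsg.Agent.MinNonCA98.Defs

/-!
# The pieces of the proof of S4369, as propositions

The final assembly takes a proof of each of these.
-/

set_option autoImplicit false

namespace CfsgLib.MinNonCA98

universe u

/-- Piece A: solvable normal subgroups are central. -/
def RadicalStep : Prop :=
  ∀ (G : Type u) [Group G] [Finite G], MinNonCA G →
    ∀ (N : Subgroup G), N.Normal → Group.IsSolvable N → N ≤ Subgroup.center G

/-- Piece B: the group is perfect and simple modulo its centre. -/
def PerfectStep : Prop :=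
  ∀ (G : Type u) [Group G] [Finite G], MinNonCA G →
    (∀ (N : Subgroup G), N.Normal → Group.IsSolvable N → N ≤ Subgroup.center G) →
      commutator G = ⊤ ∧ IsSimpleGroup (G ⧸ Subgroup.center G)

/-- Piece C: the centre has odd order. -/
def OddCenterStep : Prop :=
  ∀ (G : Type u) [Group G] [Finite G], MinNonCA G → commutator G = ⊤ →
    IsSimpleGroup (G ⧸ Subgroup.center G) → Odd (Nat.card (Subgroup.center G))

/-- Piece D: a quasisimple group with odd centre is `PSL(2, F)` with `F` of odd order. -/
def RecognitionStep : Prop :=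
  ∀ (G : Type u) [Group G] [Finite G], MinNonCA G → commutator G = ⊤ →
    IsSimpleGroup (G ⧸ Subgroup.center G) → Odd (Nat.card (Subgroup.center G)) →
      ∃ (F : Type) (_ : Field F) (_ : Fintype F), Odd (Fintype.card F) ∧ 5 ≤ Fintype.card F ∧
        Nonempty (G ≃* Matrix.ProjectiveSpecialLinearGroup (Fin 2) F)

/-- The condition on `q` in the statement. -/
def FieldCond (q : ℕ) : Prop :=
  (q.Prime ∧ 5 < q ∧ ¬ 16 ∣ q ^ 2 - 1) ∨ (∃ p : ℕ, p.Prime ∧ p ≠ 2 ∧ (q = 3 ^ p ∨ q = 5 ^ p))

/-- Piece E: which `PSL(2, F)` are minimal non-CA, in both directions. -/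
def FieldStep : Prop :=
  ∀ (F : Type) [Field F] [Fintype F],
    (Odd (Fintype.card F) → MinNonCA (Matrix.ProjectiveSpecialLinearGroup (Fin 2) F) →
        FieldCond (Fintype.card F)) ∧
    (FieldCond (Fintype.card F) → MinNonCA (Matrix.ProjectiveSpecialLinearGroup (Fin 2) F))

end CfsgLib.MinNonCA98
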