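import Mathlib

/-!
# An abelian 2-group with a four group of involutions and two roots is homocyclic
-/

set_option autoImplicit false

namespace CfsgLib.MinNonCA98

variable {S : Type*} [CommGroup S] [Finite S]

theorem card_pow_two_kernel (h4 : Nat.card (powMonoidHom 2 : S →* S).ker ≤ 4) :
    ∀ j : ℕ, Nat.card (powMonoidHom (2 ^ j) : S →* S).ker ≤ 4 ^ j := by
  intro j
  induction j with
  | zero =>
    have e : (powMonoidHom (2 ^ 0) : S →* S).ker = ⊥ := by
      ext x
      simp [MonoidHom.mem_ker, powMonoidHom_apply]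
    rw [e, Subgroup.card_bot, pow_zero]
  | succ j ih =>
    set K := (powMonoidHom (2 ^ (j + 1)) : S →* S).ker with hK
    let φ : K →* (powMonoidHom (2 ^ j) : S →* S).ker :=
      MonoidHom.mk' (fun x => ⟨(x : S) ^ 2, by
        have := MonoidHom.mem_ker.mp x.2
        rw [powMonoidHom_apply] at this
        rw [MonoidHom.mem_ker, powMonoidHom_apply, ← pow_mul, ← pow_succ']
        exact this⟩) fun a b => Subtype.ext (mul_pow _ _ 2)
    have h1 : Nat.card φ.ker ≤ 4 := by
      refine le_trans (Nat.card_le_card_of_injective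
        (fun x : φ.ker => (⟨((x : K) : S), ?_⟩ : (powMonoidHom 2 : S →* S).ker)) ?_) h4
      · have := congrArg Subtype.val (MonoidHom.mem_ker.mp x.2)
        rw [MonoidHom.mem_ker, powMonoidHom_apply]
        exact this
      · intro x y e
        exact Subtype.ext (Subtype.ext (congrArg Subtype.val e :))
    have h2 : Nat.card φ.range ≤ 4 ^ j := le_trans (Subgroup.card_le_card_group φ.range) ih
    rw [Subgroup.card_eq_card_quotient_mul_card_subgroup φ.ker,
      Nat.card_congr (QuotientGroup.quotientKerEquivRange φ).toEquiv, pow_succ]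
    exact Nat.mul_le_mul h2 h1

/-- Two roots `r`, `r'` of different involutions generate everything. -/
theorem exists_equiv_zmod_sq {m : ℕ} (hm : 1 ≤ m) (hexp : ∀ x : S, x ^ 2 ^ m = 1)
    (h4 : Nat.card (powMonoidHom 2 : S →* S).ker ≤ 4) {r r' : S}
    (hr : r ^ 2 ^ (m - 1) ≠ 1) (hr' : r' ^ 2 ^ (m - 1) ≠ 1)
    (hne : r ^ 2 ^ (m - 1) ≠ r' ^ 2 ^ (m - 1)) :
    Nonempty (S ≃* Multiplicative (ZMod (2 ^ m) × ZMod (2 ^ m))) := by
  haveI : Fact (Nat.Prime 2) := ⟨Nat.prime_two⟩
  obtain ⟨k, rfl⟩ : ∃ k, m = k + 1 := ⟨m - 1, by omega⟩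
  rw [Nat.add_sub_cancel] at hr hr' hne
  have ho : ∀ {x : S}, x ^ 2 ^ k ≠ 1 → orderOf x = 2 ^ (k + 1) := fun hx =>
    orderOf_eq_prime_pow hx (hexp _)
  have hA : ∀ {x : S}, x ^ 2 ^ k ≠ 1 → ∀ i : ℕ, x ^ i ≠ 1 →
      ∃ l : ℕ, (x ^ i) ^ l = x ^ 2 ^ k := by
    intro x hx i hi
    have hdvd : orderOf (x ^ i) ∣ 2 ^ (k + 1) := ho hx ▸ orderOf_pow_dvd i
    obtain ⟨e, he, he'⟩ := (Nat.dvd_prime_pow Nat.prime_two).mp hdvd
    rcases e with _ | e
    · exact absurd (orderOf_eq_one_iff.mp (by simpa using he')) hi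
    · have hy : ((x ^ i) ^ 2 ^ e) ∈ Subgroup.zpowers x :=
        Subgroup.pow_mem _ (Subgroup.pow_mem _ (Subgroup.mem_zpowers x) i) _
      obtain ⟨q, hq⟩ := mem_powers_iff_mem_zpowers.mpr hy
      have hy2 : orderOf ((x ^ i) ^ 2 ^ e) = 2 := by
        rw [orderOf_pow_of_dvd (by positivity) (by rw [he']; exact pow_dvd_pow 2 (by omega)), he',
          pow_succ, Nat.mul_div_cancel_left _ (by positivity)]
      refine ⟨2 ^ e, ?_⟩
      have hq2 : (x ^ q) ^ 2 = 1 := by
        have h' := pow_orderOf_eq_one ((x ^ i) ^ 2 ^ e)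
        rw [hy2] at h'
        rw [show x ^ q = (x ^ i) ^ 2 ^ e from hq]
        exact h'
      rw [← pow_mul] at hq2
      have hd : 2 ^ (k + 1) ∣ q * 2 := ho hx ▸ orderOf_dvd_of_pow_eq_one hq2
      rw [pow_succ] at hd
      obtain ⟨c, rfl⟩ := Nat.dvd_of_mul_dvd_mul_right (by norm_num : 0 < 2) hd
      have hxc : (x ^ 2 ^ k) ^ 2 = 1 := by rw [← pow_mul, ← pow_succ]; exact hexp x
      rcases Nat.even_or_odd' c with ⟨d, rfl | rfl⟩
      · exfalso
        rw [show (x ^ i) ^ 2 ^ e = x ^ (2 ^ k * (2 * d)) from hq.symm, pow_mul, pow_mul, hxc,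
          one_pow, orderOf_one] at hy2
        omega
      · rw [show (x ^ i) ^ 2 ^ e = x ^ (2 ^ k * (2 * d + 1)) from hq.symm, pow_mul, pow_succ,
          pow_mul, hxc, one_pow, one_mul]
  set A := Subgroup.zpowers r
  set B := Subgroup.zpowers r'
  have hdisj : Disjoint A B := by
    rw [Subgroup.disjoint_def]
    intro y hyA hyB
    by_contra hy
    obtain ⟨i, hi⟩ := mem_powers_iff_mem_zpowers.mpr hyA
    obtain ⟨j, hj⟩ := mem_powers_iff_mem_zpowers.mpr hyB
    simp only at hi hj
    obtain ⟨l, hl⟩ := hA hr i (by rw [hi]; exact hy)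
    obtain ⟨l', hl'⟩ := hA hr' j (by rw [hj]; exact hy)
    rw [hi] at hl
    rw [hj] at hl'
    -- both are the involution of the cyclic group generated by `y`
    have h1 : (y ^ l) ^ 2 = 1 := by rw [hl, ← pow_mul, ← pow_succ]; exact hexp r
    have h2 : (y ^ l') ^ 2 = 1 := by rw [hl', ← pow_mul, ← pow_succ]; exact hexp r'
    have o1 : orderOf (y ^ l) = 2 := orderOf_eq_prime h1 (by rw [hl]; exact hr)
    have o2 : orderOf (y ^ l') = 2 := orderOf_eq_prime h2 (by rw [hl']; exact hr')
    have hcyc : IsCyclic (Subgroup.zpowers y) := Subgroup.isCyclic_zpowers y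
    classical
    haveI := Fintype.ofFinite (Subgroup.zpowers y)
    have hc := IsCyclic.card_pow_eq_one_le (α := Subgroup.zpowers y) (n := 2) (by norm_num)
    have hsub : ({1, ⟨y ^ l, Subgroup.pow_mem _ (Subgroup.mem_zpowers y) l⟩,
        ⟨y ^ l', Subgroup.pow_mem _ (Subgroup.mem_zpowers y) l'⟩} :
          Finset (Subgroup.zpowers y)) ⊆ Finset.univ.filter fun a => a ^ 2 = 1 := by
      intro a ha
      simp only [Finset.mem_insert, Finset.mem_singleton] at ha
      rcases ha with rfl | rfl | rfl <;> simp [Subtype.ext_iff, h1, h2]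
    have hcard := (Finset.card_le_card hsub).trans hc
    rw [Finset.card_insert_of_notMem (by
        simp only [Finset.mem_insert, Finset.mem_singleton, Subtype.ext_iff, Subgroup.coe_one, hl,
          hl', not_or]
        exact ⟨fun e => hr e.symm, fun e => hr' e.symm⟩),
      Finset.card_insert_of_notMem (by
        simp only [Finset.mem_singleton, Subtype.ext_iff, hl, hl']
        exact hne), Finset.card_singleton] at hcard
    omega
  let φ : A × B →* S := A.subtype.coprod B.subtype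
  have hinj : Function.Injective φ := by
    refine (injective_iff_map_eq_one φ).mpr fun ⟨⟨p, hp⟩, ⟨q, hq⟩⟩ e => ?_
    have e' : p * q = 1 := e
    have hp1 : p = 1 := Subgroup.disjoint_def.mp hdisj hp
      (by rw [eq_inv_of_mul_eq_one_left e']; exact inv_mem hq)
    subst hp1
    rw [one_mul] at e'
    subst e'
    rfl
  have hcA : Nat.card A = 2 ^ (k + 1) := by rw [Nat.card_zpowers, ho hr]
  have hcB : Nat.card B = 2 ^ (k + 1) := by rw [Nat.card_zpowers, ho hr']
  have hle : Nat.card S ≤ Nat.card (A × B) := by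
    rw [Nat.card_prod, hcA, hcB, ← mul_pow, show (2 * 2 : ℕ) = 4 by norm_num]
    refine le_trans (le_of_eq ?_) (card_pow_two_kernel h4 (k + 1))
    have e : (powMonoidHom (2 ^ (k + 1)) : S →* S).ker = ⊤ :=
      eq_top_iff.mpr fun x _ => hexp x
    rw [e, Subgroup.card_top]
  have hbij : Function.Bijective φ :=
    (Nat.bijective_iff_injective_and_card φ).mpr
      ⟨hinj, le_antisymm (Nat.card_le_card_of_injective φ hinj) hle⟩
  refine ⟨(MulEquiv.ofBijective φ hbij).symm.trans
    ((((zmodCyclicMulEquiv (Subgroup.isCyclic_zpowers r)).symm.trans ?_).prodCongr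
      ((zmodCyclicMulEquiv (Subgroup.isCyclic_zpowers r')).symm.trans ?_)).trans
        (MulEquiv.prodMultiplicative _ _).symm)⟩
  · exact AddEquiv.toMultiplicative (ZMod.ringEquivCongr hcA).toAddEquiv
  · exact AddEquiv.toMultiplicative (ZMod.ringEquivCongr hcB).toAddEquiv

end CfsgLib.MinNonCA98
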