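import Mathlib
import Cfsg.Agent.MinNonCA98.Defs
import Cfsg.Agent.S0205

/-!
# Minimal non-CA groups: shared tools

* `isSolvable_of_normalizer_comm` : a Sylow 2-subgroup with abelian normaliser gives solvability;
* `MinNonCA.exists_red`, `MinNonCA.commute_of_proper` : the CA property inside a proper subgroup.
-/

set_option autoImplicit false

namespace CfsgLib.MinNonCA98

/-- A group with a normal subgroup of odd index in which everything is solvable. -/
theorem isSolvable_of_odd {K : Type*} [Group K] [Finite K] (h : Odd (Nat.card K)) :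
    Group.IsSolvable K := Cfsg.Agent.S0205.result h

/-- Burnside and Feit–Thompson: a Sylow 2-subgroup with abelian normaliser gives solvability. -/
theorem isSolvable_of_normalizer_comm {K : Type*} [Group K] [Finite K] (S : Sylow 2 K)
    (h : ∀ a ∈ Subgroup.normalizer ((S : Subgroup K) : Set K),
      ∀ b ∈ Subgroup.normalizer ((S : Subgroup K) : Set K), Commute a b) :
    Group.IsSolvable K := by
  haveI : Fact (Nat.Prime 2) := ⟨Nat.prime_two⟩
  have hP : Subgroup.normalizer ((S : Subgroup K) : Set K) ≤
      Subgroup.centralizer ((S : Subgroup K) : Set K) := fun a ha =>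
    Subgroup.mem_centralizer_iff.mpr fun b hb => (h b (Subgroup.le_normalizer hb) a ha).eq
  set N := (MonoidHom.transferSylow S hP).ker with hN
  have hdvd : ¬ 2 ∣ Nat.card N := MonoidHom.not_dvd_card_ker_transferSylow S hP
  haveI hNs : Group.IsSolvable N :=
    isSolvable_of_odd (Nat.odd_iff.mpr (by omega))
  haveI hSc : Group.IsSolvable (S : Subgroup K) := by
    refine Group.isSolvable_of_comm fun a b => Subtype.ext ?_
    exact (h a (Subgroup.le_normalizer a.2) b (Subgroup.le_normalizer b.2)).eq
  exact Group.isSolvable_of_ker_le_range N.subtype (MonoidHom.transferSylow S hP)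
    (by rw [Subgroup.range_subtype, hN])

variable {G : Type*} [Group G]

theorem MinNonCA.exists_red (h : MinNonCA G) : ∃ x : G, Red x := exists_red_of_not_ca h.not_ca

/-- In a proper subgroup the centraliser of a non-central element is abelian. -/
theorem MinNonCA.commute_of_proper (h : MinNonCA G) {H : Subgroup G} (hH : H ≠ ⊤) {x y a b : G}
    (hx : x ∈ H) (hy : y ∈ H) (hxy : ¬ Commute x y) (ha : a ∈ H) (hb : b ∈ H)
    (hxa : Commute x a) (hxb : Commute x b) : Commute a b :=
  h.proper H hH x hx ⟨y, hy, hxy⟩ a ha b hb hxa hxb

/-- An element of a proper subgroup with two noncommuting centralising elements is central there. -/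
theorem MinNonCA.commute_all_of_proper (h : MinNonCA G) {H : Subgroup G} (hH : H ≠ ⊤) {x y a b : G}
    (hx : x ∈ H) (hy : y ∈ H) (ha : a ∈ H) (hb : b ∈ H) (hxa : Commute x a) (hxb : Commute x b)
    (hab : ¬ Commute a b) : Commute x y := by
  by_contra hxy
  exact hab (h.commute_of_proper hH hx hy hxy ha hb hxa hxb)

theorem mem_centralizer_self (x : G) : x ∈ Subgroup.centralizer ({x} : Set G) :=
  Subgroup.mem_centralizer_singleton_iff.mpr rfl

theorem mem_centralizer_iff_commute {x y : G} :
    y ∈ Subgroup.centralizer ({x} : Set G) ↔ Commute x y :=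
  Subgroup.mem_centralizer_singleton_iff.trans ⟨fun h => h.symm, fun h => h.eq.symm⟩

theorem center_le_centralizer_singleton (x : G) :
    Subgroup.center G ≤ Subgroup.centralizer ({x} : Set G) := fun z hz =>
  mem_centralizer_iff_commute.mpr (Subgroup.mem_center_iff.mp hz x)

/-- A maximal subgroup is self-normalising unless it is normal. -/
theorem Red.normalizer_eq (h : MinNonCA G) {x : G} (hx : Red x)
    (hn : ¬ (Subgroup.centralizer ({x} : Set G)).Normal) :
    Subgroup.normalizer ((Subgroup.centralizer ({x} : Set G)) : Set G) =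
      Subgroup.centralizer ({x} : Set G) := by
  rcases (hx.isCoatom h).le_iff.mp
    (Subgroup.le_normalizer (H := Subgroup.centralizer ({x} : Set G))) with h1 | h1
  · exact absurd (Subgroup.normalizer_eq_top_iff.mp h1) hn
  · exact h1

/-- An element centralised by a red centraliser, not central, has the same centraliser. -/
theorem Red.centralizer_eq (h : MinNonCA G) {x z : G} (hx : Red x)
    (hz : ∀ y : G, Commute x y → Commute z y) (hznc : z ∉ Subgroup.center G) :
    Red z ∧ Subgroup.centralizer ({z} : Set G) = Subgroup.centralizer ({x} : Set G) := by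
  obtain ⟨a, b, ha, hb, hab⟩ := hx.2
  have hr : Red z := ⟨hznc, a, b, hz a ha, hz b hb, hab⟩
  refine ⟨hr, ?_⟩
  have hle : Subgroup.centralizer ({x} : Set G) ≤ Subgroup.centralizer ({z} : Set G) := fun y hy =>
    mem_centralizer_iff_commute.mpr (hz y (mem_centralizer_iff_commute.mp hy))
  exact ((hx.isCoatom h).le_iff.mp hle).resolve_left hr.centralizer_ne_top

end CfsgLib.MinNonCA98
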