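import Mathlib
import Cfsg.Agent.MinNonCA98.Basic
import Cfsg.Agent.ZStar.Theorem
import Cfsg.Agent.Eq.Def_IsolatedElements

/-!
# Quasisimple minimal non-CA groups with odd centre: involutions and the Sylow 2-subgroup

* `eq_top_of_normal` : noncentral normal subgroups are everything;
* `false_of_no_fusion` : no involution is isolated;
* `sylow_comm` : the Sylow 2-subgroups are abelian.
-/

set_option autoImplicit false

namespace CfsgLib.MinNonCA98

open Cfsg
open scoped commutatorElement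

variable {G : Type*} [Group G]

/-- The standing hypotheses of piece D. -/
structure QS (G : Type*) [Group G] : Prop where
  min : MinNonCA G
  perfect : commutator G = ⊤
  simple : IsSimpleGroup (G ⧸ Subgroup.center G)
  odd : Odd (Nat.card (Subgroup.center G))

theorem QS.eq_top_of_normal (h : QS G) (N : Subgroup G) [N.Normal]
    (hN : ¬ N ≤ Subgroup.center G) : N = ⊤ := by
  haveI := h.simple
  have hn : (N.map (QuotientGroup.mk' (Subgroup.center G))).Normal :=
    Subgroup.Normal.map inferInstance _ (QuotientGroup.mk'_surjective _)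
  rcases hn.eq_bot_or_eq_top with h0 | h1
  · exact absurd (fun n hn' => (QuotientGroup.eq_one_iff n).mp
      (Subgroup.mem_bot.mp (h0 ▸ Subgroup.mem_map_of_mem _ hn'))) hN
  · have hdec : ∀ g : G, ∃ n ∈ N, ∃ z ∈ Subgroup.center G, g = n * z := fun g => by
      obtain ⟨n, hn', e⟩ := Subgroup.mem_map.mp
        (show QuotientGroup.mk' (Subgroup.center G) g ∈ N.map _ by rw [h1]; exact Subgroup.mem_top _)
      exact ⟨n, hn', n⁻¹ * g, QuotientGroup.eq.mp e, by group⟩
    rw [eq_top_iff, ← h.perfect, commutator_def, Subgroup.commutator_le]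
    intro a _ b _
    obtain ⟨a1, ha1, z1, hz1, rfl⟩ := hdec a
    obtain ⟨b1, hb1, z2, hz2, rfl⟩ := hdec b
    have e1 : ∀ x, x * z1 = z1 * x := Subgroup.mem_center_iff.mp hz1
    have e2 : ∀ x, x * z2 = z2 * x := Subgroup.mem_center_iff.mp hz2
    have : ⁅a1 * z1, b1 * z2⁆ = ⁅a1, b1⁆ := by
      rw [commutatorElement_def, commutatorElement_def]
      calc a1 * z1 * (b1 * z2) * (a1 * z1)⁻¹ * (b1 * z2)⁻¹
          = a1 * (z1 * b1) * z2 * (z1⁻¹ * a1⁻¹) * (z2⁻¹ * b1⁻¹) := by group
        _ = a1 * (b1 * z1) * z2 * (z1⁻¹ * a1⁻¹) * (z2⁻¹ * b1⁻¹) := by rw [e1 b1]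
        _ = a1 * b1 * (z1 * z2) * z1⁻¹ * a1⁻¹ * z2⁻¹ * b1⁻¹ := by group
        _ = a1 * b1 * (z2 * z1) * z1⁻¹ * a1⁻¹ * z2⁻¹ * b1⁻¹ := by rw [e2 z1]
        _ = a1 * b1 * (z2 * a1⁻¹) * z2⁻¹ * b1⁻¹ := by group
        _ = a1 * b1 * (a1⁻¹ * z2) * z2⁻¹ * b1⁻¹ := by rw [e2 a1⁻¹]
        _ = a1 * b1 * a1⁻¹ * b1⁻¹ := by group
    rw [this, commutatorElement_def]
    exact N.mul_mem (N.mul_mem (N.mul_mem ha1 hb1) (N.inv_mem ha1)) (N.inv_mem hb1)

theorem QS.center_ne_top (h : QS G) : Subgroup.center G ≠ ⊤ := fun e =>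
  h.min.not_solvable (Group.isSolvable_of_comm fun a b =>
    (Subgroup.mem_center_iff.mp (e ▸ Subgroup.mem_top a : a ∈ Subgroup.center G) b).symm)

theorem QS.involution_not_central (h : QS G) {t : G} (ht : orderOf t = 2) :
    t ∉ Subgroup.center G := fun hc => by
  have hd := Subgroup.orderOf_dvd_natCard (Subgroup.center G) hc
  rw [ht] at hd
  obtain ⟨k, hk⟩ := h.odd
  omega

/-- A normal subgroup cannot consist of commuting elements unless it is central. -/
theorem QS.le_center_of_comm (h : QS G) (N : Subgroup G) [N.Normal]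
    (hc : ∀ a ∈ N, ∀ b ∈ N, Commute a b) : N ≤ Subgroup.center G := by
  by_contra hN
  have e := h.eq_top_of_normal N hN
  exact h.min.not_solvable (Group.isSolvable_of_comm fun a b =>
    (hc a (e ▸ Subgroup.mem_top a) b (e ▸ Subgroup.mem_top b)).eq)

/-- An element commuting with the whole group modulo the centre is central. -/
theorem QS.mem_center_of_comm_mod (h : QS G) {t : G}
    (ht : ∀ g : G, g * t * g⁻¹ * t⁻¹ ∈ Subgroup.center G) : t ∈ Subgroup.center G := by
  let f : G →* Subgroup.center G :=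
    MonoidHom.mk' (fun g => ⟨g * t * g⁻¹ * t⁻¹, ht g⟩) fun a b => Subtype.ext <| by
      have hz : ∀ x, x * (b * t * b⁻¹ * t⁻¹) = b * t * b⁻¹ * t⁻¹ * x :=
        Subgroup.mem_center_iff.mp (ht b)
      show a * b * t * (a * b)⁻¹ * t⁻¹ = a * t * a⁻¹ * t⁻¹ * (b * t * b⁻¹ * t⁻¹)
      calc a * b * t * (a * b)⁻¹ * t⁻¹
          = a * (b * t * b⁻¹ * t⁻¹) * (t * a⁻¹ * t⁻¹) := by group
        _ = b * t * b⁻¹ * t⁻¹ * a * (t * a⁻¹ * t⁻¹) := by rw [hz a]
        _ = b * t * b⁻¹ * t⁻¹ * (a * t * a⁻¹ * t⁻¹) := by group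
        _ = a * t * a⁻¹ * t⁻¹ * (b * t * b⁻¹ * t⁻¹) := (hz _).symm
  refine Subgroup.mem_center_iff.mpr fun g => ?_
  have hg : g ∈ f.ker := by
    have hle : commutator G ≤ f.ker := by
      rw [commutator_def, Subgroup.commutator_le]
      intro p _ q _
      rw [MonoidHom.mem_ker, map_commutatorElement, commutatorElement_eq_one_iff_commute]
      exact Subtype.ext (Subgroup.mem_center_iff.mp (f q).2 (f p : G))
    exact hle (h.perfect ▸ Subgroup.mem_top g)
  have e : g * t * g⁻¹ * t⁻¹ = 1 := congrArg Subtype.val (MonoidHom.mem_ker.mp hg)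
  calc g * t = g * t * g⁻¹ * t⁻¹ * (t * g) := by group
    _ = t * g := by rw [e, one_mul]

/-- No involution is isolated. -/
theorem QS.false_of_no_fusion [Finite G] (h : QS G) {t : G} (ht : orderOf t = 2) (P : Sylow 2 G)
    (hiso : ∀ g : G, g * t * g⁻¹ ∈ P → g * t * g⁻¹ = t) : False := by
  have hz := ZStar.inZStar_of_no_fusion ht P hiso
  refine h.involution_not_central ht (h.mem_center_of_comm_mod fun g => ?_)
  have hle : pPrimeCore 2 G ≤ Subgroup.center G := by
    by_contra hN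
    have e := h.eq_top_of_normal _ hN
    have hd : ¬ 2 ∣ Nat.card (pPrimeCore 2 G) := by
      haveI : Fact (Nat.Prime 2) := ⟨Nat.prime_two⟩
      exact Constrained.pPrimeCore_not_dvd
    rw [e, Subgroup.card_top] at hd
    exact h.min.not_solvable (isSolvable_of_odd (Nat.odd_iff.mpr (by omega)))
  exact hle (hz g)

theorem Red.conj {x : G} (hx : Red x) (g : G) : Red (g * x * g⁻¹) := by
  obtain ⟨hnc, a, b, ha, hb, hab⟩ := hx
  refine ⟨fun hc => hnc ?_, g * a * g⁻¹, g * b * g⁻¹, ha.conj g, hb.conj g, fun e => hab ?_⟩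
  · have := (inferInstance : (Subgroup.center G).Normal).conj_mem _ hc g⁻¹
    rwa [show g⁻¹ * (g * x * g⁻¹) * g⁻¹⁻¹ = x by group] at this
  · have := e.conj g⁻¹
    simpa [mul_assoc] using this

theorem QS.not_normal (h : QS G) {x : G} (hx : Red x) :
    ¬ (Subgroup.centralizer ({x} : Set G)).Normal := fun hn => by
  haveI := hn
  rcases em (Subgroup.centralizer ({x} : Set G) ≤ Subgroup.center G) with hle | hle
  · exact hx.1 (hle (mem_centralizer_self x))
  · exact hx.centralizer_ne_top (h.eq_top_of_normal _ hle)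

/-- Conjugate red elements with the same centraliser are equal. -/
theorem QS.eq_of_centralizer_eq (h : QS G) {x : G} (hx : Red x) {g : G}
    (he : Subgroup.centralizer ({g * x * g⁻¹} : Set G) = Subgroup.centralizer ({x} : Set G)) :
    g * x * g⁻¹ = x := by
  have hconj : ∀ y : G, Commute x y ↔ Commute (g * x * g⁻¹) (g * y * g⁻¹) := fun y =>
    ⟨fun e => e.conj g, fun e => by simpa [mul_assoc] using e.conj g⁻¹⟩
  have hg : g ∈ Subgroup.normalizer ((Subgroup.centralizer ({x} : Set G)) : Set G) :=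
    Subgroup.mem_normalizer_iff.mpr fun y => by
      conv_rhs => rw [← he]
      rw [mem_centralizer_iff_commute, mem_centralizer_iff_commute]
      exact hconj y
  rw [hx.normalizer_eq h.min (h.not_normal hx), mem_centralizer_iff_commute] at hg
  rw [← hg.eq, mul_inv_cancel_right]

/-- In a 2-group a proper subgroup grows in its normaliser. -/
theorem exists_normalizer_not_mem [Finite G] {P A : Subgroup G} (hP : IsPGroup 2 P) (hAP : A ≤ P)
    (hne : A ≠ P) : ∃ w ∈ P, w ∉ A ∧ w ∈ Subgroup.normalizer (A : Set G) := by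
  haveI : Fact (Nat.Prime 2) := ⟨Nat.prime_two⟩
  haveI := hP.isNilpotent
  have hlt : A.subgroupOf P < ⊤ := lt_of_le_of_ne le_top fun e =>
    hne (le_antisymm hAP (Subgroup.subgroupOf_eq_top.mp e))
  obtain ⟨w, hw, hwA⟩ := SetLike.exists_of_lt
    ((Group.normalizerCondition_of_isNilpotent) (A.subgroupOf P) hlt)
  refine ⟨w, w.2, hwA, Subgroup.mem_normalizer_iff.mpr fun x => ⟨fun hx => ?_, fun hx => ?_⟩⟩
  · exact ((Subgroup.mem_normalizer_iff.mp hw ⟨x, hAP hx⟩).mp hx)
  · have hxP : x ∈ P := by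
      have := P.mul_mem (P.mul_mem (P.inv_mem w.2) (hAP hx)) w.2
      simpa [mul_assoc] using this
    exact (Subgroup.mem_normalizer_iff.mp hw ⟨x, hxP⟩).mpr hx

/-- The Sylow 2-subgroups are abelian. -/
theorem QS.sylow_comm [Finite G] (h : QS G) (S : Sylow 2 G) :
    ∀ a ∈ (S : Subgroup G), ∀ b ∈ (S : Subgroup G), Commute a b := by
  haveI : Fact (Nat.Prime 2) := ⟨Nat.prime_two⟩
  by_contra hno
  push Not at hno
  obtain ⟨a, ha, b, hb, hab⟩ := hno
  haveI : Nontrivial (S : Subgroup G) :=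
    ⟨⟨a, ha⟩, 1, fun e => hab (by
      obtain rfl : a = 1 := congrArg Subtype.val e
      exact Commute.one_left b)⟩
  haveI := S.2.center_nontrivial
  obtain ⟨k, hk⟩ := IsPGroup.iff_card.mp (S.2.to_subgroup (Subgroup.center (S : Subgroup G)))
  have hk0 : k ≠ 0 := fun e => by
    have := Finite.one_lt_card (α := Subgroup.center (S : Subgroup G))
    rw [hk, e, pow_zero] at this
    exact lt_irrefl _ this
  obtain ⟨z', hz'⟩ := exists_prime_orderOf_dvd_card' (G := Subgroup.center (S : Subgroup G)) 2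
    (hk ▸ dvd_pow_self 2 hk0)
  set z : G := ((z' : (S : Subgroup G)) : G) with hzdef
  have hzS : z ∈ (S : Subgroup G) := (z' : (S : Subgroup G)).2
  have hz : orderOf z = 2 := by rw [hzdef, Subgroup.orderOf_coe, Subgroup.orderOf_coe, hz']
  have hzc : ∀ y ∈ (S : Subgroup G), Commute z y := fun y hy =>
    (congrArg Subtype.val (Subgroup.mem_center_iff.mp z'.2 ⟨y, hy⟩)).symm
  have hzred : Red z := ⟨h.involution_not_central hz, a, b, hzc a ha, hzc b hb, hab⟩
  refine h.false_of_no_fusion hz S fun g hg => ?_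
  by_contra hne
  -- choose the conjugate with the largest centraliser in `S`
  let P : G → Prop := fun s => s ∈ (S : Subgroup G) ∧ s ≠ z ∧ ∃ g : G, s = g * z * g⁻¹
  haveI : Nonempty {s : G // P s} := ⟨⟨_, hg, hne, g, rfl⟩⟩
  obtain ⟨⟨s, hsS, hsz, g', rfl⟩, hmax⟩ := Finite.exists_max fun s : {s : G // P s} =>
    Nat.card ((S : Subgroup G) ⊓ Subgroup.centralizer ({(s : G)} : Set G) : Subgroup G)
  set s := g' * z * g'⁻¹ with hsdef
  set M := Subgroup.centralizer ({z} : Set G) with hM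
  set A := (S : Subgroup G) ⊓ Subgroup.centralizer ({s} : Set G) with hA
  have hMne : M ≠ ⊤ := hzred.centralizer_ne_top
  have hSM : (S : Subgroup G) ≤ M := fun y hy => mem_centralizer_iff_commute.mpr (hzc y hy)
  have hsred : Red s := hzred.conj g'
  have hsM : ∃ y ∈ M, ¬ Commute s y := by
    by_contra hall
    push Not at hall
    exact hsz (h.eq_of_centralizer_eq hzred (hzred.centralizer_eq h.min
      (fun y hy => hall y (mem_centralizer_iff_commute.mpr hy)) hsred.1).2)
  obtain ⟨y0, hy0, hsy0⟩ := hsM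
  have hAcomm : ∀ {p q : G}, p ∈ M → q ∈ M → Commute s p → Commute s q → Commute p q :=
    fun hp hq h1 h2 => h.min.commute_of_proper hMne (hSM hsS) hy0 hsy0 hp hq h1 h2
  have hAS : A ≠ (S : Subgroup G) := fun e => hab <| by
    have h1 : a ∈ A := e.symm ▸ ha
    have h2 : b ∈ A := e.symm ▸ hb
    exact hAcomm (hSM ha) (hSM hb) (mem_centralizer_iff_commute.mp h1.2)
      (mem_centralizer_iff_commute.mp h2.2)
  have hsA : s ∈ A := ⟨hsS, mem_centralizer_self s⟩
  have hzA : z ∈ A := ⟨hzS, mem_centralizer_iff_commute.mpr (hzc s hsS).symm⟩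
  have hAlt : Nat.card A < Nat.card (S : Subgroup G) := by
    refine lt_of_le_of_ne (Subgroup.card_le_of_le inf_le_left) fun e => hAS ?_
    exact Subgroup.eq_of_le_of_card_ge inf_le_left e.ge
  -- a Sylow subgroup of `C(s)` above `A`
  set C := Subgroup.centralizer ({s} : Set G) with hC
  have hgS : ((g' • S : Sylow 2 G) : Subgroup G) ≤ C := by
    rintro _ ⟨y, hy, rfl⟩
    exact mem_centralizer_iff_commute.mpr ((hzc y hy).conj g')
  obtain ⟨Q, hQ⟩ := IsPGroup.exists_le_sylow (p := 2) (P := A.subgroupOf C)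
    ((S.2.to_le (inf_le_left : A ≤ S)).comap_subtype)
  have hQcard : Nat.card ((Q : Subgroup C).map C.subtype) = Nat.card (S : Subgroup G) := by
    rw [Subgroup.card_map_of_injective C.subtype_injective, Q.card_eq_multiplicity,
      ← ((g' • S).subtype hgS).card_eq_multiplicity,
      show ((g' • S).subtype hgS : Subgroup C) = ((g' • S : Sylow 2 G) : Subgroup G).subgroupOf C
        from rfl,
      Nat.card_congr (Subgroup.subgroupOfEquivOfLe hgS).toEquiv,
      Sylow.card_eq_multiplicity, Sylow.card_eq_multiplicity]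
  set P' := (Q : Subgroup C).map C.subtype with hP'
  have hP'p : IsPGroup 2 P' := Q.2.map _
  have hAP' : A ≤ P' := fun y hy => ⟨⟨y, hy.2⟩, hQ (show (⟨y, hy.2⟩ : C) ∈ A.subgroupOf C from hy), rfl⟩
  have hP'C : P' ≤ C := Subgroup.map_subtype_le _
  -- the normaliser of `A`
  have hL : Subgroup.normalizer (A : Set G) ≠ ⊤ := fun e => by
    haveI := Subgroup.normalizer_eq_top_iff.mp e
    refine hsred.1 (h.le_center_of_comm A (fun p hp q hq => ?_) hsA)
    exact hAcomm (hSM hp.1) (hSM hq.1) (mem_centralizer_iff_commute.mp hp.2)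
      (mem_centralizer_iff_commute.mp hq.2)
  obtain ⟨w, hwS, hwA, hwN⟩ := exists_normalizer_not_mem S.2 inf_le_left hAS
  have hsw : ¬ Commute s w := fun e => hwA ⟨hwS, mem_centralizer_iff_commute.mpr e⟩
  have hNM : Subgroup.normalizer (A : Set G) ≤ M := fun y hy =>
    mem_centralizer_iff_commute.mpr (h.min.commute_all_of_proper hL (Subgroup.le_normalizer hzA) hy
      (Subgroup.le_normalizer hsA) hwN (hzc s hsS) (hzc w hwS) hsw)
  have hAP'ne : A ≠ P' := fun e => by
    rw [e, hQcard] at hAlt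
    exact lt_irrefl _ hAlt
  obtain ⟨w', hw'P, hw'A, hw'N⟩ := exists_normalizer_not_mem hP'p hAP' hAP'ne
  set B := P' ⊓ M with hB
  have hAB : A ≤ B := fun y hy => ⟨hAP' hy, hSM hy.1⟩
  have hABlt : Nat.card A < Nat.card B := by
    refine lt_of_le_of_ne (Subgroup.card_le_of_le hAB) fun e => hw'A ?_
    rw [Subgroup.eq_of_le_of_card_ge hAB e.ge]
    exact ⟨hw'P, hNM hw'N⟩
  obtain ⟨R, hR⟩ := IsPGroup.exists_le_sylow (p := 2) (P := B.subgroupOf M)
    ((hP'p.to_le (inf_le_left : B ≤ P')).comap_subtype)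
  obtain ⟨m, hm⟩ := MulAction.exists_smul_eq M R (S.subtype hSM)
  have hBm : ∀ y ∈ B, (m : G) * y * (m : G)⁻¹ ∈ (S : Subgroup G) := fun y hy => by
    have h1 : m * (⟨y, hy.2⟩ : M) * m⁻¹ ∈ ((S.subtype hSM : Sylow 2 M) : Subgroup M) := by
      rw [← hm]
      exact ⟨_, hR (show (⟨y, hy.2⟩ : M) ∈ B.subgroupOf M from hy), rfl⟩
    exact h1
  have hsB : s ∈ B := hAB hsA
  set s' := (m : G) * s * (m : G)⁻¹ with hs'
  have hs'z : s' ≠ z := fun e => hsz <| by
    have hmz : (m : G) * z * (m : G)⁻¹ = z := by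
      rw [← (mem_centralizer_iff_commute.mp m.2).eq, mul_inv_cancel_right]
    exact mul_left_cancel (mul_right_cancel (e.trans hmz.symm))
  have hle : Nat.card B ≤
      Nat.card ((S : Subgroup G) ⊓ Subgroup.centralizer ({s'} : Set G) : Subgroup G) := by
    rw [← Subgroup.card_map_of_injective (f := (MulAut.conj (m : G)).toMonoidHom)
      (MulAut.conj (m : G)).injective (K := B)]
    refine Subgroup.card_le_of_le ?_
    rintro _ ⟨y, hy, rfl⟩
    exact ⟨hBm y hy, mem_centralizer_iff_commute.mpr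
      ((mem_centralizer_iff_commute.mp (hP'C hy.1)).conj (m : G))⟩
  have := hmax ⟨s', hBm s hsB, hs'z, (m : G) * g', by rw [hs', hsdef]; group⟩
  exact absurd (hle.trans this) (not_le.mpr hABlt)

end CfsgLib.MinNonCA98
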