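import Mathlib
import Cfsg.Agent.MinNonCA98.Local
import Cfsg.Agent.MinNonCA98.DSteps
import Cfsg.Agent.MinNonCA98.Homocyclic
import Cfsg.Agent.Coprime.Generation
import Cfsg.Agent.CAGroups.AbelianInvolutionSplit
import Cfsg.Agent.S0949

/-!
# Quasisimple minimal non-CA groups with odd centre have four group Sylow 2-subgroups

* `QS.centralizer_split` : `C(t) = K * S` with `K` odd normal and `C(S)` abelian;
* `kleinStep` : the data `KleinData`.
-/

set_option autoImplicit false

namespace CfsgLib.MinNonCA98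

open Cfsg

universe u

variable {G : Type u} [Group G]

/-- In a Klein four group `{1, a, b, a * b}` acting, a subgroup centralised by all three is small. -/
theorem isNotCyclic_of_four [Finite G] {A : Subgroup G} {a b : G} (ha : a ∈ A) (hb : b ∈ A)
    (h2 : ∀ x ∈ A, x * x = 1) (ha1 : a ≠ 1) (hb1 : b ≠ 1) (hab : a ≠ b) : ¬ IsCyclic A := by
  intro hc
  obtain ⟨g, hg⟩ := hc.exists_zpow_surjective
  have hgen : ∀ x : A, x = 1 ∨ x = g := fun x => by
    obtain ⟨i, rfl⟩ := hg x
    have hg2 : g * g = 1 := Subtype.ext (h2 _ g.2)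
    rcases Int.even_or_odd' i with ⟨j, rfl | rfl⟩
    · left
      show g ^ (2 * j) = 1
      rw [zpow_mul, zpow_two, hg2, one_zpow]
    · right
      show g ^ (2 * j + 1) = g
      rw [zpow_add, zpow_mul, zpow_two, hg2, one_zpow, one_mul, zpow_one]
  rcases hgen ⟨a, ha⟩ with e | e
  · exact ha1 (congrArg Subtype.val e)
  rcases hgen ⟨b, hb⟩ with e' | e'
  · exact hb1 (congrArg Subtype.val e')
  · exact hab (congrArg Subtype.val (e.trans e'.symm))

variable [Finite G]

theorem mem_normalizer_of_forall_conj {K : Subgroup G} {g : G}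
    (hg : ∀ k ∈ K, g * k * g⁻¹ ∈ K) : g ∈ Subgroup.normalizer (K : Set G) := by
  have he : K.map (MulAut.conj g).toMonoidHom = K := by
    refine Subgroup.eq_of_le_of_card_ge ?_ ?_
    · rintro _ ⟨a, ha, rfl⟩; exact hg a ha
    · rw [Subgroup.card_map_of_injective (f := (MulAut.conj g).toMonoidHom)
        (MulAut.conj g).injective]
  refine Subgroup.mem_normalizer_iff.mpr fun a => ⟨hg a, fun ha => ?_⟩
  obtain ⟨b, hb, hba⟩ : g * a * g⁻¹ ∈ K.map (MulAut.conj g).toMonoidHom := by rw [he]; exact ha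
  exact (MulAut.conj g).injective hba ▸ hb

theorem isSolvable_center : Group.IsSolvable (Subgroup.center G) :=
  Group.isSolvable_of_comm fun a b => Subtype.ext (Subgroup.mem_center_iff.mp b.2 a)

theorem QS.sylow_ne_normal (h : QS G) (S : Sylow 2 G) {s : G} (hs : s ∈ (S : Subgroup G))
    (hs2 : orderOf s = 2) : Subgroup.normalizer ((S : Subgroup G) : Set G) ≠ ⊤ := fun e => by
  haveI := Subgroup.normalizer_eq_top_iff.mp e
  exact h.involution_not_central hs2 (h.le_center_of_comm _ (h.sylow_comm S) hs)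

/-- An involution is moved by the normaliser of the Sylow subgroup. -/
theorem QS.exists_moved (h : QS G) (S : Sylow 2 G) {t : G} (htS : t ∈ (S : Subgroup G))
    (ht : orderOf t = 2) :
    ∃ n ∈ Subgroup.normalizer ((S : Subgroup G) : Set G), ¬ Commute n t := by
  haveI : Fact (Nat.Prime 2) := ⟨Nat.prime_two⟩
  haveI : IsMulCommutative (S : Subgroup G) :=
    ⟨⟨fun a b => Subtype.ext (h.sylow_comm S _ a.2 _ b.2).eq⟩⟩
  by_contra hall
  push Not at hall
  refine h.false_of_no_fusion ht S fun g hg => ?_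
  obtain ⟨n, hn, e⟩ := Sylow.conj_eq_normalizer_conj_of_mem S t g⁻¹ htS (by rwa [inv_inv])
  rw [inv_inv] at e
  rw [e, mul_assoc, ← (hall n hn).eq, inv_mul_cancel_left]

/-- The centraliser of a red involution in the Sylow subgroup. -/
theorem QS.centralizer_split (h : QS G) (S : Sylow 2 G) {t : G} (htS : t ∈ (S : Subgroup G))
    (ht : orderOf t = 2) :
    (∀ a b : G, (∀ v ∈ (S : Subgroup G), Commute v a) →
      (∀ v ∈ (S : Subgroup G), Commute v b) → Commute a b) ∧
    ∃ K : Subgroup G, Odd (Nat.card K) ∧ K ≤ Subgroup.centralizer ({t} : Set G) ∧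
      (∀ g : G, Commute t g → ∀ k ∈ K, g * k * g⁻¹ ∈ K) ∧
      ∀ g : G, Commute t g → ∃ k ∈ K, ∃ v ∈ (S : Subgroup G), g = k * v := by
  haveI : Fact (Nat.Prime 2) := ⟨Nat.prime_two⟩
  set M := Subgroup.centralizer ({t} : Set G) with hM
  set N := Subgroup.normalizer ((S : Subgroup G) : Set G) with hN
  have hNne : N ≠ ⊤ := h.sylow_ne_normal S htS ht
  obtain ⟨n, hn, hnt⟩ := h.exists_moved S htS ht
  have hcomm : ∀ {a b : G}, a ∈ N → b ∈ N → Commute t a → Commute t b → Commute a b :=
    fun ha hb hta htb => h.min.commute_of_proper hNne (Subgroup.le_normalizer htS) hn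
      (fun e => hnt e.symm) ha hb hta htb
  have hSM : (S : Subgroup G) ≤ M := fun y hy =>
    mem_centralizer_iff_commute.mpr (h.sylow_comm S t htS y hy)
  have hcen : ∀ a : G, (∀ v ∈ (S : Subgroup G), Commute v a) → a ∈ N ∧ Commute t a := fun a ha => by
    refine ⟨Subgroup.centralizer_le_normalizer _ (Subgroup.mem_centralizer_iff.mpr
      fun v hv => (ha v hv).eq), ha t htS⟩
  refine ⟨fun a b ha hb => hcomm (hcen a ha).1 (hcen b hb).1 (hcen a ha).2 (hcen b hb).2, ?_⟩
  set S' : Sylow 2 M := S.subtype hSM with hS'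
  have hcent : Subgroup.normalizer ((S' : Subgroup M) : Set M) ≤
      Subgroup.centralizer ((S' : Subgroup M) : Set M) := by
    intro a ha
    rw [Subgroup.mem_centralizer_iff]
    intro v hv
    have haN : (a : G) ∈ N := by
      refine Subgroup.mem_normalizer_iff.mpr fun x => ⟨fun hx => ?_, fun hx => ?_⟩
      · exact (Subgroup.mem_normalizer_iff.mp ha ⟨x, hSM hx⟩).mp hx
      · have hxM : x ∈ M := by
          have := M.mul_mem (M.mul_mem (M.inv_mem a.2) (hSM hx)) a.2
          simpa [mul_assoc] using this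
        exact (Subgroup.mem_normalizer_iff.mp ha ⟨x, hxM⟩).mpr hx
    exact Subtype.ext (hcomm (Subgroup.le_normalizer hv) haN (mem_centralizer_iff_commute.mp v.2)
      (mem_centralizer_iff_commute.mp a.2)).eq
  set K0 := (MonoidHom.transferSylow S' hcent).ker with hK0
  have hcompl : Subgroup.IsComplement' K0 (S' : Subgroup M) :=
    MonoidHom.ker_transferSylow_isComplement' S' hcent
  have hodd : ¬ 2 ∣ Nat.card K0 := MonoidHom.not_dvd_card_ker_transferSylow S' hcent
  have hK0n : K0.Normal := MonoidHom.normal_ker _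
  clear_value K0
  refine ⟨K0.map M.subtype, ?_, Subgroup.map_subtype_le _, ?_, ?_⟩
  · rw [Subgroup.card_map_of_injective M.subtype_injective, Nat.odd_iff]
    omega
  · rintro g hg _ ⟨k, hk, rfl⟩
    exact ⟨⟨g, mem_centralizer_iff_commute.mpr hg⟩ * k * ⟨g, mem_centralizer_iff_commute.mpr hg⟩⁻¹,
      hK0n.conj_mem k hk _, rfl⟩
  · intro g hg
    obtain ⟨⟨⟨k, hk⟩, ⟨v, hv⟩⟩, e⟩ := hcompl.2 ⟨g, mem_centralizer_iff_commute.mpr hg⟩
    exact ⟨k, ⟨k, hk, rfl⟩, v, hv, (congrArg Subtype.val e).symm⟩

/-- `S` has only the involutions `t`, `u`, `t * u`. -/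
theorem QS.involutions_eq (h : QS G) (S : Sylow 2 G) {t : G} (htS : t ∈ (S : Subgroup G))
    (ht : orderOf t = 2) (htr : Red t) {n : G}
    (hn : n ∈ Subgroup.normalizer ((S : Subgroup G) : Set G)) (hnt : ¬ Commute n t) :
    ∀ a ∈ (S : Subgroup G), a * a = 1 →
      a = 1 ∨ a = t ∨ a = n * t * n⁻¹ ∨ a = t * (n * t * n⁻¹) := by
  obtain ⟨hcomm, K, hKodd, hKM, hKn, hdec⟩ := h.centralizer_split S htS ht
  set M := Subgroup.centralizer ({t} : Set G) with hM
  have hMne : M ≠ ⊤ := htr.centralizer_ne_top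
  have hS := h.sylow_comm S
  have ht2 : t * t = 1 := by rw [← pow_two, ← ht, pow_orderOf_eq_one]
  have ht1 : t ≠ 1 := fun e => by rw [e, orderOf_one] at ht; omega
  set u := n * t * n⁻¹ with hu
  have huS : u ∈ (S : Subgroup G) := (Subgroup.mem_normalizer_iff.mp hn t).mp htS
  have hu2 : u * u = 1 := by rw [hu, conj_mul, ht2, mul_one, mul_inv_cancel]
  have hut : u ≠ t := fun e => hnt (show n * t = t * n by
    calc n * t = u * n := by rw [hu]; group
      _ = t * n := by rw [e])
  -- `E0` : involutions of `S` centralising all of `M`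
  let Out : G → Prop := fun a => ∃ y ∈ M, ¬ Commute a y
  have hin : ∀ a ∈ (S : Subgroup G), a ≠ 1 → a * a = 1 → ¬ Out a →
      Subgroup.centralizer ({a} : Set G) = M := by
    intro a _ ha1 ha2 hout
    simp only [Out, not_exists, not_and, not_not] at hout
    refine (htr.centralizer_eq h.min (fun y hy => hout y (mem_centralizer_iff_commute.mpr hy))
      (h.involution_not_central (orderOf_eq_prime (by rw [pow_two, ha2]) ha1))).2
  have huOut : Out u := by
    by_contra hout
    refine hut ?_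
    have hu1 : u ≠ 1 := fun e => ht1 (conj_eq_one_iff.mp e)
    exact h.eq_of_centralizer_eq htr (hin u huS hu1 hu2 hout)
  have hprod : ∀ a b : G, a ∈ (S : Subgroup G) → b ∈ (S : Subgroup G) → a * a = 1 → b * b = 1 →
      Out a → Out b → ¬ Out (a * b) := by
    intro a b ha hb ha2 hb2 oa ob oab
    have hab : a ≠ b := fun e => by
      obtain ⟨y, -, hy⟩ := oab
      rw [e, hb2] at hy
      exact hy (Commute.one_left y)
    have ha1 : a ≠ 1 := fun e => by
      obtain ⟨y, -, hy⟩ := oa
      exact hy (e ▸ Commute.one_left y)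
    have hb1 : b ≠ 1 := fun e => by
      obtain ⟨y, -, hy⟩ := ob
      exact hy (e ▸ Commute.one_left y)
    have habba : b * a = a * b := (hS b hb a ha).eq
    -- the four group
    let A : Subgroup G :=
      { carrier := {x | x = 1 ∨ x = a ∨ x = b ∨ x = a * b}
        one_mem' := Or.inl rfl
        mul_mem' := by
          have e1 : a * (a * b) = b := by rw [← mul_assoc, ha2, one_mul]
          have e2 : b * (a * b) = a := by rw [← mul_assoc, habba, mul_assoc, hb2, mul_one]
          have e3 : a * b * a = b := by rw [mul_assoc, habba, e1]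
          have e4 : a * b * b = a := by rw [mul_assoc, hb2, mul_one]
          have e5 : a * b * (a * b) = 1 := by rw [← mul_assoc, e3, hb2]
          rintro x y (rfl | rfl | rfl | rfl) (rfl | rfl | rfl | rfl) <;>
            simp only [Set.mem_setOf_eq, one_mul, mul_one, ha2, hb2, habba, e1, e2, e3, e4, e5,
              true_or, or_true]
        inv_mem' := by
          rintro x (rfl | rfl | rfl | rfl)
          · simp
          · right; left; exact inv_eq_of_mul_eq_one_right ha2
          · right; right; left; exact inv_eq_of_mul_eq_one_right hb2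
          · right; right; right
            rw [mul_inv_rev, inv_eq_of_mul_eq_one_right ha2, inv_eq_of_mul_eq_one_right hb2,
              habba] }
    have hAS : A ≤ (S : Subgroup G) := by
      rintro x (rfl | rfl | rfl | rfl)
      exacts [one_mem _, ha, hb, mul_mem ha hb]
    have hAsq : ∀ x ∈ A, x * x = 1 := by
      rintro x (rfl | rfl | rfl | rfl)
      · exact one_mul 1
      · exact ha2
      · exact hb2
      · rw [mul_assoc, ← mul_assoc b, habba, mul_assoc, hb2, mul_one, ha2]
    have hSM : (S : Subgroup G) ≤ M := fun y hy => mem_centralizer_iff_commute.mpr (hS t htS y hy)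
    have hKcent : K ≤ Subgroup.centralizer ((S : Subgroup G) : Set G) := by
      refine Coprime.le_of_centralizers (A := A) (G := K)
        ⟨⟨fun x y => Subtype.ext (hS _ (hAS x.2) _ (hAS y.2)).eq⟩⟩
        (isNotCyclic_of_four (Or.inr (Or.inl rfl)) (Or.inr (Or.inr (Or.inl rfl))) hAsq ha1 hb1 hab)
        (fun x hx => mem_normalizer_of_forall_conj fun k hk => hKn x
          (mem_centralizer_iff_commute.mp (hSM (hAS hx))) k hk) ?_ ?_
      · obtain ⟨j, hj⟩ := IsPGroup.iff_card.mp (S.2.to_le hAS)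
        rw [hj]
        exact Nat.Coprime.pow_left j (Nat.coprime_two_left.mpr hKodd)
      · intro x hx hx1 k ⟨hk, hkx⟩
        have ox : Out x := by
          rcases hx with rfl | rfl | rfl | rfl
          exacts [absurd rfl hx1, oa, ob, oab]
        obtain ⟨y, hy, hxy⟩ := ox
        refine Subgroup.mem_centralizer_iff.mpr fun v hv => ?_
        exact (h.min.commute_of_proper hMne (hSM (hAS hx)) hy hxy (hSM hv) (hKM hk)
          (hS _ (hAS hx) v hv) (mem_centralizer_iff_commute.mp hkx)).eq
    obtain ⟨p, q, hp, hq, hpq⟩ := htr.2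
    obtain ⟨k1, hk1, v1, hv1, rfl⟩ := hdec p hp
    obtain ⟨k2, hk2, v2, hv2, rfl⟩ := hdec q hq
    have c1 : ∀ v ∈ (S : Subgroup G), Commute v (k1 * v1) := fun v hv =>
      Commute.mul_right (Subgroup.mem_centralizer_iff.mp (hKcent hk1) v hv) (hS v hv v1 hv1)
    have c2 : ∀ v ∈ (S : Subgroup G), Commute v (k2 * v2) := fun v hv =>
      Commute.mul_right (Subgroup.mem_centralizer_iff.mp (hKcent hk2) v hv) (hS v hv v2 hv2)
    exact hpq (hcomm _ _ c1 c2)
  have hninv : n⁻¹ ∈ Subgroup.normalizer ((S : Subgroup G) : Set G) := inv_mem hn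
  have key : ∀ a ∈ (S : Subgroup G), a * a = 1 → ¬ Out a → a = 1 ∨ a = t := by
    intro a ha ha2 hout
    by_contra hno
    push Not at hno
    obtain ⟨ha1, hat⟩ := hno
    have hCa := hin a ha ha1 ha2 hout
    have hw : ∀ c : G, c ≠ 1 → c ∈ (S : Subgroup G) → c * c = 1 → ¬ Out c → ∀ d : G, d ≠ 1 →
        d ∈ (S : Subgroup G) → d * d = 1 → ¬ Out d → c ≠ n * d * n⁻¹ := by
      intro c hc1 hcS hc2 oc d hd1 hdS hd2 od e
      have h1 := hin c hcS hc1 hc2 oc
      have h2 := hin d hdS hd1 hd2 od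
      refine hut (h.eq_of_centralizer_eq htr (g := n) ?_)
      ext y
      have hy1 : y ∈ Subgroup.centralizer ({c} : Set G) ↔ y ∈ M := by rw [h1]
      have hy2 : n⁻¹ * y * n ∈ Subgroup.centralizer ({d} : Set G) ↔ n⁻¹ * y * n ∈ M := by rw [h2]
      rw [mem_centralizer_iff_commute] at hy1 hy2
      simp only [hM, mem_centralizer_iff_commute] at hy1 hy2 ⊢
      have hcy : ∀ w : G, Commute (n * w * n⁻¹) y ↔ Commute w (n⁻¹ * y * n) := fun w =>
        ⟨fun e' => by simpa [mul_assoc] using e'.conj n⁻¹,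
          fun e' => by simpa [mul_assoc] using e'.conj n⟩
      rw [hcy, ← hy2, ← hcy, ← e, hy1]
    set w := n * a * n⁻¹ with hwdef
    have hwS : w ∈ (S : Subgroup G) := (Subgroup.mem_normalizer_iff.mp hn a).mp ha
    have hw2 : w * w = 1 := by rw [hwdef, conj_mul, ha2, mul_one, mul_inv_cancel]
    have hw1 : w ≠ 1 := fun e => ha1 (conj_eq_one_iff.mp e)
    have oat : ¬ Out (a * t) := by
      rintro ⟨y, hy, hay⟩
      refine hay ((?_ : Commute a y).mul_left (mem_centralizer_iff_commute.mp hy))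
      by_contra h'
      exact hout ⟨y, hy, h'⟩
    by_cases ow : Out w
    · have hwu : ¬ Out (w * u) := hprod w u hwS huS hw2 hu2 ow huOut
      refine hw (w * u) ?_ (mul_mem hwS huS) ?_ hwu (a * t) ?_ (mul_mem ha htS) ?_ oat ?_
      · intro e
        apply hat
        have : n * (a * t) * n⁻¹ = 1 := by rw [← e, hwdef, hu, conj_mul]
        rw [← mul_one a, ← ht2, ← mul_assoc, conj_eq_one_iff.mp this, one_mul]
      · rw [mul_assoc, ← mul_assoc u, (hS u huS w hwS).eq, mul_assoc w u, hu2, mul_one, hw2]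
      · intro e
        exact hat (by rw [← mul_one a, ← ht2, ← mul_assoc, e, one_mul])
      · rw [mul_assoc, ← mul_assoc t, (hS t htS a ha).eq, mul_assoc a t, ht2, mul_one, ha2]
      · rw [hwdef, hu, conj_mul]
    · exact hw w hw1 hwS hw2 ow a ha1 ha ha2 hout rfl
  intro a ha ha2
  by_cases oa : Out a
  · have h2 : a * u * (a * u) = 1 := by
      rw [mul_assoc, ← mul_assoc u, (hS u huS a ha).eq, mul_assoc a u, hu2, mul_one, ha2]
    rcases key (a * u) (mul_mem ha huS) h2 (hprod a u ha huS ha2 hu2 oa huOut) with e | e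
    · exact Or.inr (Or.inr (Or.inl (by rw [← mul_one a, ← hu2, ← mul_assoc, e, one_mul])))
    · exact Or.inr (Or.inr (Or.inr (by rw [← e, mul_assoc, hu2, mul_one])))
  · rcases key a ha ha2 oa with e | e
    · exact Or.inl e
    · exact Or.inr (Or.inl e)

/-- The Sylow 2-subgroup is elementary of order four. -/
theorem QS.sylow_exponent (h : QS G) (S : Sylow 2 G) {t : G} (htS : t ∈ (S : Subgroup G))
    (ht : orderOf t = 2) (htr : Red t) : ∀ a ∈ (S : Subgroup G), a * a = 1 := by
  classical
  haveI : Fact (Nat.Prime 2) := ⟨Nat.prime_two⟩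
  obtain ⟨n, hn, hnt⟩ := h.exists_moved S htS ht
  have hinv := h.involutions_eq S htS ht htr hn hnt
  letI : CommGroup (S : Subgroup G) :=
    { (inferInstance : Group (S : Subgroup G)) with
      mul_comm := fun a b => Subtype.ext (h.sylow_comm S _ a.2 _ b.2).eq }
  have h4 : Nat.card (powMonoidHom 2 : (S : Subgroup G) →* (S : Subgroup G)).ker ≤ 4 := by
    let l : Fin 4 → G := ![1, t, n * t * n⁻¹, t * (n * t * n⁻¹)]
    have hmem : ∀ x : (powMonoidHom 2 : (S : Subgroup G) →* (S : Subgroup G)).ker,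
        ∃ i, l i = ((x : (S : Subgroup G)) : G) := fun x => by
      have h2 : ((x : (S : Subgroup G)) : G) * ((x : (S : Subgroup G)) : G) = 1 := by
        rw [← pow_two]
        exact congrArg Subtype.val (MonoidHom.mem_ker.mp x.2)
      rcases hinv _ (x : (S : Subgroup G)).2 h2 with e | e | e | e
      exacts [⟨0, e.symm⟩, ⟨1, e.symm⟩, ⟨2, e.symm⟩, ⟨3, e.symm⟩]
    choose g hg using hmem
    refine le_trans (Nat.card_le_card_of_injective g fun x y e => ?_) (le_of_eq (Nat.card_fin 4))
    exact Subtype.ext (Subtype.ext (by rw [← hg x, ← hg y, e]))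
  obtain ⟨m, hexpm⟩ : ∃ m, Monoid.exponent (S : Subgroup G) = 2 ^ m := by
    obtain ⟨j, hj⟩ := IsPGroup.iff_card.mp S.2
    obtain ⟨m, -, hm⟩ := (Nat.dvd_prime_pow Nat.prime_two).mp
      (hj ▸ Group.exponent_dvd_nat_card (G := (S : Subgroup G)))
    exact ⟨m, hm⟩
  rcases Nat.lt_or_ge m 2 with hm | hm
  · intro a ha
    have := Monoid.pow_exponent_eq_one (⟨a, ha⟩ : (S : Subgroup G))
    rw [hexpm] at this
    have h2 : (⟨a, ha⟩ : (S : Subgroup G)) ^ 2 = 1 := by
      rcases m with _ | _ | m
      · rw [pow_zero, pow_one] at this; rw [this, one_pow]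
      · exact this
      · omega
    rw [← pow_two]
    exact congrArg Subtype.val h2
  exfalso
  obtain ⟨r, hr⟩ : ∃ r : (S : Subgroup G), r ^ 2 ^ (m - 1) ≠ 1 := by
    by_contra hall
    push Not at hall
    have := Monoid.exponent_dvd_of_forall_pow_eq_one hall
    rw [hexpm, Nat.pow_dvd_pow_iff_le_right (by norm_num)] at this
    omega
  have hexp : ∀ x : (S : Subgroup G), x ^ 2 ^ m = 1 := fun x =>
    hexpm ▸ Monoid.pow_exponent_eq_one x
  have ho : orderOf (((r ^ 2 ^ (m - 1) : (S : Subgroup G))) : G) = 2 := by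
    rw [Subgroup.orderOf_coe]
    refine orderOf_eq_prime ?_ hr
    rw [← pow_mul, ← pow_succ, show m - 1 + 1 = m by omega]
    exact hexp r
  obtain ⟨n', hn', hn't⟩ := h.exists_moved S (r ^ 2 ^ (m - 1)).2 ho
  set r' : (S : Subgroup G) :=
    ⟨n' * (r : G) * n'⁻¹, (Subgroup.mem_normalizer_iff.mp hn' _).mp r.2⟩ with hr'def
  have hr'v : ((r' ^ 2 ^ (m - 1) : (S : Subgroup G)) : G) =
      n' * ((r ^ 2 ^ (m - 1) : (S : Subgroup G)) : G) * n'⁻¹ := by
    rw [SubmonoidClass.coe_pow, SubmonoidClass.coe_pow, hr'def]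
    exact conj_pow
  obtain ⟨e⟩ := exists_equiv_zmod_sq (r := r) (r' := r') (by omega) hexp h4 hr
    (fun e => by
      rw [e] at hr'v
      exact hr (Subtype.ext (conj_eq_one_iff.mp hr'v.symm)))
    (fun e => hn't (by
      rw [← e] at hr'v
      show n' * _ = _ * n'
      conv_rhs => rw [hr'v]
      group))
  -- pass to the simple quotient
  haveI := isSolvable_center (G := G)
  haveI := h.simple
  obtain ⟨e2⟩ := CAGroups.AbelianCent.sylowEquiv (T := S) (A := Subgroup.center G) h.odd
  set π := QuotientGroup.mk' (Subgroup.center G)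
  set T := S.mapSurjective (f := π) (QuotientGroup.mk'_surjective _)
  have hns : ∀ N : Subgroup (G ⧸ Subgroup.center G), N.Normal →
      Odd (Nat.card N) → N = ⊥ := by
    intro N hN ho'
    refine hN.eq_bot_or_eq_top.resolve_right fun et => ?_
    rw [et, Subgroup.card_top] at ho'
    haveI := isSolvable_of_odd ho'
    exact h.min.not_solvable (Group.isSolvable_of_ker_le_range (Subgroup.center G).subtype π
      (by rw [QuotientGroup.ker_mk', Subgroup.range_subtype]))
  obtain ⟨hTn, -, -⟩ := Cfsg.Agent.S0949.result T m hm (e2.symm.trans e) hns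
  rcases hTn.eq_bot_or_eq_top with e0 | e0
  · have h0 : π ((r : G)) ∈ (T : Subgroup (G ⧸ Subgroup.center G)) := Subgroup.mem_map_of_mem _ r.2
    rw [e0, Subgroup.mem_bot] at h0
    have := CAGroups.AbelianCent.injOn_mk (T := S) h.odd r.2 (one_mem _)
      (h0.trans (map_one _).symm)
    exact hr (by rw [show r = 1 from Subtype.ext this, one_pow])
  · haveI : Group.IsSolvable (G ⧸ Subgroup.center G) := Group.isSolvable_of_comm fun a b => by
      obtain ⟨a', ha', rfl⟩ := (e0 ▸ Subgroup.mem_top a : a ∈ (T : Subgroup _))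
      obtain ⟨b', hb', rfl⟩ := (e0 ▸ Subgroup.mem_top b : b ∈ (T : Subgroup _))
      exact ((h.sylow_comm S a' ha' b' hb').map π).eq
    exact h.min.not_solvable (Group.isSolvable_of_ker_le_range (Subgroup.center G).subtype π
      (by rw [QuotientGroup.ker_mk', Subgroup.range_subtype]))

theorem kleinStep : KleinStep.{u} := by
  intro G _ _ hmin hp hs hodd ⟨t, ht, htr⟩
  have h : QS G := ⟨hmin, hp, hs, hodd⟩
  haveI : Fact (Nat.Prime 2) := ⟨Nat.prime_two⟩
  have hz : IsPGroup 2 (Subgroup.zpowers t) :=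
    IsPGroup.of_card (n := 1) (by rw [Nat.card_zpowers, ht, pow_one])
  obtain ⟨S, hS⟩ := hz.exists_le_sylow
  have htS : t ∈ (S : Subgroup G) := hS (Subgroup.mem_zpowers t)
  obtain ⟨n, hn, hnt⟩ := h.exists_moved S htS ht
  have hsq := h.sylow_exponent S htS ht htr
  have hinv := h.involutions_eq S htS ht htr hn hnt
  obtain ⟨hcomm, K, hK1, hK2, hK3, hK4⟩ := h.centralizer_split S htS ht
  have ht1 : t ≠ 1 := fun e => by rw [e, orderOf_one] at ht; omega
  set u := n * t * n⁻¹ with hu
  have hu1 : u ≠ 1 := fun e => ht1 (conj_eq_one_iff.mp e)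
  have hut : u ≠ t := fun e => hnt (show n * t = t * n by
    calc n * t = u * n := by rw [hu]; group
      _ = t * n := by rw [e])
  have huS : u ∈ (S : Subgroup G) := (Subgroup.mem_normalizer_iff.mp hn t).mp htS
  have hcard : Nat.card (S : Subgroup G) = 4 := by
    classical
    have ht2 : t * t = 1 := hsq t htS
    have hset : ((S : Subgroup G) : Set G) = ({1, t, u, t * u} : Finset G) := by
      ext a
      simp only [Finset.coe_insert, Finset.coe_singleton, Set.mem_insert_iff, Set.mem_singleton_iff,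
        SetLike.mem_coe]
      refine ⟨fun ha => hinv a ha (hsq a ha), ?_⟩
      rintro (rfl | rfl | rfl | rfl)
      exacts [one_mem _, htS, huS, mul_mem htS huS]
    have h1 : Nat.card ((S : Subgroup G) : Set G) = Set.ncard ((S : Subgroup G) : Set G) := rfl
    show Nat.card ((S : Subgroup G) : Set G) = 4
    rw [h1, hset, Set.ncard_coe_finset]
    have htu1 : t * u ≠ 1 := fun e => hut (mul_left_cancel (e.trans ht2.symm))
    have htut : t * u ≠ t := fun e => hu1 (mul_eq_left.mp e)
    have htuu : t * u ≠ u := fun e => ht1 (mul_eq_right.mp e)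
    simp [ht1.symm, hu1.symm, hut.symm, htu1.symm, htut.symm, htuu.symm]
  exact ⟨⟨S, t, u, n, K, hcard, hsq, htS, huS, ht1, hu1, hut, htr, hn, rfl, hK1, hK2, hK3, hK4,
    hcomm⟩⟩

end CfsgLib.MinNonCA98
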