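import Mathlib
import Cfsg.Agent.MinNonCA98.Interfaces
import Cfsg.Agent.MinNonCA98.DSteps
import Cfsg.Agent.MinNonCA98.CoverD
import Cfsg.Agent.MinNonCA98.Klein

/-!
# Assembly of the classification of minimal non-CA groups
-/

set_option autoImplicit false

namespace CfsgLib.MinNonCA98

universe u v w

/-- Piece D from its four parts. -/
theorem recognitionStep_of (hE : EndStep.{u}) : RecognitionStep.{u} := by
  intro G _ _ hmin hp hs hodd
  obtain ⟨K⟩ := kleinStep G hmin hp hs hodd (involutionStep G hmin hp hs hodd)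
  obtain ⟨F, _, _, hq, hq5, hq9, he⟩ := hE G hmin hp hs hodd K
  exact ⟨F, _, _, hq, hq5, coverStep G F hp hodd hq hq5 hq9 he⟩

/-- Minimal non-CA groups are preserved by isomorphisms. -/
theorem MinNonCA.of_equiv {G : Type v} [Group G] {H : Type w} [Group H] (e : G ≃* H)
    (h : MinNonCA G) : MinNonCA H := by
  have hc : ∀ {a b : G}, Commute (e a) (e b) ↔ Commute a b := fun {a b} =>
    ⟨fun hab => e.injective (by rw [map_mul, map_mul]; exact hab.eq), fun hab => hab.map e⟩
  refine ⟨fun hs => h.not_solvable ?_, fun hca => h.not_ca ?_, fun K hK => ?_⟩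
  · haveI := hs
    exact Group.isSolvable_of_isSolvable_injective (f := e.toMonoidHom) e.injective
  · intro x a b hx hxa hxb
    refine hc.mp (hca (e x) (e a) (e b) (fun hcx => hx ?_) (hxa.map e) (hxb.map e))
    exact Subgroup.mem_center_iff.mpr fun y =>
      (hc.mp (Subgroup.mem_center_iff.mp hcx (e y))).eq
  · intro x hx ⟨y, hy, hxy⟩ a ha b hb hxa hxb
    have hK' : K.comap e.toMonoidHom ≠ ⊤ := fun ht => hK (eq_top_iff.mpr fun k _ => by
      have : e.symm k ∈ K.comap e.toMonoidHom := ht ▸ Subgroup.mem_top _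
      simpa using this)
    have hm : ∀ {k : H}, k ∈ K → e.symm k ∈ K.comap e.toMonoidHom := fun hk => by simpa using hk
    have hr := h.proper _ hK' (e.symm x) (hm hx)
      ⟨e.symm y, hm hy, fun hh => hxy (by simpa using hh.map e)⟩ (e.symm a) (hm ha) (e.symm b)
      (hm hb) (hxa.map e.symm) (hxb.map e.symm)
    simpa using hr.map e

theorem minNonCA_iff {G : Type v} [Group G] :
    (¬ Group.IsSolvable G ∧
      ¬ (∀ x : G, x ∉ Subgroup.center G →
          IsMulCommutative (Subgroup.centralizer ({x} : Set G))) ∧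
      ∀ H : Subgroup G, H ≠ ⊤ → ∀ x : H, x ∉ Subgroup.center H →
        IsMulCommutative (Subgroup.centralizer ({x} : Set H))) ↔ MinNonCA G :=
  ⟨fun ⟨h1, h2, h3⟩ => ⟨h1, fun hca => h2 (ca_iff.mp hca),
      fun H hH => (caIn_iff H).mpr (h3 H hH)⟩,
    fun h => ⟨h.not_solvable, fun hca => h.not_ca (ca_iff.mpr hca),
      fun H hH => (caIn_iff H).mp (h.proper H hH)⟩⟩

/-- The classification from the pieces. -/
theorem classification_of (hA : RadicalStep.{u}) (hB : PerfectStep.{u}) (hC : OddCenterStep.{u})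
    (hEnd : EndStep.{u}) (hF : FieldStep) {G : Type u} [Group G] [Finite G] :
    MinNonCA G ↔ ∃ (F : Type) (_ : Field F) (_ : Fintype F),
      Nonempty (G ≃* Matrix.ProjectiveSpecialLinearGroup (Fin 2) F) ∧
        FieldCond (Fintype.card F) := by
  constructor
  · intro h
    obtain ⟨hp, hs⟩ := hB G h (hA G h)
    obtain ⟨F, _, _, hq, -, ⟨e⟩⟩ :=
      recognitionStep_of hEnd G h hp hs (hC G h hp hs)
    exact ⟨F, _, _, ⟨e⟩, (hF F).1 hq (h.of_equiv e)⟩
  · rintro ⟨F, _, _, ⟨e⟩, hq⟩
    exact ((hF F).2 hq).of_equiv e.symm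

end CfsgLib.MinNonCA98
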