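import Mathlib
import Cfsg.Agent.Eq.Def_CaseTheorems
import Cfsg.Agent.MinNonCA98.Basic
import Cfsg.Agent.MinNonCA98.DSteps
import Cfsg.Agent.FourCore42.Complement
import Cfsg.Agent.Classical.Linear.Card
import Cfsg.Agent.S0508

/-!
# The four-group case of the recognition step

In `C(t) = K V` the centraliser `A = C_K(u)` is abelian and a TI subgroup modulo `K ∩ Z(C(t))`.
Transfer gives a normal complement, whose part inverted by `u` modulo the centre is a complement
in `G / Z(G)`; the four-group core theorem kills `A`, and the Brauer–Suzuki–Wall theorem applies.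
-/

set_option autoImplicit false
set_option linter.style.haveILetI false
set_option linter.unusedSectionVars false

namespace CfsgLib.MinNonCA98

open scoped IsMulCommutative commutatorElement

universe u

section TransferLemma

variable {K : Type*} [Group K] [Finite K]

/-- An abelian subgroup which is a TI self-normalising subgroup modulo a central subgroup has a
transfer map to the quotient extending the projection. -/
theorem exists_projection_endD (A : Subgroup K) [IsMulCommutative A] (Z : Subgroup K)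
    (hZc : Z ≤ Subgroup.center K)
    (hTI : ∀ a ∈ A, a ∉ Z → ∀ g : K, g⁻¹ * a * g ∈ A → g ∈ A) :
    ∃ V : K →* A ⧸ Z.subgroupOf A, ∀ a : A, V (a : K) = QuotientGroup.mk a := by
  classical
  refine ⟨MonoidHom.transfer (QuotientGroup.mk' (Z.subgroupOf A)), fun a => ?_⟩
  haveI : Fintype (Quotient (MulAction.orbitRel (Subgroup.zpowers (a : K)) (K ⧸ A))) :=
    Fintype.ofFinite _
  rw [MonoidHom.transfer_eq_prod_quotient_orbitRel_zpowers_quot]
  have h1 : (a : K) • (QuotientGroup.mk (1 : K) : K ⧸ A) = QuotientGroup.mk (1 : K) := by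
    rw [MulAction.Quotient.smul_mk, QuotientGroup.eq]
    simp
  set q0 : Quotient (MulAction.orbitRel (Subgroup.zpowers (a : K)) (K ⧸ A)) :=
    Quotient.mk'' (QuotientGroup.mk (1 : K)) with hq0
  rw [Finset.prod_eq_single q0]
  · have hout : q0.out = QuotientGroup.mk (1 : K) := by
      have hr : (MulAction.orbitRel (Subgroup.zpowers (a : K)) (K ⧸ A)) q0.out
          (QuotientGroup.mk (1 : K)) := Quotient.mk_out (QuotientGroup.mk (1 : K))
      obtain ⟨⟨_, i, rfl⟩, hi⟩ := hr
      rw [← hi]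
      show (a : K) ^ i • (QuotientGroup.mk (1 : K) : K ⧸ A) = QuotientGroup.mk (1 : K)
      exact MulAction.mem_stabilizer_iff.1
        (Subgroup.zpow_mem _ (MulAction.mem_stabilizer_iff.2 h1) i)
    have hper : Function.minimalPeriod ((a : K) • ·) q0.out = 1 := by
      rw [Function.minimalPeriod_eq_one_iff_isFixedPt, hout]
      exact h1
    have hmem : q0.out.out ∈ A := by
      have h := QuotientGroup.out_eq' q0.out
      rw [hout, QuotientGroup.eq] at h
      rw [hout]
      simpa using h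
    refine congrArg (QuotientGroup.mk' (Z.subgroupOf A)) (Subtype.ext ?_)
    show q0.out.out⁻¹ * (a : K) ^ Function.minimalPeriod ((a : K) • ·) q0.out * q0.out.out = (a : K)
    rw [hper, pow_one]
    have hc : Commute (a : K) q0.out.out := congrArg Subtype.val (mul_comm' a ⟨_, hmem⟩)
    rw [mul_assoc, hc.eq, inv_mul_cancel_left]
  · intro q _ hq
    refine (QuotientGroup.eq_one_iff _).2 ?_
    rw [Subgroup.mem_subgroupOf]
    show q.out.out⁻¹ * (a : K) ^ Function.minimalPeriod ((a : K) • ·) q.out * q.out.out ∈ Z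
    set n := Function.minimalPeriod ((a : K) • ·) q.out
    by_cases hn : (a : K) ^ n ∈ Z
    · rw [mul_assoc, ← Subgroup.mem_center_iff.1 (hZc hn) q.out.out, inv_mul_cancel_left]
      exact hn
    · exfalso
      have hg := hTI _ (A.pow_mem a.2 n) hn q.out.out
        (QuotientGroup.out_conj_pow_minimalPeriod_mem A (a : K) q.out)
      refine hq ?_
      rw [← q.out_eq, hq0]
      refine congrArg _ ?_
      rw [← QuotientGroup.out_eq' q.out, QuotientGroup.eq]
      simpa using A.inv_mem hg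
  · exact fun h => absurd (Finset.mem_univ q0) h

/-- An element of prime power order of `A`, not in `Z`, makes the index of `A` prime to that
prime. -/
theorem not_dvd_index_endD (A : Subgroup K) (Z : Subgroup K)
    (hTI : ∀ a ∈ A, a ∉ Z → ∀ g : K, g⁻¹ * a * g ∈ A → g ∈ A) {w : K} (hw : w ∈ A) (hwZ : w ∉ Z)
    {p : ℕ} [Fact p.Prime] {i : ℕ} (hwp : orderOf w = p ^ i) : ¬ p ∣ A.index := by
  classical
  have hP : IsPGroup p (Subgroup.zpowers w) := IsPGroup.of_card (by rw [Nat.card_zpowers, hwp])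
  have h := hP.card_modEq_card_fixedPoints (K ⧸ A)
  have hfix : MulAction.fixedPoints (Subgroup.zpowers w) (K ⧸ A) =
      ({QuotientGroup.mk (1 : K)} : Set (K ⧸ A)) := by
    ext x
    induction x using QuotientGroup.induction_on with
    | _ g =>
      rw [MulAction.mem_fixedPoints, Set.mem_singleton_iff, QuotientGroup.eq]
      constructor
      · intro hg
        have h2 : (QuotientGroup.mk (w * g) : K ⧸ A) = QuotientGroup.mk g :=
          hg ⟨w, Subgroup.mem_zpowers w⟩
        rw [QuotientGroup.eq] at h2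
        have h3 : g⁻¹ * w * g ∈ A := by
          have := A.inv_mem h2
          simpa [mul_assoc] using this
        simpa using A.inv_mem (hTI w hw hwZ g h3)
      · intro hg
        have hgA : g ∈ A := by simpa using A.inv_mem hg
        rintro ⟨_, j, rfl⟩
        show (QuotientGroup.mk (w ^ j * g) : K ⧸ A) = QuotientGroup.mk g
        rw [QuotientGroup.eq]
        exact A.mul_mem (A.inv_mem (A.mul_mem (A.zpow_mem hw j) hgA)) hgA
  rw [hfix, Nat.card_unique (α := ({QuotientGroup.mk (1 : K)} : Set (K ⧸ A))),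
    ← Subgroup.index_eq_card] at h
  intro hd
  have h0 : A.index % p = 0 := Nat.dvd_iff_mod_eq_zero.1 hd
  rw [Nat.ModEq, h0, Nat.one_mod_eq_one.2 (Fact.out : p.Prime).ne_one] at h
  exact zero_ne_one h

omit [Finite K] in
/-- A commutator with central value has the powers expected. -/
theorem commutator_pow_endD {a b : K} (hz : ⁅a, b⁆ ∈ Subgroup.center K) (n : ℕ) :
    ⁅a ^ n, b⁆ = ⁅a, b⁆ ^ n := by
  induction n with
  | zero => simp
  | succ n ih =>
    have hc : a ^ n * ⁅a, b⁆ * (a ^ n)⁻¹ = ⁅a, b⁆ := by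
      rw [Subgroup.mem_center_iff.1 hz (a ^ n), mul_inv_cancel_right]
    calc ⁅a ^ (n + 1), b⁆ = a ^ n * ⁅a, b⁆ * (a ^ n)⁻¹ * ⁅a ^ n, b⁆ := by
          rw [pow_succ]; simp only [commutatorElement_def]; group
      _ = _ := by rw [hc, ih, ← pow_succ']

/-- The kernel of a retraction modulo a central subgroup on which an involutory automorphism
fixing only that subgroup acts is abelian modulo it, and inverted. -/
theorem exists_inverted_kernel_endD (A : Subgroup K) [IsMulCommutative A] (Z : Subgroup K)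
    (hZc : Z ≤ Subgroup.center K) (hZA : Z ≤ A) (hK : Odd (Nat.card K))
    (hTI : ∀ a ∈ A, a ∉ Z → ∀ g : K, g⁻¹ * a * g ∈ A → g ∈ A)
    (σ : K ≃* K) (hσ : ∀ x, σ (σ x) = x) (hfix : ∀ x, σ x = x ↔ x ∈ A) :
    ∃ N : Subgroup K, N.Normal ∧ Z ≤ N ∧ N ⊓ A = Z ∧ (∀ x ∈ N, σ x ∈ N) ∧
      (∀ k : K, ∃ x ∈ N, ∃ a ∈ A, k = x * a) ∧ (∀ x ∈ N, σ x * x ∈ Z) ∧
      (∀ a ∈ N, ∀ b ∈ N, ⁅a, b⁆ ∈ Z) ∧ (∀ a ∈ N, a ^ A.index ∈ Z) := by
  classical
  obtain ⟨V, hV⟩ := exists_projection_endD A Z hZc hTI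
  let W : K →* A ⧸ Z.subgroupOf A :=
    { toFun := fun x => V x * V (σ x)
      map_one' := by simp
      map_mul' := fun x y => by simp only [map_mul]; exact mul_mul_mul_comm _ _ _ _ }
  have hWA : ∀ a : A, W (a : K) = (QuotientGroup.mk a : A ⧸ Z.subgroupOf A) ^ 2 := fun a => by
    show V (a : K) * V (σ (a : K)) = _
    rw [(hfix _).2 a.2, hV, pow_two]
  have hQodd : Odd (Nat.card (A ⧸ Z.subgroupOf A)) :=
    hK.of_dvd_nat ((Subgroup.card_quotient_dvd_card _).trans (Subgroup.card_subgroup_dvd_card A))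
  obtain ⟨k, hk⟩ := hQodd
  have hroot : ∀ q : A ⧸ Z.subgroupOf A, (q ^ (k + 1)) ^ 2 = q := fun q => by
    rw [← pow_mul, show (k + 1) * 2 = Nat.card (A ⧸ Z.subgroupOf A) + 1 by omega, pow_succ,
      pow_card_eq_one', one_mul]
  have hinj : ∀ q : A ⧸ Z.subgroupOf A, q ^ 2 = 1 → q = 1 := fun q hq => by
    rw [← hroot q, ← pow_mul, Nat.mul_comm, pow_mul, hq, one_pow]
  have hdec : ∀ x : K, ∃ y ∈ W.ker, ∃ a ∈ A, x = y * a := by
    intro x
    obtain ⟨a, ha⟩ := QuotientGroup.mk_surjective ((W x) ^ (k + 1))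
    have e : W (a : K) = W x := by rw [hWA a, ha, hroot]
    refine ⟨x * (a : K)⁻¹, ?_, (a : K), a.2, by group⟩
    rw [MonoidHom.mem_ker, map_mul, map_inv, e, mul_inv_cancel]
  have hZW : Z ≤ W.ker := fun z hz => by
    rw [MonoidHom.mem_ker, show z = ((⟨z, hZA hz⟩ : A) : K) from rfl, hWA,
      (QuotientGroup.eq_one_iff _).2 (Subgroup.mem_subgroupOf.2 hz), one_pow]
  have hmeet : W.ker ⊓ A = Z := by
    refine le_antisymm ?_ (le_inf hZW hZA)
    rintro x ⟨hx, hxA⟩
    have h : W ((⟨x, hxA⟩ : A) : K) = 1 := hx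
    rw [hWA] at h
    exact Subgroup.mem_subgroupOf.1 ((QuotientGroup.eq_one_iff (⟨x, hxA⟩ : A)).1 (hinj _ h))
  have hσN : ∀ x ∈ W.ker, σ x ∈ W.ker := fun x hx => by
    rw [MonoidHom.mem_ker] at hx ⊢
    show V (σ x) * V (σ (σ x)) = 1
    rw [hσ, mul_comm]
    exact hx
  -- the involution acts without fixed points on `W.ker / Z`
  set N : Subgroup K := W.ker with hN
  set Z' : Subgroup N := Z.subgroupOf N with hZ'
  haveI : Z'.Normal := ⟨fun z hz g => by
    rw [hZ', Subgroup.mem_subgroupOf] at hz ⊢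
    rw [show ((g * z * g⁻¹ : N) : K) = (g : K) * z * (g : K)⁻¹ from rfl,
      Subgroup.mem_center_iff.1 (hZc hz) (g : K), mul_inv_cancel_right]
    exact hz⟩
  let σN : (↥N) →* (↥N) :=
    { toFun := fun (x : ↥N) => (⟨σ x.1, hσN x.1 x.2⟩ : ↥N)
      map_one' := Subtype.ext (map_one σ)
      map_mul' := fun x y => Subtype.ext (map_mul σ x.1 y.1) }
  have hσZ : ∀ z ∈ Z, σ z = z := fun z hz => (hfix z).2 (hZA hz)
  have hle : Z' ≤ Z'.comap σN := fun z hz => by
    rw [hZ', Subgroup.mem_comap, Subgroup.mem_subgroupOf] at *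
    show σ (z : K) ∈ Z
    rw [hσZ _ hz]; exact hz
  let ψ : N ⧸ Z' →* N ⧸ Z' := QuotientGroup.map Z' Z' σN hle
  have hψ : ∀ x : N, ψ (QuotientGroup.mk x) = QuotientGroup.mk (σN x) := fun x => rfl
  have hψ2 : Function.Involutive ψ := by
    intro q
    induction q using QuotientGroup.induction_on with
    | _ x =>
      rw [hψ, hψ]
      exact congrArg _ (Subtype.ext (hσ x))
  have hψf : MonoidHom.FixedPointFree ψ := by
    intro q hq
    induction q using QuotientGroup.induction_on with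
    | _ x =>
      rw [hψ, QuotientGroup.eq, hZ', Subgroup.mem_subgroupOf] at hq
      rw [QuotientGroup.eq_one_iff, hZ', Subgroup.mem_subgroupOf]
      have hz : (σ (x : K))⁻¹ * (x : K) ∈ Z := hq
      have e : σ ((σ (x : K))⁻¹ * (x : K)) = ((σ (x : K))⁻¹ * (x : K))⁻¹ := by
        rw [map_mul, map_inv, hσ, mul_inv_rev, inv_inv]
      rw [hσZ _ hz] at e
      have h1 : (σ (x : K))⁻¹ * (x : K) = 1 := by
        have h2 : ((σ (x : K))⁻¹ * (x : K)) ^ 2 = 1 := by
          rw [pow_two]; nth_rewrite 2 [e]; exact mul_inv_cancel _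
        refine orderOf_eq_one_iff.1 (Nat.dvd_one.1 ?_)
        obtain ⟨j, hj⟩ := hK
        have hd := Nat.dvd_gcd (orderOf_dvd_of_pow_eq_one h2) (orderOf_dvd_natCard ((σ (x : K))⁻¹ * (x : K)))
        have hg : Nat.gcd 2 (Nat.card K) = 1 :=
          Nat.coprime_two_left.2 ⟨j, hj⟩
        rwa [hg] at hd
      have hxA : (x : K) ∈ A := (hfix _).1 (inv_mul_eq_one.1 h1)
      rw [← hmeet]
      exact ⟨x.2, hxA⟩
  have hinv : ∀ x ∈ N, σ x * x ∈ Z := by
    intro x hx
    have h := congrFun (hψf.coe_eq_inv_of_involutive hψ2) (QuotientGroup.mk (⟨x, hx⟩ : N))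
    rw [hψ] at h
    have h' : (QuotientGroup.mk (σN ⟨x, hx⟩ * ⟨x, hx⟩) : N ⧸ Z') = 1 := by
      rw [QuotientGroup.mk_mul, h]; exact inv_mul_cancel _
    exact Subgroup.mem_subgroupOf.1 ((QuotientGroup.eq_one_iff _).1 h')
  have hcomm : ∀ a ∈ N, ∀ b ∈ N, ⁅a, b⁆ ∈ Z := by
    intro a ha b hb
    have h := hψf.commute_all_of_involutive hψ2 (QuotientGroup.mk (⟨a, ha⟩ : N))
      (QuotientGroup.mk (⟨b, hb⟩ : N))
    have h' : (QuotientGroup.mk ⁅(⟨a, ha⟩ : N), ⟨b, hb⟩⁆ : N ⧸ Z') = 1 := by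
      rw [← QuotientGroup.mk'_apply, map_commutatorElement]
      exact commutatorElement_eq_one_iff_commute.2 h
    exact Subgroup.mem_subgroupOf.1 ((QuotientGroup.eq_one_iff _).1 h')
  have hidx : Z'.index = A.index := by
    have hrange : W.range = ⊤ := by
      refine eq_top_iff.2 fun q _ => ?_
      obtain ⟨a, ha⟩ := QuotientGroup.mk_surjective (q ^ (k + 1))
      exact ⟨(a : K), by rw [hWA a, ha, hroot]⟩
    have h1 : N.index = (Z.subgroupOf A).index := by
      rw [hN, Subgroup.index_ker, hrange, Subgroup.card_top, Subgroup.index_eq_card]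
    have h2 : (Z.subgroupOf N).index * N.index = Z.index :=
      Subgroup.relIndex_mul_index hZW
    have h3 : (Z.subgroupOf A).index * A.index = Z.index := Subgroup.relIndex_mul_index hZA
    rw [h1, ← h3, mul_comm] at h2
    exact Nat.eq_of_mul_eq_mul_left (Nat.pos_of_ne_zero Subgroup.FiniteIndex.index_ne_zero) h2
  refine ⟨N, inferInstance, hZW, hmeet, hσN, hdec, hinv, hcomm, fun a ha => ?_⟩
  rw [← hidx]
  exact Subgroup.mem_subgroupOf.1 (Z'.pow_index_mem (⟨a, ha⟩ : N))

omit [Finite K] in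
/-- The inverted complement modulo a central subgroup `C ≤ Z`. -/
theorem exists_inverted_complement_endD (A : Subgroup K) (Z C : Subgroup K) (hCZ : C ≤ Z)
    (hZc : Z ≤ Subgroup.center K) (hZA : Z ≤ A) (hK : Odd (Nat.card K)) (σ : K ≃* K)
    (hσ : ∀ x, σ (σ x) = x) (hfix : ∀ x, σ x = x ↔ x ∈ A) (N : Subgroup K)
    (hσN : ∀ x ∈ N, σ x ∈ N) (hdec : ∀ k : K, ∃ x ∈ N, ∃ a ∈ A, k = x * a)
    (hinv : ∀ x ∈ N, σ x * x ∈ Z) (hN : N.Normal) (hcomm : ∀ a ∈ N, ∀ b ∈ N, ⁅a, b⁆ ∈ C) :
    ∃ M : Subgroup K, M.Normal ∧ (∀ x ∈ M, σ x ∈ M) ∧ (∀ x ∈ M, σ x * x ∈ C) ∧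
      (∀ x ∈ M, x ∈ A → x ∈ C) ∧ (∀ k : K, ∃ x ∈ M, ∃ a ∈ A, k = x * a) := by
  classical
  have hcc : ∀ c ∈ C, ∀ g : K, g * c = c * g := fun c hc g =>
    Subgroup.mem_center_iff.1 (hZc (hCZ hc)) g
  have hσC : ∀ c ∈ C, σ c = c := fun c hc => (hfix c).2 (hZA (hCZ hc))
  let M : Subgroup K :=
    { carrier := {x | x ∈ N ∧ σ x * x ∈ C}
      one_mem' := ⟨N.one_mem, by simp⟩
      mul_mem' := by
        rintro x y ⟨hx, hx'⟩ ⟨hy, hy'⟩
        refine ⟨N.mul_mem hx hy, ?_⟩
        have hc := hcomm _ (hσN y hy) x hx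
        have e : σ (x * y) * (x * y) = ⁅σ y, x⁆ * (σ x * x) * (σ y * y) := by
          rw [map_mul]
          have h1 : σ y * x = ⁅σ y, x⁆ * (x * σ y) := by
            rw [commutatorElement_def]; group
          calc σ x * σ y * (x * y) = σ x * (σ y * x) * y := by group
            _ = (σ x * ⁅σ y, x⁆) * (x * σ y) * y := by rw [h1]; group
            _ = (⁅σ y, x⁆ * σ x) * (x * σ y) * y := by rw [hcc _ hc (σ x)]
            _ = _ := by group
        rw [e]
        exact C.mul_mem (C.mul_mem hc hx') hy'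
      inv_mem' := by
        rintro x ⟨hx, hx'⟩
        refine ⟨N.inv_mem hx, ?_⟩
        have e : σ x⁻¹ * x⁻¹ = (σ x * x)⁻¹ * ⁅x, σ x⁆⁻¹ := by
          rw [map_inv]; simp only [commutatorElement_def]; group
        rw [e]
        exact C.mul_mem (C.inv_mem hx') (C.inv_mem (hcomm x hx _ (hσN x hx))) }
  have hmem : ∀ x, x ∈ M ↔ x ∈ N ∧ σ x * x ∈ C := fun x => Iff.rfl
  have hMA : ∀ x ∈ M, x ∈ A → x ∈ C := by
    intro x hx hxA
    have h2 : x * x ∈ C := by
      have := ((hmem x).1 hx).2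
      rwa [(hfix x).2 hxA] at this
    obtain ⟨j, hj⟩ := hK
    have : x = (x * x) ^ (j + 1) := by
      rw [← pow_two, ← pow_mul, show 2 * (j + 1) = Nat.card K + 1 by omega, pow_succ,
        pow_card_eq_one', one_mul]
    rw [this]; exact C.pow_mem h2 _
  have hσM : ∀ x ∈ M, σ x ∈ M := by
    intro x hx
    obtain ⟨hx, hx'⟩ := (hmem x).1 hx
    refine (hmem _).2 ⟨hσN x hx, ?_⟩
    rw [← hσC _ hx', map_mul, hσ] at hx'
    rw [hσ]
    exact hx'
  have hMn : M.Normal := ⟨fun x hx g => by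
    obtain ⟨n, hn, a, ha, rfl⟩ := hdec g
    obtain ⟨hx, hx'⟩ := (hmem x).1 hx
    have h1 : a * x * a⁻¹ ∈ M := by
      refine (hmem _).2 ⟨hN.conj_mem x hx a, ?_⟩
      rw [map_mul, map_mul, map_inv, (hfix a).2 ha,
        show a * σ x * a⁻¹ * (a * x * a⁻¹) = a * (σ x * x) * a⁻¹ by group, hcc _ hx' a,
        mul_inv_cancel_right]
      exact hx'
    rw [show n * a * x * (n * a)⁻¹ = ⁅n, a * x * a⁻¹⁆ * (a * x * a⁻¹) by
      simp only [commutatorElement_def]; group]
    refine M.mul_mem ?_ h1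
    have hc := hcomm n hn _ (hN.conj_mem x hx a)
    refine (hmem _).2 ⟨hN.conj_mem x hx a |> fun h => ?_, ?_⟩
    · rw [commutatorElement_def]
      exact N.mul_mem (N.mul_mem (N.mul_mem hn h) (N.inv_mem hn)) (N.inv_mem h)
    · rw [hσC _ hc]; exact C.mul_mem hc hc⟩
  refine ⟨M, hMn, hσM, fun x hx => ((hmem x).1 hx).2, hMA, ?_⟩
  intro g
  obtain ⟨n, hn, a, ha, rfl⟩ := hdec g
  set c := n * (σ n)⁻¹ with hc
  have hcM : c ∈ M := by
    refine (hmem _).2 ⟨N.mul_mem hn (N.inv_mem (hσN n hn)), ?_⟩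
    rw [hc, map_mul, map_inv, hσ, show σ n * n⁻¹ * (n * (σ n)⁻¹) = 1 by group]
    exact C.one_mem
  have he := hinv n hn
  have hn2 : n ^ 2 = c * (σ n * n) := by rw [hc, pow_two]; group
  obtain ⟨j, hj⟩ := hK
  have hroot : n = c ^ (j + 1) * (σ n * n) ^ (j + 1) := by
    have hcom : Commute c (σ n * n) := Subgroup.mem_center_iff.1 (hZc he) c
    rw [← hcom.mul_pow, ← hn2, ← pow_mul, show 2 * (j + 1) = Nat.card K + 1 by omega, pow_succ,
      pow_card_eq_one', one_mul]
  refine ⟨c ^ (j + 1), M.pow_mem hcM _, (σ n * n) ^ (j + 1) * a,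
    A.mul_mem (A.pow_mem (hZA he) _) ha, ?_⟩
  rw [← mul_assoc, ← hroot]

end TransferLemma

open CfsgLib.FourCore42 CfsgLib.KleinFourBlock

variable {G : Type u} [Group G] [Finite G]

omit [Finite G] in
theorem eq_one_of_sq_of_odd_endD {H : Subgroup G} (hH : Odd (Nat.card H)) {x : G} (hx : x ∈ H)
    (h2 : x * x = 1) : x = 1 := by
  obtain ⟨j, hj⟩ := hH
  have h : x ^ Nat.card H = 1 := congrArg Subtype.val (pow_card_eq_one' (x := (⟨x, hx⟩ : H)))
  rwa [hj, pow_succ, pow_mul, pow_two, h2, one_pow, one_mul] at h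

omit [Finite G] in
theorem mem_of_sq_mem_endD {H : Subgroup G} {x : G} (ho : Odd (orderOf x)) (h2 : x * x ∈ H) :
    x ∈ H := by
  obtain ⟨j, hj⟩ := ho
  have e : x = (x * x) ^ (j + 1) := by
    rw [← pow_two, ← pow_mul, show 2 * (j + 1) = orderOf x + 1 by omega, pow_succ,
      pow_orderOf_eq_one, one_mul]
  rw [e]; exact H.pow_mem h2 _

omit [Finite G] in
/-- An element moved by an involution only inside the odd centre is fixed by it. -/
theorem commute_of_commutator_center_endD (hodd : Odd (Nat.card (Subgroup.center G))) {g v : G}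
    (hv : v * v = 1) (h : g * v * g⁻¹ * v⁻¹ ∈ Subgroup.center G) : Commute v g := by
  set z := g * v * g⁻¹ * v⁻¹ with hz
  have hc : v * z = z * v := Subgroup.mem_center_iff.1 h v
  have e : z * v = g * v * g⁻¹ := by rw [hz]; group
  have h1 : z * z = 1 := by
    calc z * z = z * z * (v * v) := by rw [hv, mul_one]
      _ = z * (v * z) * v := by rw [hc]; group
      _ = (z * v) * (z * v) := by group
      _ = g * (v * v) * g⁻¹ := by rw [e]; group
      _ = 1 := by rw [hv, mul_one, mul_inv_cancel]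
  have h2 := eq_one_of_sq_of_odd_endD hodd h h1
  rw [h2, one_mul] at e
  exact (mul_inv_eq_iff_eq_mul.1 e.symm).symm

namespace KleinData

variable (D : KleinData G)

theorem isKleinFour : IsKleinFour (D.V : Subgroup G) := by
  refine ⟨D.card_V, ?_⟩
  haveI : Nontrivial (D.V : Subgroup G) := ⟨⟨⟨D.t, D.t_mem⟩, 1,
    fun h => D.t_ne (congrArg Subtype.val h)⟩⟩
  exact Monoid.exponent_eq_prime_iff (hp := Nat.prime_two) |>.2 fun g hg =>
    orderOf_eq_prime (Subtype.ext (by rw [pow_two]; exact D.sq_V g g.2)) hg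

omit [Finite G] in
theorem commute_V {a b : G} (ha : a ∈ (D.V : Subgroup G)) (hb : b ∈ (D.V : Subgroup G)) :
    Commute a b := by
  have h := D.sq_V _ (mul_mem ha hb)
  calc a * b = a * b * (b * a * (a * b)) := by
        rw [show b * a * (a * b) = b * (a * a) * b by group, D.sq_V a ha, mul_one, D.sq_V b hb,
          mul_one]
    _ = a * (b * b) * a * (a * b) := by group
    _ = a * b := by rw [D.sq_V b hb, mul_one, D.sq_V a ha, one_mul]
    _ = b * a * ((a * b) * (a * b)) := by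
        rw [show b * a * (a * b * (a * b)) = b * (a * a) * b * (a * b) by group, D.sq_V a ha,
          mul_one, D.sq_V b hb, one_mul]
    _ = b * a := by rw [h, mul_one]

omit [Finite G] in
theorem u_sq : D.u * D.u = 1 := D.sq_V _ D.u_mem

omit [Finite G] in
theorem commute_tu : Commute D.t D.u := D.commute_V D.t_mem D.u_mem

omit [Finite G] in
theorem commute_t {k : G} (hk : k ∈ D.K) : Commute D.t k :=
  mem_centralizer_iff_commute.1 (D.K_le hk)

theorem eq_of_mem {v : G} (hv : v ∈ (D.V : Subgroup G)) :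
    v = 1 ∨ v = D.t ∨ v = D.u ∨ v = D.t * D.u :=
  eq_of_mem_sylow D.isKleinFour D.t_mem D.u_mem D.t_ne D.u_ne D.ne.symm hv

theorem commute_all_V {a : G} (ha : a ∈ D.K) (hu : Commute D.u a) :
    ∀ v ∈ (D.V : Subgroup G), Commute v a := by
  intro v hv
  rcases D.eq_of_mem hv with rfl | rfl | rfl | rfl
  · exact Commute.one_left a
  · exact D.commute_t ha
  · exact hu
  · exact (D.commute_t ha).mul_left hu

theorem mem_K_of_odd {g : G} (hg : Commute D.t g) (ho : Odd (orderOf g)) : g ∈ D.K := by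
  obtain ⟨k, hk, v, hv, rfl⟩ := D.cent g hg
  refine mem_of_sq_mem_endD ho ?_
  rw [show k * v * (k * v) = k * (v * k * v⁻¹) * (v * v) by group, D.sq_V v hv, mul_one]
  exact mul_mem hk (D.K_norm v (D.commute_V D.t_mem hv) k hk)

/-- `u` is not central in the centraliser of `t`. -/
theorem exists_not_commute (h : MinNonCA G)
    (hn : ¬ (Subgroup.centralizer ({D.t} : Set G)).Normal)
    (hodd : Odd (Nat.card (Subgroup.center G))) : ∃ k ∈ D.K, ¬ Commute D.u k := by
  by_contra hall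
  push Not at hall
  have hc : ∀ y : G, Commute D.t y → Commute D.u y := by
    intro y hy
    obtain ⟨k, hk, v, hv, rfl⟩ := D.cent y hy
    exact (hall k hk).mul_right (D.commute_V D.u_mem hv)
  have huc : D.u ∉ Subgroup.center G := fun hu =>
    D.u_ne (eq_one_of_sq_of_odd_endD hodd hu D.u_sq)
  obtain ⟨-, heq⟩ := D.t_red.centralizer_eq h hc huc
  have hf : D.f ∈ Subgroup.normalizer ((Subgroup.centralizer ({D.t} : Set G)) : Set G) := by
    rw [Subgroup.mem_normalizer_iff]
    intro y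
    conv_rhs => rw [← heq]
    rw [mem_centralizer_iff_commute, mem_centralizer_iff_commute, ← D.f_t]
    exact (Commute.conj_iff D.f).symm
  rw [D.t_red.normalizer_eq h hn, mem_centralizer_iff_commute] at hf
  refine D.ne ?_
  rw [← D.f_t, ← hf.eq, mul_inv_cancel_right]

/-- A normal complement of `C_K(u)` modulo the centre, inverted by `u`. -/
theorem exists_complement (h : MinNonCA G)
    (hn : ¬ (Subgroup.centralizer ({D.t} : Set G)).Normal)
    (hodd : Odd (Nat.card (Subgroup.center G))) :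
    ∃ M : Subgroup G, M ≤ D.K ∧ (∀ k ∈ D.K, ∀ x ∈ M, k * x * k⁻¹ ∈ M) ∧
      (∀ x ∈ M, D.u * x * D.u⁻¹ ∈ M) ∧ (∀ x ∈ M, D.u * x * D.u⁻¹ * x ∈ Subgroup.center G) ∧
      (∀ x ∈ M, Commute D.u x → x ∈ Subgroup.center G) ∧
      (∀ k ∈ D.K, ∃ x ∈ M, ∃ a ∈ D.K, Commute D.u a ∧ k = x * a) := by
  classical
  obtain ⟨k₀, hk₀, hk₀u⟩ := D.exists_not_commute h hn hodd
  have hMne : Subgroup.centralizer ({D.t} : Set G) ≠ ⊤ := D.t_red.centralizer_ne_top
  have huM : D.u ∈ Subgroup.centralizer ({D.t} : Set G) :=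
    mem_centralizer_iff_commute.2 D.commute_tu
  have hconj : ∀ k ∈ D.K, D.u * k * D.u⁻¹ ∈ D.K := fun k hk => D.K_norm _ D.commute_tu k hk
  have huu : ∀ x : G, D.u * (D.u * x * D.u⁻¹) * D.u⁻¹ = x := fun x => by
    rw [show D.u * (D.u * x * D.u⁻¹) * D.u⁻¹ = (D.u * D.u) * x * (D.u * D.u)⁻¹ by group, D.u_sq,
      one_mul, inv_one, mul_one]
  let σ : D.K ≃* D.K :=
    { toFun := fun x => ⟨D.u * x.1 * D.u⁻¹, hconj _ x.2⟩
      invFun := fun x => ⟨D.u * x.1 * D.u⁻¹, hconj _ x.2⟩
      left_inv := fun x => Subtype.ext (huu _)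
      right_inv := fun x => Subtype.ext (huu _)
      map_mul' := fun x y => Subtype.ext (by
        show D.u * (x.1 * y.1) * D.u⁻¹ = (D.u * x.1 * D.u⁻¹) * (D.u * y.1 * D.u⁻¹)
        group) }
  set A : Subgroup D.K := (Subgroup.centralizer ({D.u} : Set G)).subgroupOf D.K with hA
  set Z : Subgroup D.K :=
    (Subgroup.centralizer ((Subgroup.centralizer ({D.t} : Set G)) : Set G)).subgroupOf D.K with hZ
  set C : Subgroup D.K := (Subgroup.center G).subgroupOf D.K with hC
  have hAmem : ∀ x : D.K, x ∈ A ↔ Commute D.u (x : G) := fun x => by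
    rw [hA, Subgroup.mem_subgroupOf, mem_centralizer_iff_commute]
  have hZmem : ∀ x : D.K, x ∈ Z ↔ ∀ g, Commute D.t g → Commute g (x : G) := fun x => by
    rw [hZ, Subgroup.mem_subgroupOf, Subgroup.mem_centralizer_iff]
    exact ⟨fun hx g hg => hx g (mem_centralizer_iff_commute.2 hg),
      fun hx g hg => hx g (mem_centralizer_iff_commute.1 hg)⟩
  haveI : IsMulCommutative A := ⟨⟨fun x y => Subtype.ext (Subtype.ext
    (D.cent_V _ _ (D.commute_all_V x.1.2 ((hAmem _).1 x.2))
      (D.commute_all_V y.1.2 ((hAmem _).1 y.2))).eq)⟩⟩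
  have hK : Odd (Nat.card D.K) := D.K_odd
  have hfix : ∀ x, σ x = x ↔ x ∈ A := fun x => by
    rw [hAmem]
    constructor
    · intro e
      exact mul_inv_eq_iff_eq_mul.1 (congrArg Subtype.val e)
    · intro e
      refine Subtype.ext ?_
      show D.u * x.1 * D.u⁻¹ = x.1
      rw [e.eq, mul_inv_cancel_right]
  have hZc : Z ≤ Subgroup.center D.K := fun z hz => Subgroup.mem_center_iff.2 fun g =>
    Subtype.ext ((hZmem z).1 hz g (D.commute_t g.2)).eq
  have hZA : Z ≤ A := fun z hz => (hAmem z).2 ((hZmem z).1 hz D.u D.commute_tu)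
  have hCZ : C ≤ Z := fun z hz => (hZmem z).2 fun g _ => Subgroup.mem_center_iff.1 hz g
  have hcentA : ∀ a ∈ A, a ∉ Z → ∀ y : D.K, Commute (a : G) y → y ∈ A := by
    intro a ha haZ y hy
    rw [hAmem] at ha ⊢
    rw [hZmem] at haZ
    push Not at haZ
    obtain ⟨g, hg, hga⟩ := haZ
    exact h.commute_of_proper hMne (D.K_le a.2) (mem_centralizer_iff_commute.2 hg)
      (fun e => hga e.symm) huM (D.K_le y.2) ha.symm hy
  have hTI : ∀ a ∈ A, a ∉ Z → ∀ g : D.K, g⁻¹ * a * g ∈ A → g ∈ A := by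
    intro a ha haZ g hg
    have e1 : (σ g)⁻¹ * a * σ g = g⁻¹ * a * g := by
      have := (hfix _).2 hg
      rw [map_mul, map_mul, map_inv, (hfix a).2 ha] at this
      exact this
    have hy : σ g * g⁻¹ ∈ A := by
      refine hcentA a ha haZ _ ?_
      have e2 : a * (σ g * g⁻¹) = (σ g * g⁻¹) * a := by
        calc a * (σ g * g⁻¹) = σ g * ((σ g)⁻¹ * a * σ g) * g⁻¹ := by group
          _ = _ := by rw [e1]; group
      exact congrArg Subtype.val e2
    have e3 := (hfix _).2 hy
    rw [map_mul, map_inv, show σ (σ g) = g from Subtype.ext (huu _)] at e3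
    have e4 : (σ g * g⁻¹) * (σ g * g⁻¹) = 1 := by nth_rewrite 1 [← e3]; group
    have e5 : σ g * g⁻¹ = 1 := Subtype.ext
      (eq_one_of_sq_of_odd_endD hK (σ g * g⁻¹).2 (congrArg Subtype.val e4))
    exact (hfix g).1 (mul_inv_eq_one.1 e5)
  obtain ⟨N, hNn, -, hNA, hσN, hdec, hinv, hcomm, hpow⟩ :=
    exists_inverted_kernel_endD A Z hZc hZA hK hTI σ (fun x => Subtype.ext (huu _)) hfix
  -- commutators of the kernel are central in `G`
  have hcommC : ∀ a ∈ N, ∀ b ∈ N, ⁅a, b⁆ ∈ C := by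
    intro a ha b hb
    by_contra hzC
    set z := ⁅a, b⁆ with hz
    have hzZ : z ∈ Z := hcomm a ha b hb
    have hord : orderOf z ∣ A.index := by
      refine orderOf_dvd_of_pow_eq_one ?_
      rw [hz, ← commutator_pow_endD (hZc hzZ), commutatorElement_eq_one_iff_commute]
      exact (Subgroup.mem_center_iff.1 (hZc (hpow a ha)) b).symm
    -- a primary part of `z` outside the centre
    have key : ∃ (p : ℕ) (_ : p.Prime) (i : ℕ) (y : D.K), y ∈ Z ∧ y ∉ C ∧ orderOf y = p ^ (i + 1)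
        ∧ orderOf y ∣ A.index := by
      clear_value z
      clear hz
      induction hn' : orderOf z using Nat.recOnPrimeCoprime generalizing z with
      | zero => exact absurd hn' (orderOf_pos z).ne'
      | prime_pow p i hp =>
        rcases i with _ | i
        · exact absurd ((orderOf_eq_one_iff.1 (by simpa using hn')) ▸ C.one_mem) hzC
        · exact ⟨p, hp, i, z, hzZ, hzC, hn', hord⟩
      | coprime m n hm hnn hmn ihm ihn =>
        have h1 : orderOf (z ^ n) = m := by
          rw [orderOf_pow' z (by omega), hn', Nat.gcd_eq_right (dvd_mul_left n m),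
            Nat.mul_div_cancel _ (by omega)]
        have h2 : orderOf (z ^ m) = n := by
          rw [orderOf_pow' z (by omega), hn', Nat.gcd_eq_right (dvd_mul_right m n),
            Nat.mul_div_cancel_left _ (by omega)]
        by_cases hzn : z ^ n ∈ C
        · by_cases hzm : z ^ m ∈ C
          · refine absurd ?_ hzC
            obtain ⟨x, y, hxy⟩ : ∃ x y : ℤ, (1 : ℤ) = m * x + n * y :=
              ⟨Nat.gcdA m n, Nat.gcdB m n, by rw [← Nat.gcd_eq_gcd_ab, hmn.gcd_eq_one]; rfl⟩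
            rw [← zpow_one z, hxy, zpow_add, zpow_mul, zpow_mul, zpow_natCast, zpow_natCast]
            exact C.mul_mem (C.zpow_mem hzm x) (C.zpow_mem hzn y)
          · exact ihn _ hzm (Z.pow_mem hzZ m) (h2 ▸ (Dvd.intro_left m hn'.symm).trans hord) h2
        · exact ihm _ hzn (Z.pow_mem hzZ n) (h1 ▸ (Dvd.intro n hn'.symm).trans hord) h1
    obtain ⟨p, hp, i, y, hyZ, hyC, hyo, hyd⟩ := key
    haveI := Fact.mk hp
    have hyG : (y : G) ∉ Subgroup.center G := hyC
    obtain ⟨-, heq⟩ := D.t_red.centralizer_eq h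
      (fun g hg => ((hZmem y).1 hyZ g hg).symm) hyG
    set w := D.f * (y : G) * D.f⁻¹ with hw
    have hwV : ∀ v ∈ (D.V : Subgroup G), Commute v w := by
      intro v hv
      have hv' : D.f⁻¹ * v * D.f ∈ (D.V : Subgroup G) := (Subgroup.mem_normalizer_iff''.1 D.f_mem v).1 hv
      have := (Commute.conj_iff D.f).2 ((hZmem y).1 hyZ _ (D.commute_V D.t_mem hv'))
      rwa [show D.f * (D.f⁻¹ * v * D.f) * D.f⁻¹ = v by group, ← hw] at this
    have hwo : orderOf w = p ^ (i + 1) := by
      rw [← hyo, ← Subgroup.orderOf_coe y]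
      exact orderOf_injective (MulAut.conj D.f).toMonoidHom (MulAut.conj D.f).injective _
    have hwK : w ∈ D.K := D.mem_K_of_odd (hwV _ D.t_mem) (by
      rw [hwo, ← hyo]; exact hK.of_dvd_nat (orderOf_dvd_natCard y))
    have hwA : (⟨w, hwK⟩ : D.K) ∈ A := (hAmem _).2 (hwV _ D.u_mem)
    have hwZ : (⟨w, hwK⟩ : D.K) ∉ Z := by
      intro hwZ
      have hwc : w ∉ Subgroup.center G := fun hc => hyG (by
        have h' := (inferInstance : (Subgroup.center G).Normal).conj_mem w hc D.f⁻¹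
        rwa [hw, show D.f⁻¹ * (D.f * (y : G) * D.f⁻¹) * D.f⁻¹⁻¹ = y by group] at h')
      obtain ⟨-, heqw⟩ := D.t_red.centralizer_eq h
        (fun g hg => ((hZmem ⟨w, hwK⟩).1 hwZ g hg).symm) hwc
      refine hk₀u ?_
      have h1 : k₀ ∈ Subgroup.centralizer ({w} : Set G) := heqw ▸ D.K_le hk₀
      rw [mem_centralizer_iff_commute] at h1
      have h2 : D.f⁻¹ * k₀ * D.f ∈ Subgroup.centralizer ({D.t} : Set G) := by
        rw [← heq, mem_centralizer_iff_commute, ← Commute.conj_iff D.f, ← hw,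
          show D.f * (D.f⁻¹ * k₀ * D.f) * D.f⁻¹ = k₀ by group]
        exact h1
      have h3 := (Commute.conj_iff D.f).2 (mem_centralizer_iff_commute.1 h2)
      rwa [D.f_t, show D.f * (D.f⁻¹ * k₀ * D.f) * D.f⁻¹ = k₀ by group] at h3
    refine not_dvd_index_endD A Z hTI hwA hwZ (p := p) (i := i + 1) ?_ (dvd_trans ?_ hyd)
    · rw [← hwo]; exact Subgroup.orderOf_mk _ _
    · rw [hyo]; exact dvd_pow_self p (by omega)
  obtain ⟨M, hMn, hMσ, hMinv, hMA, hMdec⟩ := exists_inverted_complement_endD A Z C hCZ hZc hZA hK σ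
    (fun x => Subtype.ext (huu _)) hfix N hσN hdec hinv hNn hcommC
  refine ⟨M.map D.K.subtype, Subgroup.map_subtype_le _, ?_, ?_, ?_, ?_, ?_⟩
  · rintro k hk _ ⟨x, hx, rfl⟩
    exact ⟨_, hMn.conj_mem x hx ⟨k, hk⟩, rfl⟩
  · rintro _ ⟨x, hx, rfl⟩
    exact ⟨σ x, hMσ x hx, rfl⟩
  · rintro _ ⟨x, hx, rfl⟩
    exact hMinv x hx
  · rintro _ ⟨x, hx, rfl⟩ hc
    exact hMA x hx ((hAmem x).2 hc)
  · intro k hk
    obtain ⟨x, hx, a, ha, e⟩ := hMdec ⟨k, hk⟩
    exact ⟨x, ⟨x, hx, rfl⟩, a, a.2, (hAmem a).1 ha, congrArg Subtype.val e⟩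

end KleinData

/-- D3: the four group case. -/
theorem endStep : EndStep.{u} := by
  intro G _ _ h hperf hsimple hodd D
  classical
  haveI : Fact (Nat.Prime 2) := ⟨Nat.prime_two⟩
  haveI := hsimple
  set π := QuotientGroup.mk' (Subgroup.center G) with hπ
  have hsurj : Function.Surjective π := QuotientGroup.mk'_surjective _
  have hker : ∀ x : G, π x = 1 ↔ x ∈ Subgroup.center G := fun x => QuotientGroup.eq_one_iff x
  have hperfQ : commutator (G ⧸ Subgroup.center G) = ⊤ := by
    rw [commutator_def, ← Subgroup.map_top_of_surjective π hsurj, ← Subgroup.map_commutator,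
      ← commutator_def, hperf]
  have hnab : ∃ a b : G ⧸ Subgroup.center G, a * b ≠ b * a := by
    by_contra hab
    push Not at hab
    have h1 : commutator (G ⧸ Subgroup.center G) ≤ ⊥ := by
      rw [commutator_def, Subgroup.commutator_le]
      intro a _ b _
      rw [Subgroup.mem_bot, commutatorElement_eq_one_iff_commute]
      exact hab a b
    rw [hperfQ, top_le_iff] at h1
    exact bot_ne_top h1
  have hlift : ∀ {v g : G}, v * v = 1 → Commute (π v) (π g) → Commute v g := by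
    intro v g hv hc
    refine commute_of_commutator_center_endD hodd hv ((hker _).1 ?_)
    rw [map_mul, map_mul, map_mul, map_inv, map_inv, ← hc.eq, mul_inv_cancel_right, mul_inv_cancel]
  have hCne : Subgroup.centralizer ({π D.t} : Set (G ⧸ Subgroup.center G)) ≠ ⊤ := by
    intro he
    refine D.t_red.centralizer_ne_top (eq_top_iff.2 fun g _ => mem_centralizer_iff_commute.2 ?_)
    have hm : π g ∈ Subgroup.centralizer ({π D.t} : Set _) := he ▸ Subgroup.mem_top _
    exact hlift (D.sq_V _ D.t_mem) (mem_centralizer_iff_commute.1 hm)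
  have hn : ¬ (Subgroup.centralizer ({D.t} : Set G)).Normal := by
    intro hN
    have hN' : ((Subgroup.centralizer ({D.t} : Set G)).map π).Normal := hN.map π hsurj
    have hker' : π.ker ≤ Subgroup.centralizer ({D.t} : Set G) := by
      rw [hπ, QuotientGroup.ker_mk']; exact center_le_centralizer_singleton _
    rcases hN'.eq_bot_or_eq_top with hb | ht
    · refine D.t_red.1 ((hker D.t).1 ?_)
      rw [← Subgroup.mem_bot, ← hb]
      exact Subgroup.mem_map_of_mem π (mem_centralizer_self D.t)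
    · refine D.t_red.centralizer_ne_top ?_
      rw [← Subgroup.comap_map_eq_self hker', ht, Subgroup.comap_top]
  obtain ⟨k₀, hk₀, hk₀u⟩ := D.exists_not_commute h hn hodd
  obtain ⟨M, hMK, hMnorm, hMu, hMinv, hMA, hMdec⟩ := D.exists_complement h hn hodd
  -- the Sylow subgroup of the quotient
  set P : Sylow 2 (G ⧸ Subgroup.center G) := D.V.mapSurjective hsurj with hP
  have hPmem : ∀ {v : G}, v ∈ (D.V : Subgroup G) → π v ∈ (P : Subgroup _) := fun {v} hv => by
    rw [hP, Sylow.coe_mapSurjective]; exact Subgroup.mem_map_of_mem π hv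
  have hPmem' : ∀ p ∈ (P : Subgroup (G ⧸ Subgroup.center G)), ∃ v ∈ (D.V : Subgroup G), π v = p := by
    intro p hp
    rw [hP, Sylow.coe_mapSurjective] at hp
    exact Subgroup.mem_map.1 hp
  have hne1 : ∀ {v : G}, v ∈ (D.V : Subgroup G) → v ≠ 1 → π v ≠ 1 := fun {v} hv hv1 he =>
    hv1 (eq_one_of_sq_of_odd_endD hodd ((hker v).1 he) (D.sq_V v hv))
  have hPK : IsKleinFour (P : Subgroup (G ⧸ Subgroup.center G)) := by
    let e : (D.V : Subgroup G) →* (P : Subgroup (G ⧸ Subgroup.center G)) :=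
      { toFun := fun v => ⟨π v, hPmem v.2⟩
        map_one' := Subtype.ext (map_one π)
        map_mul' := fun a b => Subtype.ext (map_mul π a.1 b.1) }
    have hbij : Function.Bijective e := by
      refine ⟨(injective_iff_map_eq_one e).2 fun v hv => ?_, fun p => ?_⟩
      · by_contra hv1
        exact hne1 v.2 (fun e' => hv1 (Subtype.ext e')) (congrArg Subtype.val hv)
      · obtain ⟨v, hv, hvp⟩ := hPmem' p p.2
        exact ⟨⟨v, hv⟩, Subtype.ext hvp⟩
    haveI := D.isKleinFour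
    refine ⟨?_, ?_⟩
    · rw [← Nat.card_congr (Equiv.ofBijective e hbij), IsKleinFour.card_four]
    · rw [← Monoid.exponent_eq_of_mulEquiv (MulEquiv.ofBijective e hbij), IsKleinFour.exponent_two]
  have ht1 : π D.t ≠ 1 := hne1 D.t_mem D.t_ne
  haveI := Fintype.ofFinite (G ⧸ Subgroup.center G)
  set U := coreAt (π D.t) with hU
  have hS : Setup (π D.t) U := setup_coreAt P hPK (hPmem D.t_mem) ht1
  have hUK : U = D.K.map π := by
    apply le_antisymm
    · intro c hc
      obtain ⟨g, rfl⟩ := hsurj c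
      obtain ⟨k, hk, v, hv, rfl⟩ := D.cent g (hlift (D.sq_V _ D.t_mem) (hS.comm _ hc))
      have hkU : π k ∈ U := hS.mem_of_odd ((D.commute_t hk).map π).symm
        (D.K_odd.of_dvd_nat ((orderOf_map_dvd π k).trans (Subgroup.orderOf_dvd_natCard _ hk)))
      have hvU : π v ∈ U := by
        have := U.mul_mem (U.inv_mem hkU) hc
        rwa [map_mul, inv_mul_cancel_left] at this
      have hv1 : π v = 1 := eq_one_of_sq_of_odd_endD hS.odd hvU
        (by rw [← map_mul, D.sq_V v hv, map_one])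
      exact ⟨k, hk, by rw [map_mul, hv1, mul_one]⟩
    · rintro _ ⟨k, hk, rfl⟩
      exact hS.mem_of_odd ((D.commute_t hk).map π).symm
        (D.K_odd.of_dvd_nat ((orderOf_map_dvd π k).trans (Subgroup.orderOf_dvd_natCard _ hk)))
  -- the centraliser of the four group in the core
  set A := U ⊓ Subgroup.centralizer ((P : Subgroup (G ⧸ Subgroup.center G)) : Set _) with hA
  have hAmem : ∀ c, c ∈ A ↔ ∃ a ∈ D.K, Commute D.u a ∧ π a = c := by
    intro c
    constructor
    · rintro ⟨hc, hc'⟩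
      rw [hUK] at hc
      obtain ⟨a, ha, rfl⟩ := Subgroup.mem_map.1 hc
      exact ⟨a, ha, hlift D.u_sq (Subgroup.mem_centralizer_iff.1 hc' _ (hPmem D.u_mem)), rfl⟩
    · rintro ⟨a, ha, hua, rfl⟩
      refine ⟨hUK ▸ Subgroup.mem_map_of_mem π ha, Subgroup.mem_centralizer_iff.2 fun p hp => ?_⟩
      obtain ⟨v, hv, rfl⟩ := hPmem' p hp
      exact ((D.commute_all_V ha hua v hv).map π).eq
  have hAbot : A = ⊥ := by
    refine eq_bot_of_complement hnab P hPK (hPmem D.t_mem) ht1 hS hA ?_ (M.map π) ?_ ?_ ?_ ?_ ?_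
    · intro a ha b hb
      obtain ⟨a', ha', hua, rfl⟩ := (hAmem a).1 ha
      obtain ⟨b', hb', hub, rfl⟩ := (hAmem b).1 hb
      exact ((D.cent_V a' b' (D.commute_all_V ha' hua) (D.commute_all_V hb' hub)).map π).eq
    · exact hUK ▸ Subgroup.map_mono hMK
    · intro c hc x hx
      rw [hUK] at hc
      obtain ⟨k, hk, rfl⟩ := Subgroup.mem_map.1 hc
      obtain ⟨y, hy, rfl⟩ := Subgroup.mem_map.1 hx
      exact ⟨_, hMnorm k hk y hy, by simp⟩
    · intro p hp x hx
      obtain ⟨v, hv, rfl⟩ := hPmem' p hp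
      obtain ⟨y, hy, rfl⟩ := Subgroup.mem_map.1 hx
      refine ⟨v * y * v⁻¹, ?_, by simp⟩
      have hty : D.t * y * D.t⁻¹ = y := by rw [(D.commute_t (hMK hy)).eq, mul_inv_cancel_right]
      rcases D.eq_of_mem hv with rfl | rfl | rfl | rfl
      · simpa using hy
      · rw [hty]; exact hy
      · exact hMu y hy
      · rw [show D.t * D.u * y * (D.t * D.u)⁻¹ = D.t * (D.u * y * D.u⁻¹) * D.t⁻¹ by group,
          (D.commute_t (hMK (hMu y hy))).eq, mul_inv_cancel_right]
        exact hMu y hy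
    · rw [eq_bot_iff]
      rintro c ⟨hc, hcA⟩
      obtain ⟨y, hy, rfl⟩ := Subgroup.mem_map.1 hc
      obtain ⟨a, ha, hua, hay⟩ := (hAmem _).1 hcA
      refine Subgroup.mem_bot.2 ((hker y).2 (hMA y hy (hlift D.u_sq ?_)))
      rw [← hay]; exact hua.map π
    · intro c hc
      rw [hUK] at hc
      obtain ⟨k, hk, rfl⟩ := Subgroup.mem_map.1 hc
      obtain ⟨x, hx, a, ha, hua, rfl⟩ := hMdec k hk
      exact ⟨π x, Subgroup.mem_map_of_mem π hx, π a, (hAmem _).2 ⟨a, ha, hua, rfl⟩, map_mul π x a⟩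
  have hAc : ∀ a ∈ D.K, Commute D.u a → π a = 1 := fun a ha hua =>
    Subgroup.mem_bot.1 (hAbot ▸ (hAmem _).2 ⟨a, ha, hua, rfl⟩)
  have hUinv : ∀ c ∈ U, π D.u * c * (π D.u)⁻¹ = c⁻¹ := by
    intro c hc
    rw [hUK] at hc
    obtain ⟨k, hk, rfl⟩ := Subgroup.mem_map.1 hc
    obtain ⟨x, hx, a, ha, hua, rfl⟩ := hMdec k hk
    rw [map_mul, hAc a ha hua, mul_one]
    refine eq_inv_of_mul_eq_one_left ?_
    rw [← map_inv, ← map_mul, ← map_mul, ← map_mul, hker]
    exact hMinv x hx
  have hUab : ∀ a ∈ U, ∀ b ∈ U, Commute a b := by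
    intro a ha b hb
    have h1 := hUinv _ (U.mul_mem ha hb)
    rw [show π D.u * (a * b) * (π D.u)⁻¹ = (π D.u * a * (π D.u)⁻¹) * (π D.u * b * (π D.u)⁻¹) by
      group, hUinv a ha, hUinv b hb] at h1
    have h2 := congrArg (·⁻¹) h1
    simp only [mul_inv_rev, inv_inv] at h2
    exact h2.symm
  have hk₀1 : π k₀ ≠ 1 := fun he =>
    hk₀u (Subgroup.mem_center_iff.1 ((hker k₀).1 he) D.u)
  have hk₀U : π k₀ ∈ U := hUK ▸ Subgroup.mem_map_of_mem π hk₀
  have hnotc : ∀ {s : G}, s ∈ (D.V : Subgroup G) → s ≠ 1 → s ≠ D.t →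
      ∀ c ∈ U, π s * c * (π s)⁻¹ = c⁻¹ := by
    intro s hs hs1 hst c hc
    rcases D.eq_of_mem hs with e | e | e | e
    · exact absurd e hs1
    · exact absurd e hst
    · rw [e]; exact hUinv c hc
    · rw [e, map_mul, show π D.t * π D.u * c * (π D.t * π D.u)⁻¹ =
        π D.t * (π D.u * c * (π D.u)⁻¹) * (π D.t)⁻¹ by group, hUinv c hc,
        (hS.comm _ (U.inv_mem hc)).eq, mul_inv_cancel_right]
  have hcentU : (P : Subgroup (G ⧸ Subgroup.center G)) ⊓ Subgroup.centralizer (U : Set _) =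
      Subgroup.zpowers (π D.t) := by
    refine le_antisymm ?_ (Subgroup.zpowers_le.2 ⟨hPmem D.t_mem, ?_⟩)
    · rintro p ⟨hp, hpc⟩
      obtain ⟨v, hv, rfl⟩ := hPmem' p hp
      by_cases hv1 : v = 1
      · rw [hv1, map_one]; exact one_mem _
      by_cases hvt : v = D.t
      · rw [hvt]; exact Subgroup.mem_zpowers _
      exfalso
      have h1 := hnotc hv hv1 hvt _ hk₀U
      rw [← (Subgroup.mem_centralizer_iff.1 hpc _ hk₀U), mul_inv_cancel_right] at h1
      refine hk₀1 (eq_one_of_sq_of_odd_endD hS.odd hk₀U ?_)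
      nth_rewrite 1 [h1]; exact inv_mul_cancel _
    · exact Subgroup.mem_centralizer_iff.2 fun c hc => (hS.comm c hc).symm.eq
  -- the Brauer-Suzuki-Wall theorem
  haveI := hPK
  haveI : IsKleinFour (DihedralGroup 2) := inferInstance
  have hc : ∀ Y : Subgroup (G ⧸ Subgroup.center G), Y ≤ U → Y ≠ ⊥ →
      Subgroup.normalizer (Y : Set _) ≤ Subgroup.centralizer ({π D.t} : Set _) := by
    intro Y hYU hY
    have hNU : U ≤ Subgroup.normalizer (Y : Set _) := fun c hc =>
      Subgroup.centralizer_le_normalizer _ (Subgroup.mem_centralizer_iff.2 fun y hy =>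
        (hUab y (hYU hy) c hc).eq)
    set H := (Subgroup.normalizer (Y : Set (G ⧸ Subgroup.center G))).comap π with hH
    have hKH : D.K ≤ H := fun k hk => hNU (hUK ▸ Subgroup.mem_map_of_mem π hk)
    have huH : D.u ∈ H := by
      show π D.u ∈ Subgroup.normalizer (Y : Set _)
      rw [Subgroup.mem_normalizer_iff]
      intro y
      constructor
      · intro hy
        rw [hUinv y (hYU hy)]; exact Y.inv_mem hy
      · intro hy
        have huu : π D.u * π D.u = 1 := by rw [← map_mul, D.u_sq, map_one]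
        have e : y = π D.u * (π D.u * y * (π D.u)⁻¹) * (π D.u)⁻¹ := by
          rw [show π D.u * (π D.u * y * (π D.u)⁻¹) * (π D.u)⁻¹ =
            (π D.u * π D.u) * y * (π D.u * π D.u)⁻¹ by group, huu, one_mul, inv_one, mul_one]
        rw [e, hUinv _ (hYU hy)]; exact Y.inv_mem hy
    have htH : D.t ∈ H := Subgroup.centralizer_le_normalizer _
      (Subgroup.mem_centralizer_iff.2 fun y hy => (hS.comm y (hYU hy)).symm.eq)
    have hHtop : H ≠ ⊤ := by
      intro he
      have hNtop : Subgroup.normalizer (Y : Set (G ⧸ Subgroup.center G)) = ⊤ :=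
        eq_top_iff.2 fun c _ => by
          obtain ⟨g, rfl⟩ := hsurj c
          have hg : g ∈ H := he ▸ Subgroup.mem_top g
          exact hg
      rcases (Subgroup.normalizer_eq_top_iff.1 hNtop).eq_bot_or_eq_top with hb | ht
      · exact hY hb
      · refine hCne (eq_top_iff.2 fun c _ => ?_)
        exact mem_centralizer_iff_commute.2 (hS.comm c (hYU (ht ▸ Subgroup.mem_top c)))
    intro c hc
    obtain ⟨g, rfl⟩ := hsurj c
    have hle := D.t_red.le_centralizer h hHtop htH huH (hKH hk₀) D.commute_tu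
      (D.commute_t hk₀) hk₀u
    exact mem_centralizer_iff_commute.2
      ((mem_centralizer_iff_commute.1 (hle (show g ∈ H from hc))).map π)
  obtain ⟨F, iF, iFt, hFodd, ⟨e⟩⟩ := Cfsg.Agent.S0508.result P 2 le_rfl
    IsKleinFour.nonempty_mulEquiv (π D.t)
    (orderOf_eq_two_of_mem hPK (hPmem D.t_mem) ht1) (hPmem D.t_mem)
    (fun s hs => by
      obtain ⟨v, hv, rfl⟩ := hPmem' s hs
      exact ((D.commute_V hv D.t_mem).map π).eq)
    U rfl
    (fun _ => by
      rw [hcentU]
      refine ⟨inferInstance, ?_⟩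
      have h2 : Nat.card (Subgroup.zpowers (π D.t)) = 2 := by
        rw [Nat.card_zpowers, hS.ht]
      have hle : Subgroup.zpowers (π D.t) ≤ (P : Subgroup _) :=
        Subgroup.zpowers_le.2 (hPmem D.t_mem)
      have hmul := ((Subgroup.zpowers (π D.t)).subgroupOf (P : Subgroup _)).card_mul_index
      rw [Nat.card_congr (Subgroup.subgroupOfEquivOfLe hle).toEquiv, h2, hPK.card_four] at hmul
      show ((Subgroup.zpowers (π D.t)).subgroupOf (P : Subgroup _)).index = 2
      omega)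
    (fun s hs hsU y hy => by
      obtain ⟨v, hv, rfl⟩ := hPmem' s hs
      refine hnotc hv (fun e => hsU ?_) (fun e => hsU ?_) y hy
      · rw [e, map_one]; exact one_mem _
      · rw [e]; exact Subgroup.mem_centralizer_iff.2 fun c hc => (hS.comm c hc).symm.eq)
    hc
  letI := iF
  letI := iFt
  have hcard := CfsgLib.Classical.Linear.card_psl_two (F := F)
  rw [← Nat.card_congr e.toEquiv] at hcard
  have hgcd : Nat.gcd 2 (Fintype.card F - 1) = 2 := Nat.gcd_eq_left (by
    obtain ⟨j, hj⟩ := hFodd; exact ⟨j, by omega⟩)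
  rw [hgcd] at hcard
  have h4 : ¬ 8 ∣ Nat.card (G ⧸ Subgroup.center G) := by
    intro h8
    rw [← (P : Subgroup (G ⧸ Subgroup.center G)).card_mul_index, hPK.card_four] at h8
    exact P.not_dvd_index (by omega)
  refine ⟨F, iF, iFt, hFodd, ?_, fun h9 => ?_, ⟨e⟩⟩
  · by_contra h5
    have h1 : 1 < Fintype.card F := Fintype.one_lt_card
    have h3 : Fintype.card F = 3 := by obtain ⟨j, hj⟩ := hFodd; omega
    rw [h3] at hcard
    refine hCne (Subgroup.eq_top_of_card_eq _ (le_antisymm (Subgroup.card_le_card_group _) ?_))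
    have hU3 : 2 ≤ Nat.card U := by
      haveI : Nontrivial U := ⟨⟨⟨_, hk₀U⟩, 1, fun e => hk₀1 (congrArg Subtype.val e)⟩⟩
      exact Finite.one_lt_card
    have hU3' : 3 ≤ Nat.card U := by
      obtain ⟨j, hj⟩ := hS.odd; omega
    have := hS.card
    omega
  · rw [h9] at hcard
    exact h4 ⟨45, by omega⟩

end CfsgLib.MinNonCA98
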