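import Cfsg.Agent.MinNonCA98.Interfaces
import Cfsg.Agent.BinaryPSL.Facts
import Cfsg.Agent.Dickson.MaxPoly
import Cfsg.Agent.Classical.Linear.Simple

/-!
# Which `PSL(2, q)` have all proper subgroups CA but are not CA

`fieldStep`: for `q` odd, `PSL(2, q)` is minimal non-CA exactly when `q > 5` is a prime with
`16 ∤ q² - 1` or `q = 3^r, 5^r` for an odd prime `r`.
-/

set_option autoImplicit false

namespace CfsgLib.MinNonCA98

open CfsgLib
open scoped MatrixGroups commutatorElement

section Generic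

theorem dihedral_ca {n : ℕ} : CA (DihedralGroup n) := by
  intro x a b hx ha hb
  have key : ∀ i : ZMod n, i + i = 0 → ∀ y : DihedralGroup n, Commute (DihedralGroup.r i) y := by
    intro i hi y
    cases y with
    | r j => simp [Commute, SemiconjBy, add_comm]
    | sr j =>
      simp only [Commute, SemiconjBy, DihedralGroup.r_mul_sr, DihedralGroup.sr_mul_r]
      congr 1
      linear_combination -hi
  cases x with
  | r i =>
    have hrot : ∀ y : DihedralGroup n, Commute (DihedralGroup.r i) y →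
        ∃ j, y = DihedralGroup.r j := by
      intro y hy
      cases y with
      | r j => exact ⟨j, rfl⟩
      | sr j =>
        exfalso
        simp only [Commute, SemiconjBy, DihedralGroup.r_mul_sr, DihedralGroup.sr_mul_r,
          DihedralGroup.sr.injEq] at hy
        refine hx (Subgroup.mem_center_iff.mpr fun y => (key i ?_ y).eq.symm)
        linear_combination -hy
    obtain ⟨j, rfl⟩ := hrot a ha
    obtain ⟨k, rfl⟩ := hrot b hb
    simp [Commute, SemiconjBy, add_comm]
  | sr i =>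
    have hrot : ∀ j, Commute (DihedralGroup.sr i) (DihedralGroup.r j) → j + j = 0 := by
      intro j hj
      simp only [Commute, SemiconjBy, DihedralGroup.r_mul_sr, DihedralGroup.sr_mul_r,
        DihedralGroup.sr.injEq] at hj
      linear_combination hj
    have hsr : ∀ j, Commute (DihedralGroup.sr i) (DihedralGroup.sr j) → (j - i) + (j - i) = 0 := by
      intro j hj
      simp only [Commute, SemiconjBy, DihedralGroup.sr_mul_sr, DihedralGroup.r.injEq] at hj
      linear_combination hj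
    cases a with
    | r j => exact key j (hrot j ha) b
    | sr j =>
      cases b with
      | r k => exact (key k (hrot k hb) _).symm
      | sr k =>
        have h1 := hsr j ha
        have h2 := hsr k hb
        simp only [Commute, SemiconjBy, DihedralGroup.sr_mul_sr, DihedralGroup.r.injEq]
        linear_combination h2 - h1

variable {G : Type*} [Group G]

theorem caIn_of_mulEquiv {H : Subgroup G} {K : Type*} [Group K] (e : H ≃* K) (hK : CA K) :
    CAIn H := by
  intro x hx ⟨y, hy, hxy⟩ a ha b hb hxa hxb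
  have hnc : e ⟨x, hx⟩ ∉ Subgroup.center K := by
    refine not_mem_center_iff.mpr ⟨e ⟨y, hy⟩, fun h => hxy ?_⟩
    have h' := e.injective (show e (⟨x, hx⟩ * ⟨y, hy⟩) = e (⟨y, hy⟩ * ⟨x, hx⟩) by
      rw [map_mul, map_mul]; exact h.eq)
    exact congrArg Subtype.val h'
  have hca : Commute (⟨x, hx⟩ : H) ⟨a, ha⟩ := Subtype.ext hxa.eq
  have hcb : Commute (⟨x, hx⟩ : H) ⟨b, hb⟩ := Subtype.ext hxb.eq
  have h := hK _ _ _ hnc (hca.map e.toMonoidHom) (hcb.map e.toMonoidHom)
  have h' := e.injective (show e (⟨a, ha⟩ * ⟨b, hb⟩) = e (⟨b, hb⟩ * ⟨a, ha⟩) by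
    rw [map_mul, map_mul]; exact h.eq)
  exact congrArg Subtype.val h'

/-- A proper subgroup isomorphic to a non-CA group contradicts `MinNonCA`. -/
theorem not_minNonCA_of_subgroup {H : Subgroup G} {K : Type*} [Group K] (e : H ≃* K)
    (hK : ¬ CA K) (hne : H ≠ ⊤) (hG : MinNonCA G) : False := by
  refine hK fun x a b hx hxa hxb => ?_
  obtain ⟨y, hy⟩ := not_mem_center_iff.mp hx
  have hmap : ∀ {u v : K}, Commute u v → Commute ((e.symm u : H) : G) (e.symm v : H) :=
    fun h => (h.map e.symm.toMonoidHom).map H.subtype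
  have hback : ∀ {u v : K}, Commute ((e.symm u : H) : G) (e.symm v : H) → Commute u v := fun {c d} h => by
    have h' : (e.symm c) * (e.symm d) = (e.symm d) * (e.symm c) := Subtype.ext h.eq
    rw [← map_mul, ← map_mul] at h'
    exact e.symm.injective h'
  exact hback (hG.proper H hne _ (e.symm x).2 ⟨_, (e.symm y).2, fun h => hy (hback h)⟩
    _ (e.symm a).2 _ (e.symm b).2 (hmap hxa) (hmap hxb))

/-- A subgroup is CA when its involutions have centralisers of exponent two and the other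
elements have abelian centralisers. -/
theorem caIn_of_sq_or_pow {H : Subgroup G}
    (hca : ∀ x y w : G, x * x ≠ 1 → Commute x y → Commute x w → Commute y w)
    (hH : ∀ g ∈ H, g ^ 2 = 1 ∨ g ^ 15 = 1) : CAIn H := by
  intro x hx ⟨y, _, hxy⟩ a ha b hb hxa hxb
  by_cases hxx : x * x = 1
  · have hx1 : x ≠ 1 := fun h => hxy (h ▸ Commute.one_left y)
    have hx2 : x ^ 2 = 1 := by rw [pow_two, hxx]
    have hsq : ∀ c ∈ H, Commute x c → c ^ 2 = 1 := by
      intro c hc hxc
      rcases hH c hc with h | h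
      · exact h
      rcases hH _ (mul_mem hx hc) with h' | h'
      · rwa [hxc.mul_pow, hx2, one_mul] at h'
      · rw [hxc.mul_pow, h, mul_one, show 15 = 2 * 7 + 1 from rfl, pow_add, pow_mul, hx2, one_pow,
          one_mul, pow_one] at h'
        exact absurd h' hx1
    have hainv : a⁻¹ = a := inv_eq_of_mul_eq_one_left (by rw [← pow_two]; exact hsq a ha hxa)
    have hbinv : b⁻¹ = b := inv_eq_of_mul_eq_one_left (by rw [← pow_two]; exact hsq b hb hxb)
    have hab : (a * b)⁻¹ = a * b :=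
      inv_eq_of_mul_eq_one_left (by rw [← pow_two]; exact hsq _ (mul_mem ha hb) (hxa.mul_right hxb))
    rw [mul_inv_rev, hainv, hbinv] at hab
    exact hab.symm
  · exact hca x a b hxx hxa hxb

end Generic

section PSL

variable {F : Type} [Field F] [Fintype F]

local notation "PF" => Matrix.ProjectiveSpecialLinearGroup (Fin 2) F

theorem two_ne_zero_of_odd (hodd : Odd (Fintype.card F)) : (2 : F) ≠ 0 :=
  SL2.two_ne_zero_iff_odd.mpr hodd

theorem not_commutative_psl : ¬ IsMulCommutative PF := by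
  intro h
  obtain ⟨p, hp⟩ := CharP.exists F
  obtain ⟨a, b, -, -, hab⟩ := Dickson.exists_psl_pair F p
  exact hab (mul_comm' a b)

theorem not_solvable_psl (h4 : 4 ≤ Fintype.card F) : ¬ Group.IsSolvable PF := by
  haveI : IsSimpleGroup PF := Classical.Linear.isSimpleGroup_psl_fin le_rfl
    (fun _ => by rw [Nat.card_eq_fintype_card]; exact h4)
  intro hs
  exact not_commutative_psl ⟨⟨IsSimpleGroup.comm_iff_isSolvable.mpr hs⟩⟩

theorem not_mem_center_psl (h4 : 4 ≤ Fintype.card F) {x : PF} (hx : x ≠ 1) :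
    x ∉ Subgroup.center PF := by
  haveI : IsSimpleGroup PF := Classical.Linear.isSimpleGroup_psl_fin le_rfl
    (fun _ => by rw [Nat.card_eq_fintype_card]; exact h4)
  rcases (Subgroup.center PF).normal_of_characteristic.eq_bot_or_eq_top with h | h
  · rwa [h, Subgroup.mem_bot]
  · refine absurd ⟨⟨fun a b => ?_⟩⟩ (not_commutative_psl (F := F))
    exact (Subgroup.mem_center_iff.mp (h ▸ Subgroup.mem_top a) b).symm

/-- `PSL(2, q)`, `q ≥ 7` odd, is not CA. -/
theorem not_ca_psl (hodd : Odd (Fintype.card F)) (h7 : 7 ≤ Fintype.card F) : ¬ CA PF := by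
  classical
  have h2 := two_ne_zero_of_odd hodd
  haveI : Fact (Nat.Prime 2) := ⟨Nat.prime_two⟩
  have hd : 2 ∣ Nat.card PF := by
    have hcard := Dickson.psl_card_mul_two (F := F) hodd
    have h4 : 4 ∣ Fintype.card F ^ 2 - 1 := by
      obtain ⟨k, hk⟩ := hodd
      exact ⟨k * k + k, by rw [hk]; ring_nf; omega⟩
    obtain ⟨c, hc⟩ := h4
    refine ⟨Fintype.card F * c, ?_⟩
    rw [hc] at hcard
    nlinarith
  obtain ⟨a, ha⟩ := exists_prime_orderOf_dvd_card' 2 hd
  have ha1 : a ≠ 1 := fun h => by simp [h] at ha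
  have haa : a * a = 1 := by
    have := pow_orderOf_eq_one a
    rwa [ha, pow_two] at this
  obtain ⟨b₁, h1, h11, h1a, hab1, -, -⟩ := BinaryPSL.exists_involution_avoid h2 h7 haa ha1 1 1
  obtain ⟨b₂, -, h21, h2a, hab2, h2b, h2ab⟩ :=
    BinaryPSL.exists_involution_avoid h2 h7 haa ha1 b₁ (a * b₁)
  intro hca
  have hc := hca a b₁ b₂ (not_mem_center_psl (by omega) ha1) hab1 hab2
  rcases BinaryPSL.psl_klein h2 a b₁ b₂ haa h1 ha1 h11 h1a.symm hab1 hab2.symm hc.symm with
    h | h | h | h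
  exacts [h21 h, h2a h, h2b h, h2ab h]

/-- Without `16 ∣ q² - 1` there are no elements of order `4`. -/
theorem sq_eq_one_of_four (hodd : Odd (Fintype.card F)) (h16 : ¬ 16 ∣ Fintype.card F ^ 2 - 1)
    (g : PF) (hg : g ^ 4 = 1) : g ^ 2 = 1 := by
  classical
  obtain ⟨p, hp⟩ := CharP.exists F
  obtain ⟨n, hpp, hn⟩ := FiniteField.card F p
  haveI : Fact p.Prime := ⟨hpp⟩
  have hp2 : p ≠ 2 := by
    rintro rfl
    rw [hn] at hodd
    exact absurd ((Nat.odd_pow_iff n.pos.ne').mp hodd) (by decide)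
  have hg4 : orderOf g ∣ 2 ^ 2 := orderOf_dvd_of_pow_eq_one hg
  have hnp : ¬ p ∣ orderOf g := fun h => hp2
    ((Nat.prime_dvd_prime_iff_eq hpp Nat.prime_two).mp (hpp.dvd_of_dvd_pow (h.trans hg4)))
  by_contra hne
  have h4 : orderOf g = 4 := by
    obtain ⟨i, hi, he⟩ := (Nat.dvd_prime_pow Nat.prime_two).mp hg4
    interval_cases i
    · simp [orderOf_eq_one_iff.mp (by simpa using he)] at hne
    · exact absurd (by rw [← pow_orderOf_eq_one g, he]; rfl) hne
    · simpa using he
  have hgcd : Nat.gcd 2 (Fintype.card F - 1) = 2 := by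
    obtain ⟨k, hk⟩ := hodd
    rw [hk, Nat.add_sub_cancel]
    exact Nat.gcd_mul_right_right k 2
  apply h16
  have hsplit : Fintype.card F ^ 2 - 1 = (Fintype.card F + 1) * (Fintype.card F - 1) := by
    rw [pow_two, show 1 = 1 * 1 from rfl, Nat.mul_self_sub_mul_self_eq]
  obtain ⟨k, hk⟩ := hodd
  rcases Dickson.psl_orderOf_dvd p g hnp with h | h <;> rw [h4, hgcd] at h <;>
    obtain ⟨c, hc⟩ := h
  · rw [hsplit, show Fintype.card F - 1 = 2 * (4 * c) by omega,
      show Fintype.card F + 1 = 2 * (4 * c + 1) by omega]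
    exact ⟨c * (4 * c + 1), by ring⟩
  · rw [hsplit, show Fintype.card F + 1 = 2 * (4 * c) by omega,
      show Fintype.card F - 1 = 2 * (4 * c - 1) by omega]
    exact ⟨c * (4 * c - 1), by ring⟩

/-- The point stabilisers are CA. -/
theorem caIn_of_le_pslStab [DecidableEq F] (hodd : Odd (Fintype.card F))
    {H : Subgroup PF} {x : OnePoint F} (hH : H ≤ Dickson.pslStab x) : CAIn H := by
  obtain ⟨p, hp⟩ := CharP.exists F
  obtain ⟨n, hpp, hn⟩ := FiniteField.card F p
  haveI : Fact p.Prime := ⟨hpp⟩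
  have hpo : Odd p := (Nat.odd_pow_iff n.pos.ne').mp (hn ▸ hodd)
  have hgcd : Nat.gcd 2 (Fintype.card F - 1) = 2 := by
    obtain ⟨k, hk⟩ := hodd
    rw [hk, Nat.add_sub_cancel]
    exact Nat.gcd_mul_right_right k 2
  intro z hz ⟨y, _, hzy⟩ a ha b hb hza hzb
  by_cases hzz : z * z = 1
  · have hz1 : z ≠ 1 := fun h => hzy (h ▸ Commute.one_left y)
    have hc : ⁅a, b⁆ ^ p = 1 :=
      Dickson.commutator_pow_char_eq_one_of_mem_pslStab p (hH ha) (hH hb)
    have hzc : Commute z ⁅a, b⁆ := by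
      rw [commutatorElement_def]
      exact ((hza.mul_right hzb).mul_right hza.inv_right).mul_right hzb.inv_right
    have hz2 : z ^ 2 = 1 := by rw [pow_two, hzz]
    have hzp : z ^ p = z := by
      obtain ⟨k, hk⟩ := hpo
      rw [hk, pow_add, pow_mul, hz2, one_pow, one_mul, pow_one]
    suffices h1 : ⁅a, b⁆ = 1 by exact commutatorElement_eq_one_iff_mul_comm.mp h1
    have hkey : ∀ k : ℕ, ¬ p ∣ 2 * k → (z * ⁅a, b⁆) ^ k = 1 → ⁅a, b⁆ = 1 := by
      intro k hk h
      have h2 : ⁅a, b⁆ ^ (2 * k) = 1 := by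
        have := congrArg (· ^ 2) h
        simp only [one_pow] at this
        rw [← pow_mul, mul_comm k 2, hzc.mul_pow, pow_mul z, hz2, one_pow, one_mul] at this
        exact this
      rcases (Nat.dvd_prime hpp).mp (orderOf_dvd_of_pow_eq_one hc) with h' | h'
      · exact orderOf_eq_one_iff.mp h'
      · exact absurd (h' ▸ orderOf_dvd_of_pow_eq_one h2) hk
    have hndvd : ∀ d : ℕ, (d + 1 = Fintype.card F ∨ d = Fintype.card F + 1) → ¬ p ∣ d := by
      intro d hd h
      have hpq : p ∣ Fintype.card F := hn ▸ dvd_pow_self p n.pos.ne'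
      rcases hd with hd | hd
      · exact hpp.ne_one (Nat.dvd_one.mp ((Nat.dvd_add_right h).mp (hd ▸ hpq)))
      · exact hpp.ne_one (Nat.dvd_one.mp ((Nat.dvd_add_right hpq).mp (hd ▸ h)))
    obtain ⟨k, hk⟩ := hodd
    rcases Dickson.psl_pow_eq_one_cases p (z * ⁅a, b⁆) with h | h | h
    · rw [hzc.mul_pow, hc, mul_one, hzp] at h
      exact absurd h hz1
    · refine hkey _ ?_ h
      rw [hgcd]
      exact hndvd _ (Or.inl (by omega))
    · refine hkey _ ?_ h
      rw [hgcd]
      exact hndvd _ (Or.inr (by omega))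
  · exact BinaryPSL.psl_ca z a b hzz hza hzb

theorem psl_sq_or_pow_fifteen {L : Type} [Field L] [Fintype L]
    (hL : Fintype.card L = 3 ∨ Fintype.card L = 5)
    (g : Matrix.ProjectiveSpecialLinearGroup (Fin 2) L) : g ^ 2 = 1 ∨ g ^ 15 = 1 := by
  classical
  rcases hL with hL | hL
  · haveI : Fact (Nat.Prime 3) := ⟨Nat.prime_three⟩
    haveI : CharP L 3 := charP_of_card_eq_prime hL
    rcases Dickson.psl_pow_eq_one_cases 3 g with h | h | h
    · exact Or.inr (by rw [show 15 = 3 * 5 from rfl, pow_mul, h, one_pow])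
    · rw [hL] at h
      exact Or.inl (by norm_num at h; rw [h, one_pow])
    · rw [hL] at h
      exact Or.inl (by norm_num at h; exact h)
  · haveI : Fact (Nat.Prime 5) := ⟨Nat.prime_five⟩
    haveI : CharP L 5 := charP_of_card_eq_prime hL
    rcases Dickson.psl_pow_eq_one_cases 5 g with h | h | h
    · exact Or.inr (by rw [show 15 = 5 * 3 from rfl, pow_mul, h, one_pow])
    · rw [hL] at h
      exact Or.inl (by norm_num at h; exact h)
    · rw [hL] at h
      exact Or.inr (by norm_num at h; rw [show 15 = 3 * 5 from rfl, pow_mul, h, one_pow])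

theorem ca_psl_small (hF : Fintype.card F = 3 ∨ Fintype.card F = 5) : CA PF := by
  have h := caIn_of_sq_or_pow (H := (⊤ : Subgroup PF)) (fun x y w => BinaryPSL.psl_ca x y w)
    (fun g _ => psl_sq_or_pow_fifteen hF g)
  intro x a b hx hxa hxb
  obtain ⟨y, hy⟩ := not_mem_center_iff.mp hx
  exact h x trivial ⟨y, trivial, hy⟩ a trivial b trivial hxa hxb

theorem alt_four_pow : ∀ g : alternatingGroup (Fin 4), g ^ 2 = 1 ∨ g ^ 15 = 1 := by decide +kernel

theorem alt_five_pow : ∀ g : alternatingGroup (Fin 5), g ^ 2 = 1 ∨ g ^ 15 = 1 := by decide +kernel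

theorem perm_four_element : ∃ g : Equiv.Perm (Fin 4), g ^ 4 = 1 ∧ g ^ 2 ≠ 1 := by decide +kernel

theorem not_ca_perm_four : ¬ CA (Equiv.Perm (Fin 4)) := by
  intro h
  have hx : (Equiv.swap 0 1 * Equiv.swap 2 3 : Equiv.Perm (Fin 4)) ∉
      Subgroup.center (Equiv.Perm (Fin 4)) :=
    not_mem_center_iff.mpr ⟨Equiv.swap 1 2, fun hc => absurd hc.eq (by decide)⟩
  have := h _ (Equiv.swap 0 1) (Equiv.swap 0 2 * Equiv.swap 1 3) hx
    (show _ * _ = _ * _ by decide) (show _ * _ = _ * _ by decide)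
  exact absurd this.eq (by decide)

theorem not_sixteen_dvd_of_fieldCond {q : ℕ} (h : FieldCond q) : ¬ 16 ∣ q ^ 2 - 1 := by
  rcases h with ⟨-, -, h⟩ | ⟨r, hr, hr2, rfl | rfl⟩
  · exact h
  all_goals
    obtain ⟨k, rfl⟩ := hr.odd_of_ne_two hr2
    rintro ⟨c, hc⟩
    rw [← pow_mul] at hc
  · have : 3 ^ ((2 * k + 1) * 2) % 16 = 9 := by
      rw [show (2 * k + 1) * 2 = 4 * k + 2 by ring, pow_add, pow_mul, Nat.mul_mod, Nat.pow_mod]
      simp
    generalize 3 ^ ((2 * k + 1) * 2) = X at hc this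
    omega
  · have : 5 ^ ((2 * k + 1) * 2) % 16 = 9 := by
      rw [show (2 * k + 1) * 2 = 4 * k + 2 by ring, pow_add, pow_mul, Nat.mul_mod, Nat.pow_mod]
      simp
    generalize 5 ^ ((2 * k + 1) * 2) = X at hc this
    omega

theorem seven_le_of_fieldCond {q : ℕ} (h : FieldCond q) : 7 ≤ q ∧ Odd q := by
  rcases h with ⟨hq, h5, -⟩ | ⟨r, hr, hr2, rfl | rfl⟩
  · refine ⟨?_, hq.odd_of_ne_two (by omega)⟩
    by_contra h7
    interval_cases q
    norm_num at hq
  · have h3 : 3 ≤ r := by have := hr.two_le; omega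
    exact ⟨le_trans (by norm_num) (Nat.pow_le_pow_right (by norm_num) h3), Odd.pow (by decide)⟩
  · have h3 : 3 ≤ r := by have := hr.two_le; omega
    exact ⟨le_trans (by norm_num) (Nat.pow_le_pow_right (by norm_num) h3), Odd.pow (by decide)⟩

/-- The possible orders of subfields. -/
theorem subfield_order {q l m : ℕ} (h : FieldCond q) (hl : 2 ≤ l) (hlm : l ^ m = q) :
    (m = 1 ∧ l = q) ∨ (¬ Even m ∧ (l = 3 ∨ l = 5)) := by
  rcases h with ⟨hq, -, -⟩ | ⟨r, hr, hr2, hq⟩
  · subst hlm
    have hm := (Nat.Prime.pow_eq_iff hq).mp rfl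
    exact Or.inl ⟨hm.2, by rw [hm.2, pow_one]⟩
  · obtain ⟨ℓ, hℓ, hℓ35, hq⟩ : ∃ ℓ, ℓ.Prime ∧ (ℓ = 3 ∨ ℓ = 5) ∧ q = ℓ ^ r := by
      rcases hq with hq | hq
      exacts [⟨3, Nat.prime_three, Or.inl rfl, hq⟩, ⟨5, Nat.prime_five, Or.inr rfl, hq⟩]
    have hm0 : m ≠ 0 := by
      rintro rfl
      rw [pow_zero] at hlm
      have := Nat.one_lt_pow hr.ne_zero hℓ.one_lt
      omega
    obtain ⟨j, -, rfl⟩ := (Nat.dvd_prime_pow hℓ).mp (hq ▸ hlm ▸ dvd_pow_self l hm0)
    rw [hq, ← pow_mul] at hlm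
    have hjm := Nat.pow_right_injective hℓ.two_le hlm
    rcases hr.eq_one_or_self_of_dvd m ⟨j, by rw [mul_comm]; exact hjm.symm⟩ with hm | hm
    · subst hm
      rw [mul_one] at hjm
      exact Or.inl ⟨rfl, by rw [hjm, hq]⟩
    · refine Or.inr ⟨hm ▸ (Nat.not_even_iff_odd.mpr (hr.odd_of_ne_two hr2)), ?_⟩
      rw [hm] at hjm
      have hj : j = 1 := Nat.eq_of_mul_eq_mul_right hr.pos (by rw [one_mul]; exact hjm)
      rw [hj, pow_one]
      exact hℓ35

theorem minNonCA_of_fieldCond (h : FieldCond (Fintype.card F)) : MinNonCA PF := by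
  classical
  obtain ⟨h7, hodd⟩ := seven_le_of_fieldCond h
  have h16 := not_sixteen_dvd_of_fieldCond h
  refine ⟨not_solvable_psl (by omega), not_ca_psl hodd h7, fun H hH => ?_⟩
  obtain ⟨p, hp⟩ := CharP.exists F
  obtain ⟨n, hpp, hn⟩ := FiniteField.card F p
  haveI : Fact p.Prime := ⟨hpp⟩
  have hca : ∀ x y w : PF, x * x ≠ 1 → Commute x y → Commute x w → Commute y w :=
    BinaryPSL.psl_ca
  rcases Dickson.classify_psl p H with ⟨x, hx⟩ | ⟨hc, -, -⟩ | ⟨n, -, -, ⟨i⟩, -⟩ | ⟨-, ⟨i⟩⟩ |
    ⟨-, ⟨i⟩⟩ | ⟨-, ⟨i⟩⟩ | ⟨L, m, hLm, hL⟩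
  · exact caIn_of_le_pslStab hodd hx
  · intro x hx _ a ha b hb _ _
    haveI := hc
    letI := IsCyclic.commGroup (α := H)
    exact congrArg Subtype.val (mul_comm (⟨a, ha⟩ : H) ⟨b, hb⟩)
  · exact caIn_of_mulEquiv i dihedral_ca
  · refine caIn_of_sq_or_pow hca fun g hg => ?_
    rcases alt_four_pow (i ⟨g, hg⟩) with e | e <;> rw [← map_pow, ← map_one i] at e
    · exact Or.inl (congrArg Subtype.val (i.injective e))
    · exact Or.inr (congrArg Subtype.val (i.injective e))
  · exfalso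
    obtain ⟨g, hg4, hg2⟩ := perm_four_element
    have h4 : ((i.symm g : H) : PF) ^ 4 = 1 := by
      rw [← SubmonoidClass.coe_pow, ← map_pow, hg4, map_one, OneMemClass.coe_one]
    have := sq_eq_one_of_four hodd h16 _ h4
    rw [← SubmonoidClass.coe_pow, ← map_pow, ← OneMemClass.coe_one H, Subtype.val_inj,
      ← map_one i.symm] at this
    exact hg2 (i.symm.injective this)
  · refine caIn_of_sq_or_pow hca fun g hg => ?_
    rcases alt_five_pow (i ⟨g, hg⟩) with e | e <;> rw [← map_pow, ← map_one i] at e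
    · exact Or.inl (congrArg Subtype.val (i.injective e))
    · exact Or.inr (congrArg Subtype.val (i.injective e))
  · have hl : 2 ≤ Nat.card L := Finite.one_lt_card
    rcases subfield_order h hl hLm with ⟨hm, hl'⟩ | ⟨hm, hl'⟩
    · rcases hL with ⟨-, he⟩ | ⟨-, ⟨i⟩⟩
      · have hp2 : p ≠ 2 := by
          rintro rfl
          rw [hn] at hodd
          exact absurd ((Nat.odd_pow_iff n.pos.ne').mp hodd) (by decide)
        exact absurd (he hp2) (by rw [hm]; decide)
      · refine absurd (H.eq_top_of_card_eq ?_) hH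
        rw [Nat.card_congr i.toEquiv]
        have hodd' : Odd (Fintype.card L) := by rw [← Nat.card_eq_fintype_card, hl']; exact hodd
        have h1 := Dickson.psl_card_mul_two (F := L) hodd'
        have h2 := Dickson.psl_card_mul_two (F := F) hodd
        rw [← Nat.card_eq_fintype_card, hl'] at h1
        omega
    · rcases hL with ⟨-, he⟩ | ⟨-, ⟨i⟩⟩
      · have hp2 : p ≠ 2 := by
          rintro rfl
          rw [hn] at hodd
          exact absurd ((Nat.odd_pow_iff n.pos.ne').mp hodd) (by decide)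
        exact absurd (he hp2) hm
      · refine caIn_of_sq_or_pow hca fun g hg => ?_
        rw [Nat.card_eq_fintype_card] at hl'
        rcases psl_sq_or_pow_fifteen hl' (i ⟨g, hg⟩) with e | e <;> rw [← map_pow, ← map_one i] at e
        · exact Or.inl (congrArg Subtype.val (i.injective e))
        · exact Or.inr (congrArg Subtype.val (i.injective e))

theorem sixteen_not_dvd_of_minNonCA (hodd : Odd (Fintype.card F)) (h7 : 7 ≤ Fintype.card F)
    (hG : MinNonCA PF) : ¬ 16 ∣ Fintype.card F ^ 2 - 1 := by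
  classical
  intro h16
  have h8 : Fintype.card F % 8 = 1 ∨ Fintype.card F % 8 = 7 := by
    by_contra hne
    obtain ⟨k, hk⟩ := hodd
    obtain ⟨c, hc⟩ := h16
    have h : ∃ j, Fintype.card F = 8 * j + 3 ∨ Fintype.card F = 8 * j + 5 :=
      ⟨Fintype.card F / 8, by omega⟩
    obtain ⟨j, hj | hj⟩ := h <;> rw [hj] at hc <;> ring_nf at hc <;> omega
  obtain ⟨H, ⟨i⟩⟩ := Dickson.exists_psl_s4 (two_ne_zero_of_odd hodd)
    (FiniteField.isSquare_two_iff.mpr (by omega))
  refine not_minNonCA_of_subgroup i not_ca_perm_four ?_ hG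
  rintro rfl
  have hc := Dickson.psl_card_mul_two (F := F) hodd
  rw [← Subgroup.card_top, Nat.card_congr i.toEquiv, Dickson.card_perm_four] at hc
  have : 7 * 48 ≤ Fintype.card F * (Fintype.card F ^ 2 - 1) :=
    Nat.mul_le_mul h7 (le_trans (by norm_num) (Nat.sub_le_sub_right (Nat.pow_le_pow_left h7 2) 1))
  omega

theorem fieldCond_of_minNonCA (hodd : Odd (Fintype.card F)) (hG : MinNonCA PF) :
    FieldCond (Fintype.card F) := by
  classical
  have h7 : 7 ≤ Fintype.card F := by
    by_contra h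
    obtain ⟨k, hk⟩ := hodd
    have := Fintype.one_lt_card (α := F)
    exact hG.not_ca (ca_psl_small (by omega))
  have h16 := sixteen_not_dvd_of_minNonCA hodd h7 hG
  obtain ⟨p, hp⟩ := CharP.exists F
  obtain ⟨⟨n, hn0⟩, hpp, hn⟩ := FiniteField.card F p
  haveI : Fact p.Prime := ⟨hpp⟩
  simp only [PNat.mk_coe] at hn
  by_cases hn1 : n = 1
  · subst hn1
    rw [pow_one] at hn
    exact Or.inl ⟨hn ▸ hpp, by omega, h16⟩
  have hp2 : p ≠ 2 := by
    rintro rfl
    rw [hn] at hodd
    exact absurd ((Nat.odd_pow_iff hn0.ne').mp hodd) (by decide)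
  have hno : Odd n := by
    by_contra hne
    obtain ⟨j, rfl⟩ := Nat.not_odd_iff_even.mp hne
    refine h16 ?_
    obtain ⟨k, hk⟩ := (hpp.odd_of_ne_two hp2).pow (n := j)
    obtain ⟨t, ht⟩ := Nat.even_mul_succ_self k
    have hq : Fintype.card F = 8 * t + 1 := by
      rw [hn, pow_add, hk]; nlinarith
    rw [hq]
    exact ⟨4 * t * t + t, by ring_nf; omega⟩
  -- a proper subfield on at least seven elements gives a contradiction
  have hsub : ∀ d, d ∣ n → d < n → 7 ≤ p ^ d → False := by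
    intro d hdn hlt h7d
    have hd0 : d ≠ 0 := fun h => by simp [h] at h7d
    obtain ⟨m, hm⟩ := hdn
    let K := GaloisField p d
    haveI : Fintype K := Fintype.ofFinite K
    have hK : Fintype.card K = p ^ d := by
      rw [← Nat.card_eq_fintype_card]; exact GaloisField.card p d hd0
    have hKm : Fintype.card K ^ m = Fintype.card F := by rw [hK, ← pow_mul, ← hm, hn]
    obtain ⟨f⟩ := Dickson.exists_ringHom_of_card_pow hKm
    obtain ⟨H, -, ⟨i⟩⟩ := Dickson.exists_psl_subfield f
    have hKodd : Odd (Fintype.card K) := hK ▸ (hpp.odd_of_ne_two hp2).pow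
    refine not_minNonCA_of_subgroup i (not_ca_psl hKodd (hK ▸ h7d)) ?_ hG
    rintro rfl
    have h1 := Dickson.psl_card_mul_two (F := K) hKodd
    have h2 := Dickson.psl_card_mul_two (F := F) hodd
    rw [← Nat.card_congr i.toEquiv, Subgroup.card_top] at h1
    have := Dickson.psl_order_lt (a := Fintype.card K) (b := Fintype.card F) Fintype.one_lt_card
      (hn ▸ hK ▸ Nat.pow_lt_pow_right hpp.one_lt hlt)
    omega
  have hn2 : 2 ≤ n := by omega
  by_cases hnp : n.Prime
  · have hn3 : n ≠ 2 := fun h => by rw [h] at hno; exact absurd hno (by decide)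
    have h7p : ¬ 7 ≤ p := fun h => hsub 1 (one_dvd n) (by omega) (by simpa using h)
    have : p = 3 ∨ p = 5 := by
      have := hpp.two_le
      interval_cases p <;> first | omega | (norm_num at hpp)
    exact Or.inr ⟨n, hnp, hn3, by rcases this with rfl | rfl <;> simp [hn]⟩
  · exfalso
    obtain ⟨d, hdn, hd2, hlt⟩ := Nat.exists_dvd_of_not_prime2 hn2 hnp
    refine hsub d hdn hlt ?_
    have hd3 : 3 ≤ d := by
      have : Odd d := hno.of_dvd_nat hdn
      obtain ⟨k, hk⟩ := this
      omega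
    have hp3 : 3 ≤ p := by have := hpp.two_le; omega
    calc 7 ≤ 3 ^ 3 := by norm_num
      _ ≤ p ^ 3 := Nat.pow_le_pow_left hp3 3
      _ ≤ p ^ d := Nat.pow_le_pow_right (by omega) hd3

end PSL

theorem fieldStep : FieldStep := fun _ _ _ =>
  ⟨fun hodd h => fieldCond_of_minNonCA hodd h, fun h => minNonCA_of_fieldCond h⟩

end CfsgLib.MinNonCA98
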