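import Mathlib
import Cfsg.Agent.MinNonCA98.Interfaces
import Cfsg.Agent.Alperin.Basic
import Cfsg.Agent.ZStar.Theorem
import Cfsg.Agent.TransferBasic.Central
import Cfsg.Agent.StronglyEmbedded.Basic

/-!
# The centre has odd order: centralisers of 2-elements

`OddCtx G`: a minimal non-CA perfect group, simple modulo the centre, with a centre of even order.
The aim of the `OddCenter*` files is to show that there is no such group.  Here: a Sylow
`p`-subgroup which is nonabelian has isolated noncentral centre, `Z(S) ≤ Z(G)` for `p = 2`, and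
`C_S(w)` is abelian for `w ∈ S \ Z(G)`.
-/

set_option autoImplicit false
set_option linter.style.haveILetI false
set_option linter.unusedSectionVars false

open scoped Pointwise

namespace CfsgLib.MinNonCA98

open CfsgLib.StronglyEmbedded (orderOf_two_iff)

variable {G : Type*} [Group G]

/-- The hypotheses to be refuted. -/
structure OddCtx (G : Type*) [Group G] : Prop where
  mn : MinNonCA G
  perfect : commutator G = ⊤
  simple : IsSimpleGroup (G ⧸ Subgroup.center G)
  two : 2 ∣ Nat.card (Subgroup.center G)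

namespace OddCenter

local notation "π" => QuotientGroup.mk' (Subgroup.center G)

/-! ### Commuting modulo the centre -/

theorem mk_eq_one {a : G} : (a : G ⧸ Subgroup.center G) = 1 ↔ a ∈ Subgroup.center G :=
  QuotientGroup.eq_one_iff a

theorem commute_mk_iff {a b : G} : Commute (a : G ⧸ Subgroup.center G) (b : G ⧸ Subgroup.center G) ↔
    a * b * a⁻¹ * b⁻¹ ∈ Subgroup.center G := by
  rw [← mk_eq_one]
  simp only [QuotientGroup.mk_mul, QuotientGroup.mk_inv]
  rw [mul_inv_eq_one, mul_inv_eq_iff_eq_mul]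
  exact Iff.rfl

theorem commute_mk_of_commute {a b : G} (h : Commute a b) :
    Commute (a : G ⧸ Subgroup.center G) (b : G ⧸ Subgroup.center G) :=
  h.map π

theorem mul_center_comm {z : G} (hz : z ∈ Subgroup.center G) (g : G) : Commute z g :=
  (Subgroup.mem_center_iff.mp hz g).symm

/-- Elements which are congruent modulo the centre have the same centraliser. -/
theorem commute_iff_of_mk_eq {a b g : G} (h : (a : G ⧸ Subgroup.center G) = b) :
    Commute a g ↔ Commute b g := by
  have hz : a⁻¹ * b ∈ Subgroup.center G := QuotientGroup.eq.mp h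
  constructor
  · intro hc
    have := hc.mul_left (mul_center_comm hz g)
    rwa [mul_inv_cancel_left] at this
  · intro hc
    have := hc.mul_left (mul_center_comm (inv_mem hz) g)
    rwa [mul_inv_rev, inv_inv, mul_inv_cancel_left] at this

/-- Elements of coprime orders which commute modulo the centre commute. -/
theorem commute_of_coprime {a g : G}
    (h : Commute (g : G ⧸ Subgroup.center G) (a : G ⧸ Subgroup.center G))
    (hc : Nat.Coprime (orderOf a) (orderOf g)) : Commute g a := by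
  set c := g * a * g⁻¹ * a⁻¹ with hcdef
  have hz : c ∈ Subgroup.center G := commute_mk_iff.mp h
  have hcc : ∀ x : G, Commute c x := mul_center_comm hz
  have hconj : g * a * g⁻¹ = c * a := by rw [hcdef]; group
  have h1 : c ^ orderOf a = 1 := by
    have h2 : (g * a * g⁻¹) ^ orderOf a = 1 := by
      rw [conj_pow, pow_orderOf_eq_one, mul_one, mul_inv_cancel]
    rwa [hconj, (hcc a).mul_pow, pow_orderOf_eq_one, mul_one] at h2
  have hj : ∀ j : ℕ, g ^ j * a * (g ^ j)⁻¹ = c ^ j * a := by
    intro j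
    induction j with
    | zero => simp
    | succ j ih =>
      calc g ^ (j + 1) * a * (g ^ (j + 1))⁻¹ = g * (g ^ j * a * (g ^ j)⁻¹) * g⁻¹ := by
            rw [pow_succ']; group
        _ = g * (c ^ j * a) * g⁻¹ := by rw [ih]
        _ = c ^ j * (g * a * g⁻¹) := by
            rw [← mul_assoc g, ((hcc g).pow_left j).symm.eq]; group
        _ = c ^ (j + 1) * a := by rw [hconj, ← mul_assoc, pow_succ]
  have h3 : c ^ orderOf g = 1 := by
    have h2 := hj (orderOf g)
    rw [pow_orderOf_eq_one, one_mul, inv_one, mul_one] at h2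
    exact mul_eq_right.mp h2.symm
  have h4 : c = 1 := by
    have := pow_gcd_eq_one.mpr ⟨h1, h3⟩
    rwa [hc.gcd_eq_one, pow_one] at this
  exact mul_inv_eq_iff_eq_mul.mp (by rw [hconj, h4, one_mul])

section Lift

variable [Finite G]

/-- A coset of the centre with order prime to `p` has a representative with order prime to `p`. -/
theorem exists_prime_compl_lift {p : ℕ} (hp : p.Prime) (q : G ⧸ Subgroup.center G)
    (hq : Nat.Coprime (orderOf q) p) :
    ∃ g : G, (g : G ⧸ Subgroup.center G) = q ∧ Nat.Coprime (orderOf g) p := by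
  obtain ⟨g, rfl⟩ := QuotientGroup.mk_surjective q
  set n := orderOf g
  have hn : n ≠ 0 := (orderOf_pos g).ne'
  set m := ordProj[p] n
  have hcop : Nat.Coprime m (orderOf (g : G ⧸ Subgroup.center G)) := hq.symm.pow_left _
  obtain ⟨e, he⟩ := exists_pow_eq_self_of_coprime hcop
  refine ⟨(g ^ m) ^ e, by simpa using he, ?_⟩
  have h1 : orderOf ((g ^ m) ^ e) ∣ ordCompl[p] n := by
    refine orderOf_dvd_of_pow_eq_one ?_
    rw [← pow_mul, ← pow_mul, show m * (e * ordCompl[p] n) = (m * ordCompl[p] n) * e by ring,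
      Nat.ordProj_mul_ordCompl_eq_self, pow_mul, pow_orderOf_eq_one, one_pow]
  exact ((Nat.coprime_ordCompl hp hn).symm).of_dvd_left h1

/-- A `p`-element of the quotient has a `p`-element as representative. -/
theorem exists_prime_pow_lift {p : ℕ} (hp : p.Prime) (q : G ⧸ Subgroup.center G) {a : ℕ}
    (hq : q ^ p ^ a = 1) : ∃ g : G, (g : G ⧸ Subgroup.center G) = q ∧ ∃ b, g ^ p ^ b = 1 := by
  obtain ⟨g, rfl⟩ := QuotientGroup.mk_surjective q
  set n := orderOf g
  have hn : n ≠ 0 := (orderOf_pos g).ne'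
  set k := ordCompl[p] n
  have hcop : Nat.Coprime k (orderOf (g : G ⧸ Subgroup.center G)) :=
    ((Nat.coprime_ordCompl hp hn).symm.pow_right a).of_dvd_right (orderOf_dvd_of_pow_eq_one hq)
  obtain ⟨e, he⟩ := exists_pow_eq_self_of_coprime hcop
  refine ⟨(g ^ k) ^ e, by simpa using he, n.factorization p, ?_⟩
  rw [← pow_mul, ← pow_mul, show k * (e * p ^ n.factorization p) =
      (p ^ n.factorization p * k) * e by ring, Nat.ordProj_mul_ordCompl_eq_self, pow_mul,
    pow_orderOf_eq_one, one_pow]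

theorem exists_odd_lift (q : G ⧸ Subgroup.center G) (hq : Odd (orderOf q)) :
    ∃ g : G, (g : G ⧸ Subgroup.center G) = q ∧ Odd (orderOf g) := by
  obtain ⟨g, hg, hg'⟩ := exists_prime_compl_lift Nat.prime_two q (Nat.coprime_two_right.mpr hq)
  exact ⟨g, hg, Nat.coprime_two_right.mp hg'⟩

end Lift

/-! ### Sylow subgroups -/

theorem mem_sylow_of_pElement {p : ℕ} [Fact p.Prime] (P : Sylow p G) {g : G} {k : ℕ}
    (hg : g ^ p ^ k = 1) (hn : g ∈ Subgroup.normalizer ((P : Subgroup G) : Set G)) : g ∈ P := by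
  have hz : IsPGroup p (Subgroup.zpowers g) := by
    rintro ⟨_, ⟨i, rfl⟩⟩
    refine ⟨k, Subtype.ext ?_⟩
    show (g ^ i) ^ p ^ k = 1
    rw [← zpow_natCast, ← zpow_mul, mul_comm, zpow_mul, zpow_natCast, hg, one_zpow]
  have h : g ∈ Subgroup.zpowers g ⊓ Subgroup.normalizer ((P : Subgroup G) : Set G) :=
    ⟨Subgroup.mem_zpowers g, hn⟩
  exact ((IsPGroup.inf_normalizer_sylow hz P).le h).2

theorem isPGroup_zpowers {p : ℕ} {g : G} {k : ℕ} (hg : g ^ p ^ k = 1) :
    IsPGroup p (Subgroup.zpowers g) := by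
  rintro ⟨_, ⟨i, rfl⟩⟩
  refine ⟨k, Subtype.ext ?_⟩
  show (g ^ i) ^ p ^ k = 1
  rw [← zpow_natCast, ← zpow_mul, mul_comm, zpow_mul, zpow_natCast, hg, one_zpow]

theorem exists_pow_eq_one_of_mem {p : ℕ} (P : Sylow p G) {g : G} (hg : g ∈ P) :
    ∃ k, g ^ p ^ k = 1 := by
  obtain ⟨k, hk⟩ := P.2 ⟨g, hg⟩
  exact ⟨k, congrArg Subtype.val hk⟩

/-- Inside an overgroup `M` of a Sylow subgroup `P`, every `p`-subgroup lies in an `M`-conjugate
of `P`. -/
theorem exists_conj_sylow_ge [Finite G] {p : ℕ} [Fact p.Prime] (P : Sylow p G) {M : Subgroup G}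
    (hPM : (P : Subgroup G) ≤ M) {X : Subgroup G} (hX : IsPGroup p X) (hXM : X ≤ M) :
    ∃ m ∈ M, ∃ P₀ : Sylow p G, (∀ a, a ∈ P₀ ↔ m * a * m⁻¹ ∈ P) ∧ X ≤ (P₀ : Subgroup G) ∧
      (P₀ : Subgroup G) ≤ M := by
  obtain ⟨T, hT⟩ := (hX.comap_of_injective M.subtype M.subtype_injective).exists_le_sylow
  obtain ⟨m, hm⟩ := MulAction.exists_smul_eq M (P.subtype hPM) T
  set P₀ : Sylow p G := (MulAut.conj (m : G)) • P with hP₀
  have hmem : ∀ a, a ∈ P₀ ↔ (m : G)⁻¹ * a * ((m : G)⁻¹)⁻¹ ∈ P := by
    intro a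
    change a ∈ (MulAut.conj (m : G)) • (P : Subgroup G) ↔ _
    rw [Subgroup.mem_pointwise_smul_iff_inv_smul_mem]
    simp only [MulAut.smul_def, ← map_inv, MulAut.conj_apply, inv_inv]
    exact Iff.rfl
  refine ⟨(m : G)⁻¹, inv_mem m.2, P₀, hmem, ?_, ?_⟩
  · intro x hx
    have h1 : (⟨x, hXM hx⟩ : M) ∈ T := hT hx
    rw [← hm] at h1
    change (⟨x, hXM hx⟩ : M) ∈ (MulAut.conj m) • ((P : Subgroup G).subgroupOf M) at h1
    rw [Subgroup.mem_pointwise_smul_iff_inv_smul_mem] at h1
    change x ∈ (P₀ : Subgroup G)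
    refine (hmem x).mpr ?_
    simp only [MulAut.smul_def, ← map_inv, MulAut.conj_apply, inv_inv, Subgroup.mem_subgroupOf,
      Subgroup.coe_mul, Subgroup.coe_inv] at h1
    rw [inv_inv]
    exact h1
  · intro a ha
    have h1 : (m : G)⁻¹ * a * ((m : G)⁻¹)⁻¹ ∈ M := hPM ((hmem a).mp ha)
    have h2 := mul_mem (mul_mem m.2 h1) (inv_mem m.2)
    simpa [mul_assoc] using h2

end OddCenter

namespace OddCtx

open OddCenter

local notation "π" => QuotientGroup.mk' (Subgroup.center G)

variable (c : OddCtx G)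
include c

theorem isSolvable_elim (h : ∀ a b : G, Commute a b) : False := by
  letI : CommGroup G := { ‹Group G› with mul_comm := fun a b => (h a b).eq }
  exact c.mn.not_solvable inferInstance

theorem exists_not_commute : ∃ a b : G ⧸ Subgroup.center G, ¬ Commute a b := by
  by_contra hcomm
  push Not at hcomm
  apply c.isSolvable_elim
  intro a b
  have h : commutator G ≤ Subgroup.center G := by
    rw [commutator_def, Subgroup.commutator_le]
    intro x _ y _
    exact commute_mk_iff.mp (hcomm _ _)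
  rw [c.perfect] at h
  exact mul_center_comm (h (Subgroup.mem_top a)) b

theorem center_quotient : Subgroup.center (G ⧸ Subgroup.center G) = ⊥ := by
  haveI := c.simple
  refine (Subgroup.Normal.eq_bot_or_eq_top inferInstance).resolve_right fun h => ?_
  obtain ⟨a, b, hab⟩ := c.exists_not_commute
  exact hab ((Subgroup.mem_center_iff.mp (h ▸ Subgroup.mem_top b)) a)

/-- Normal subgroups are central or everything. -/
theorem normal_le_center_or_eq_top {N : Subgroup G} (hN : N.Normal) :
    N ≤ Subgroup.center G ∨ N = ⊤ := by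
  haveI := c.simple
  haveI : (N.map π).Normal := hN.map π (QuotientGroup.mk'_surjective _)
  rcases Subgroup.Normal.eq_bot_or_eq_top (inferInstance : (N.map π).Normal) with h | h
  · left
    intro a ha
    have : π a ∈ N.map π := Subgroup.mem_map_of_mem _ ha
    rw [h, Subgroup.mem_bot] at this
    exact mk_eq_one.mp this
  · right
    haveI := hN
    rw [eq_top_iff, ← c.perfect, commutator_def, Subgroup.commutator_le]
    intro a _ b _
    obtain ⟨n, hn, hna⟩ : π a ∈ N.map π := h ▸ Subgroup.mem_top _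
    have hz : n⁻¹ * a ∈ Subgroup.center G := QuotientGroup.eq.mp hna
    have e : a * b * a⁻¹ * b⁻¹ = n * (b * n⁻¹ * b⁻¹) := by
      have e1 : Commute (n⁻¹ * a) b := mul_center_comm hz b
      calc a * b * a⁻¹ * b⁻¹ = n * ((n⁻¹ * a) * b * (n⁻¹ * a)⁻¹) * n⁻¹ * b⁻¹ := by group
        _ = n * b * n⁻¹ * b⁻¹ := by rw [e1.eq, mul_inv_cancel_right]
        _ = n * (b * n⁻¹ * b⁻¹) := by group
    rw [commutatorElement_def, e]
    exact mul_mem hn (hN.conj_mem _ (inv_mem hn) b)

variable [Finite G]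

theorem pSubgroup_ne_top {p : ℕ} [Fact p.Prime] {T : Subgroup G} (hT : IsPGroup p T) : T ≠ ⊤ := by
  rintro rfl
  haveI : Group.IsNilpotent G := (hT.of_equiv Subgroup.topEquiv).isNilpotent
  exact c.mn.not_solvable inferInstance

/-- The normaliser of a noncentral proper `p`-subgroup is proper. -/
theorem normalizer_ne_top {p : ℕ} [Fact p.Prime] {T : Subgroup G} (hT : IsPGroup p T) {x : G}
    (hx : x ∈ T) (hxZ : x ∉ Subgroup.center G) : Subgroup.normalizer (T : Set G) ≠ ⊤ := by
  intro h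
  rcases c.normal_le_center_or_eq_top (Subgroup.normalizer_eq_top_iff.mp h) with h' | h'
  · exact hxZ (h' hx)
  · exact c.pSubgroup_ne_top hT h'

/-- The centraliser of a red element is its own normaliser. -/
theorem mem_of_normalizes {x : G} (hx : Red x) {g : G}
    (hg : ∀ a, Commute x a → Commute x (g * a * g⁻¹)) : Commute x g := by
  set M := Subgroup.centralizer ({x} : Set G) with hM
  have hmem : ∀ a, a ∈ M ↔ Commute x a := fun a =>
    Subgroup.mem_centralizer_singleton_iff.trans ⟨fun h => h.symm, fun h => h.symm⟩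
  have hgN : g ∈ Subgroup.normalizer (M : Set G) := by
    have hle : M.map (MulAut.conj g).toMonoidHom ≤ M := by
      rintro _ ⟨a, ha, rfl⟩
      exact (hmem _).mpr (hg a ((hmem a).mp ha))
    have heq : M.map (MulAut.conj g).toMonoidHom = M :=
      Subgroup.eq_of_le_of_card_ge hle
        (le_of_eq (Nat.card_congr (M.equivMapOfInjective _ (MulAut.conj g).injective).toEquiv))
    rw [Subgroup.mem_normalizer_iff]
    intro a
    constructor
    · exact fun ha => hle ⟨a, ha, rfl⟩
    · intro ha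
      rw [← heq] at ha
      obtain ⟨b, hb, hba⟩ := ha
      rwa [← (MulAut.conj g).injective hba]
  have hN : Subgroup.normalizer (M : Set G) = M := by
    rcases (hx.isCoatom c.mn).le_iff.mp Subgroup.le_normalizer with h | h
    · exfalso
      rcases c.normal_le_center_or_eq_top (Subgroup.normalizer_eq_top_iff.mp h) with h' | h'
      · exact hx.1 (h' ((hmem x).mpr (Commute.refl x)))
      · exact hx.centralizer_ne_top h'
    · exact h
  rw [hN] at hgN
  exact (hmem g).mp hgN

/-- A nonabelian `p`-subgroup of the centraliser of a red element lies in a Sylow subgroup of `G`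
inside that centraliser. -/
theorem exists_sylow_le_centralizer {p : ℕ} [Fact p.Prime] {x : G} (hx : Red x) {T : Subgroup G}
    (hT : IsPGroup p T) (hTC : T ≤ Subgroup.centralizer ({x} : Set G)) {a b : G} (ha : a ∈ T)
    (hb : b ∈ T) (hab : ¬ Commute a b) :
    ∃ P : Sylow p G, T ≤ (P : Subgroup G) ∧
      (P : Subgroup G) ≤ Subgroup.centralizer ({x} : Set G) := by
  set M := Subgroup.centralizer ({x} : Set G) with hM
  obtain ⟨U, hU⟩ := (hT.comap_of_injective M.subtype M.subtype_injective).exists_le_sylow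
  set T₁ := (U : Subgroup M).map M.subtype with hT₁
  have hTT₁ : T ≤ T₁ := fun t ht => ⟨⟨t, hTC ht⟩, hU ht, rfl⟩
  have hT₁M : T₁ ≤ M := Subgroup.map_subtype_le _
  have hT₁p : IsPGroup p T₁ := U.2.map _
  have hmax : ∀ X : Subgroup G, IsPGroup p X → T₁ ≤ X → X ≤ M → X ≤ T₁ := by
    intro X hX hle hXM y hy
    have h3 := U.3 (Q := X.subgroupOf M) (hX.comap_of_injective M.subtype M.subtype_injective)
      (fun u hu => hle ⟨u, hu, rfl⟩)
    exact ⟨⟨y, hXM hy⟩, h3.le hy, rfl⟩
  obtain ⟨P, hP⟩ := hT₁p.exists_le_sylow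
  refine ⟨P, hTT₁.trans hP, ?_⟩
  by_contra hPM
  have hlt : T₁ < (P : Subgroup G) := lt_of_le_of_ne hP fun h => hPM (h ▸ hT₁M)
  have hgrow := CfsgLib.Alperin.lt_inf_normalizer P.2 hlt
  have hmemM : ∀ t ∈ T₁, Commute x t := fun t ht =>
    (Subgroup.mem_centralizer_singleton_iff.mp (hT₁M ht)).symm
  have haZ : a ∉ Subgroup.center G := fun h => hab (mul_center_comm h b)
  have hxN : x ∈ Subgroup.normalizer (T₁ : Set G) := by
    rw [Subgroup.mem_normalizer_iff]
    intro t
    constructor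
    · intro ht
      rwa [(hmemM t ht).eq, mul_inv_cancel_right]
    · intro ht
      have h1 := hmemM _ ht
      have h2 : t = x * t * x⁻¹ := by
        have := h1.eq
        calc t = x⁻¹ * (x * t * x⁻¹ * x) := by group
          _ = x⁻¹ * (x * (x * t * x⁻¹)) := by rw [this]
          _ = x * t * x⁻¹ := by group
      rwa [h2]
  have hle := hx.le_centralizer c.mn (c.normalizer_ne_top hT₁p (hTT₁ ha) haZ) hxN
    (Subgroup.le_normalizer (hTT₁ ha)) (Subgroup.le_normalizer (hTT₁ hb))
    (hmemM a (hTT₁ ha)) (hmemM b (hTT₁ hb)) hab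
  exact hgrow.not_ge (hmax _ (P.2.to_le inf_le_left) hgrow.le (inf_le_right.trans hle))

/-- A noncentral element in the centre of a nonabelian Sylow subgroup is isolated in it. -/
theorem eq_of_conj_mem {p : ℕ} [Fact p.Prime] (P : Sylow p G) {a b : G} (ha : a ∈ P) (hb : b ∈ P)
    (hab : ¬ Commute a b) {z : G} (hz : z ∈ P) (hzc : ∀ t ∈ P, Commute z t)
    (hzZ : z ∉ Subgroup.center G) {g : G} (hg : g * z * g⁻¹ ∈ P) : g * z * g⁻¹ = z := by
  set y := g * z * g⁻¹ with hy
  set M := Subgroup.centralizer ({z} : Set G) with hM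
  set Cy := Subgroup.centralizer ({y} : Set G) with hCy
  have hmemM : ∀ t, t ∈ M ↔ Commute z t := fun t =>
    Subgroup.mem_centralizer_singleton_iff.trans ⟨fun h => h.symm, fun h => h.symm⟩
  have hmemC : ∀ t, t ∈ Cy ↔ Commute y t := fun t =>
    Subgroup.mem_centralizer_singleton_iff.trans ⟨fun h => h.symm, fun h => h.symm⟩
  have hzred : Red z := ⟨hzZ, a, b, hzc a ha, hzc b hb, hab⟩
  have hPM : (P : Subgroup G) ≤ M := fun t ht => (hmemM t).mpr (hzc t ht)
  have hyred : Red y := by
    refine ⟨fun h => hzZ ?_, g * a * g⁻¹, g * b * g⁻¹, ?_, ?_, fun h => hab ?_⟩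
    · have := (Subgroup.instNormalCenter.conj_mem y h g⁻¹ : _ ∈ Subgroup.center G)
      simpa [hy, mul_assoc] using this
    · exact (hzc a ha).map (MulAut.conj g).toMonoidHom
    · exact (hzc b hb).map (MulAut.conj g).toMonoidHom
    · have := h.map (MulAut.conj g⁻¹).toMonoidHom
      simpa [mul_assoc] using this
  -- a Sylow subgroup `A` of `M ⊓ C(y)` containing `C_P(y)`
  set K := M ⊓ Cy with hK
  have hA0 : IsPGroup p ((P : Subgroup G) ⊓ Cy : Subgroup G) := P.2.to_le inf_le_left
  obtain ⟨U, hU⟩ := (hA0.comap_of_injective K.subtype K.subtype_injective).exists_le_sylow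
  set A := (U : Subgroup K).map K.subtype with hA
  have hAK : A ≤ K := Subgroup.map_subtype_le _
  have hAp : IsPGroup p A := U.2.map _
  have hPA : (P : Subgroup G) ⊓ Cy ≤ A := fun t ht =>
    ⟨⟨t, hPM ht.1, ht.2⟩, hU ht, rfl⟩
  have hyA : y ∈ A := hPA ⟨hg, (hmemC y).mpr (Commute.refl y)⟩
  have hzA : z ∈ A := hPA ⟨hz, (hmemC z).mpr (hzc y hg).symm⟩
  have hmax : ∀ X : Subgroup G, IsPGroup p X → A ≤ X → X ≤ K → X ≤ A := by
    intro X hX hle hXK t ht
    have h3 := U.3 (Q := X.subgroupOf K) (hX.comap_of_injective K.subtype K.subtype_injective)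
      (fun u hu => hle ⟨u, hu, rfl⟩)
    exact ⟨⟨t, hXK ht⟩, h3.le ht, rfl⟩
  obtain ⟨m, hm, P₀, hP₀, hAP₀, hP₀M⟩ :=
    exists_conj_sylow_ge P hPM hAp (hAK.trans inf_le_left)
  have hinter : (P₀ : Subgroup G) ⊓ Cy ≤ A :=
    hmax _ (P₀.2.to_le inf_le_left) (le_inf hAP₀ (hAK.trans inf_le_right))
      (le_inf (inf_le_left.trans hP₀M) inf_le_right)
  by_cases hAab : ∀ s ∈ A, ∀ t ∈ A, Commute s t
  · exfalso
    have ha₀ : m⁻¹ * a * m ∈ P₀ := (hP₀ _).mpr (by simpa [mul_assoc] using ha)
    have hb₀ : m⁻¹ * b * m ∈ P₀ := (hP₀ _).mpr (by simpa [mul_assoc] using hb)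
    have hne : ¬ Commute (m⁻¹ * a * m) (m⁻¹ * b * m) := fun h => hab (by
      have := h.map (MulAut.conj m).toMonoidHom
      simpa [mul_assoc] using this)
    have hlt : A < (P₀ : Subgroup G) :=
      lt_of_le_of_ne hAP₀ fun h => hne (hAab _ (h ▸ ha₀) _ (h ▸ hb₀))
    obtain ⟨r, hr, hrA⟩ :=
      SetLike.exists_of_lt (CfsgLib.Alperin.lt_inf_normalizer P₀.2 hlt)
    have hyr : ¬ Commute y r := fun h => hrA (hinter ⟨hr.1, (hmemC r).mpr h⟩)
    have hNM : Subgroup.normalizer (A : Set G) ≤ M := by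
      refine hzred.le_centralizer c.mn (c.normalizer_ne_top hAp hzA hzZ)
        (Subgroup.le_normalizer hzA) (Subgroup.le_normalizer hyA) hr.2 ?_ ?_ hyr
      · exact (hmemM y).mp (hAK hyA).1
      · exact (hmemM r).mp (hP₀M hr.1)
    have hPC : (((MulAut.conj g) • P : Sylow p G) : Subgroup G) ≤ Cy := by
      intro t ht
      change t ∈ (MulAut.conj g) • (P : Subgroup G) at ht
      obtain ⟨s, hs, rfl⟩ := ht
      exact (hmemC _).mpr ((hzc s hs).map (MulAut.conj g).toMonoidHom)
    obtain ⟨k, -, P₁, hP₁, hAP₁, hP₁C⟩ :=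
      exists_conj_sylow_ge _ hPC hAp (hAK.trans inf_le_right)
    have hmemP' : ∀ s, s ∈ P → g * s * g⁻¹ ∈ ((MulAut.conj g) • P : Sylow p G) :=
      fun s hs => ⟨s, hs, rfl⟩
    have ha₁ : k⁻¹ * (g * a * g⁻¹) * k ∈ P₁ :=
      (hP₁ _).mpr (by simpa [mul_assoc] using hmemP' a ha)
    have hb₁ : k⁻¹ * (g * b * g⁻¹) * k ∈ P₁ :=
      (hP₁ _).mpr (by simpa [mul_assoc] using hmemP' b hb)
    have hne₁ : ¬ Commute (k⁻¹ * (g * a * g⁻¹) * k) (k⁻¹ * (g * b * g⁻¹) * k) := fun h => hab (by
      have := h.map (MulAut.conj (g⁻¹ * k)).toMonoidHom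
      simpa [mul_assoc] using this)
    have hlt₁ : A < (P₁ : Subgroup G) :=
      lt_of_le_of_ne hAP₁ fun h => hne₁ (hAab _ (h ▸ ha₁) _ (h ▸ hb₁))
    have hgrow := CfsgLib.Alperin.lt_inf_normalizer P₁.2 hlt₁
    exact hgrow.not_ge (hmax _ (P₁.2.to_le inf_le_left) hgrow.le
      (le_inf (inf_le_right.trans hNM) (inf_le_left.trans hP₁C)))
  · push Not at hAab
    obtain ⟨s, hs, t, ht, hst⟩ := hAab
    have hMC : M ≤ Cy := hyred.le_centralizer c.mn hzred.centralizer_ne_top
      ((hmemM y).mpr (hzc y hg)) (hAK hs).1 (hAK ht).1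
      ((hmemC s).mp (hAK hs).2) ((hmemC t).mp (hAK ht).2) hst
    have hCM : Cy = M :=
      ((hzred.isCoatom c.mn).le_iff.mp hMC).resolve_left hyred.centralizer_ne_top
    have hzg : Commute z g := by
      refine c.mem_of_normalizes hzred fun u hu => (hmemM _).mp ?_
      rw [← hCM]
      exact (hmemC _).mpr (hu.map (MulAut.conj g).toMonoidHom)
    rw [hy, ← hzg.eq, mul_inv_cancel_right]

theorem exists_center_two : ∃ z ∈ Subgroup.center G, orderOf z = 2 := by
  haveI : Fact (Nat.Prime 2) := ⟨Nat.prime_two⟩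
  obtain ⟨z, hz⟩ := exists_prime_orderOf_dvd_card' 2 c.two
  exact ⟨z, z.2, by rw [Subgroup.orderOf_coe, hz]⟩

/-- A Sylow 2-subgroup is nonabelian. -/
theorem sylow_not_comm (S : Sylow 2 G) : ∃ a ∈ S, ∃ b ∈ S, ¬ Commute a b := by
  by_contra hab
  push Not at hab
  obtain ⟨z, hz, hz2⟩ := c.exists_center_two
  have hzS : z ∈ S := by
    refine mem_sylow_of_pElement S (k := 1) (by rw [pow_one, ← hz2, pow_orderOf_eq_one]) ?_
    exact Subgroup.center_le_normalizer _ hz
  have hcop : (Nat.card (S : Subgroup G)).Coprime (S : Subgroup G).index := by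
    obtain ⟨k, hk⟩ := IsPGroup.iff_card.mp S.2
    rw [hk]
    exact (Nat.prime_two.coprime_iff_not_dvd.mpr S.not_dvd_index).pow_left k
  have h := CfsgLib.TransferBasic.central_mem_commutator_of_coprime (S : Subgroup G) hcop z hz hzS
    (c.perfect ▸ Subgroup.mem_top z)
  have hbot : commutator (S : Subgroup G) = ⊥ := by
    rw [eq_bot_iff, commutator_def, Subgroup.commutator_le]
    intro s _ t _
    rw [Subgroup.mem_bot, commutatorElement_eq_one_iff_commute]
    exact Subtype.ext (hab s s.2 t t.2).eq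
  rw [hbot, Subgroup.mem_bot] at h
  have : z = 1 := congrArg Subtype.val h
  rw [this, orderOf_one] at hz2
  omega

/-- A 2-element of `S * Z` is in `S`. -/
theorem mem_of_mk_mem (S : Sylow 2 G) {g s : G} {k : ℕ} (hg : g ^ 2 ^ k = 1) (hs : s ∈ S)
    (he : (g : G ⧸ Subgroup.center G) = s) : g ∈ S := by
  refine mem_sylow_of_pElement S hg ?_
  have hz : s⁻¹ * g ∈ Subgroup.center G := QuotientGroup.eq.mp he.symm
  have := mul_mem (Subgroup.le_normalizer (H := (S : Subgroup G)) hs)
    (Subgroup.center_le_normalizer ((S : Subgroup G) : Set G) hz)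
  rwa [mul_inv_cancel_left] at this

/-- `Z(S) ≤ Z(G)`. -/
theorem center_sylow_le (S : Sylow 2 G) {z : G} (hz : z ∈ S) (hzc : ∀ t ∈ S, Commute z t) :
    z ∈ Subgroup.center G := by
  haveI := c.simple
  obtain ⟨k, hk⟩ := exists_pow_eq_one_of_mem S hz
  induction k generalizing z with
  | zero => simp_all [one_mem]
  | succ k ih =>
    by_contra hzZ
    have h2 : z * z ∈ Subgroup.center G := by
      refine ih (mul_mem hz hz) (fun t ht => (hzc t ht).mul_left (hzc t ht)) ?_
      rw [← sq, ← pow_mul, ← pow_succ']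
      exact hk
    have hord : orderOf (z : G ⧸ Subgroup.center G) = 2 :=
      orderOf_two_iff.mpr ⟨by rw [← QuotientGroup.mk_mul]; exact mk_eq_one.mpr h2,
        fun h => hzZ (mk_eq_one.mp h)⟩
    obtain ⟨a, ha, b, hb, hab⟩ := c.sylow_not_comm S
    have hiso : ∀ q : G ⧸ Subgroup.center G,
        q * z * q⁻¹ ∈ S.mapSurjective (f := π) (QuotientGroup.mk'_surjective _) →
        q * z * q⁻¹ = z := by
      intro q hq
      obtain ⟨g, rfl⟩ := QuotientGroup.mk_surjective q
      change (g : G ⧸ Subgroup.center G) * z * (g : G ⧸ Subgroup.center G)⁻¹ ∈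
        ((S.mapSurjective (f := π) (QuotientGroup.mk'_surjective _) :
          Sylow 2 (G ⧸ Subgroup.center G)) : Subgroup (G ⧸ Subgroup.center G)) at hq
      rw [Sylow.coe_mapSurjective] at hq
      obtain ⟨s, hs, hse⟩ := hq
      have hgz : g * z * g⁻¹ ∈ S := by
        refine c.mem_of_mk_mem S (k := k + 1) ?_ hs ?_
        · rw [conj_pow, hk, mul_one, mul_inv_cancel]
        · rw [QuotientGroup.mk_mul, QuotientGroup.mk_mul, QuotientGroup.mk_inv]
          exact hse.symm
      rw [← QuotientGroup.mk_inv, ← QuotientGroup.mk_mul, ← QuotientGroup.mk_mul,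
        c.eq_of_conj_mem S ha hb hab hz hzc hzZ hgz]
    obtain ⟨N, hN, hNodd, hcomm⟩ := CfsgLib.ZStar.exists_normal_odd_of_no_fusion hord _ hiso
    rcases Subgroup.Normal.eq_bot_or_eq_top hN with rfl | rfl
    · refine hzZ (mk_eq_one.mp ?_)
      rw [← Subgroup.mem_bot, ← c.center_quotient, Subgroup.mem_center_iff]
      intro q
      have := hcomm q
      rw [Subgroup.mem_bot, mul_inv_eq_one, mul_inv_eq_iff_eq_mul] at this
      exact this.symm
    · rw [Subgroup.card_top] at hNodd
      have := orderOf_dvd_natCard (z : G ⧸ Subgroup.center G)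
      rw [hord] at this
      exact Nat.not_even_iff_odd.mpr hNodd (even_iff_two_dvd.mpr this)

/-- `C_S(w)` is abelian for `w ∈ S` outside the centre. -/
theorem commute_of_commute_mem (S : Sylow 2 G) {w a b : G} (hw : w ∈ S) (hwZ : w ∉ Subgroup.center G)
    (ha : a ∈ S) (hb : b ∈ S) (hwa : Commute w a) (hwb : Commute w b) : Commute a b := by
  by_contra hab
  have hT : IsPGroup 2 ((S : Subgroup G) ⊓ Subgroup.centralizer ({w} : Set G) : Subgroup G) :=
    S.2.to_le inf_le_left
  obtain ⟨P, hTP, hPC⟩ := c.exists_sylow_le_centralizer ⟨hwZ, a, b, hwa, hwb, hab⟩ hT inf_le_right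
    ⟨ha, Subgroup.mem_centralizer_singleton_iff.mpr hwa.eq.symm⟩
    ⟨hb, Subgroup.mem_centralizer_singleton_iff.mpr hwb.eq.symm⟩ hab
  exact hwZ (c.center_sylow_le P (hTP ⟨hw, Subgroup.mem_centralizer_singleton_iff.mpr rfl⟩)
    fun t ht => (Subgroup.mem_centralizer_singleton_iff.mp (hPC ht)).symm)

omit [Finite G] in
/-- If some element commutes with `u` modulo the centre but not in `G`, then `C(u)` is abelian. -/
theorem commute_of_witness {u v : G}
    (hv : Commute (v : G ⧸ Subgroup.center G) (u : G ⧸ Subgroup.center G))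
    (hne : ¬ Commute u v) {a b : G} (ha : Commute u a) (hb : Commute u b) : Commute a b := by
  set H := (Subgroup.centralizer ({(u : G ⧸ Subgroup.center G)} : Set _)).comap π with hH
  have hmem : ∀ g, g ∈ H ↔
      Commute (g : G ⧸ Subgroup.center G) (u : G ⧸ Subgroup.center G) := fun g =>
    Subgroup.mem_centralizer_singleton_iff
  have htop : H ≠ ⊤ := by
    intro h
    refine hne (mul_center_comm (mk_eq_one.mp ?_) v)
    rw [← Subgroup.mem_bot, ← c.center_quotient, Subgroup.mem_center_iff]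
    intro q
    obtain ⟨g, rfl⟩ := QuotientGroup.mk_surjective q
    exact (hmem g).mp (h ▸ Subgroup.mem_top g)
  exact c.mn.proper H htop u ((hmem u).mpr (Commute.refl _)) ⟨v, (hmem v).mpr hv, hne⟩
    a ((hmem a).mpr (commute_mk_of_commute ha).symm) b ((hmem b).mpr (commute_mk_of_commute hb).symm)
    ha hb

end OddCtx

end CfsgLib.MinNonCA98
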