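import Mathlib
import Cfsg.Agent.MinNonCA98.OddCenterBasic
import Cfsg.Agent.Transfer.ThompsonTransfer
import Cfsg.Agent.PGroup.Normal

/-!
# The centre has odd order: the shape of a Sylow 2-subgroup modulo the centre

Either every square in `S` is central, or `S` has an abelian subgroup of index 2 containing `S ∩ Z`
whose elements are inverted modulo the centre by the elements outside; in that case the image of
that subgroup is cyclic.
-/

set_option autoImplicit false
set_option linter.style.haveILetI false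
set_option linter.unusedSectionVars false

open scoped Pointwise

namespace CfsgLib.MinNonCA98

open CfsgLib.StronglyEmbedded (orderOf_two_iff)

/-- An abelian subgroup `Y` of a 2-group `P` with an element of order at least 4, inverted by all
the involutions in `P \ Y`, which are all the elements outside it. -/
structure DShape {Q : Type*} [Group Q] (P Y : Subgroup Q) : Prop where
  le : Y ≤ P
  comm : ∀ a ∈ Y, ∀ b ∈ Y, Commute a b
  big : ∃ x ∈ Y, x * x ≠ 1
  proper : ∃ s ∈ P, s ∉ Y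
  out : ∀ s ∈ P, s ∉ Y → s * s = 1 ∧ ∀ y ∈ Y, s * y * s⁻¹ = y⁻¹

namespace DShape

variable {Q : Type*} [Group Q] {P Y : Subgroup Q}

theorem mul_mem_of_not_mem (h : DShape P Y) {s t : Q} (hs : s ∈ P) (hsY : s ∉ Y) (ht : t ∈ P)
    (htY : t ∉ Y) : s * t ∈ Y := by
  by_contra hst
  obtain ⟨x, hx, hx2⟩ := h.big
  have h1 := (h.out _ (mul_mem hs ht) hst).2 x hx
  have h2 : s * t * x * (s * t)⁻¹ = x := by
    rw [show s * t * x * (s * t)⁻¹ = s * (t * x * t⁻¹) * s⁻¹ by group, (h.out t ht htY).2 x hx,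
      (h.out s hs hsY).2 _ (inv_mem hx), inv_inv]
  rw [h2] at h1
  exact hx2 (mul_eq_one_iff_eq_inv.mpr h1)

theorem relIndex_eq_two (h : DShape P Y) : Y.relIndex P = 2 := by
  rw [Subgroup.relIndex, Subgroup.index_eq_two_iff]
  obtain ⟨s, hs, hsY⟩ := h.proper
  refine ⟨⟨s, hs⟩, fun b => ?_⟩
  rw [Subgroup.mem_subgroupOf, Subgroup.mem_subgroupOf, Subgroup.coe_mul]
  by_cases hb : (b : Q) ∈ Y
  · exact Or.inr ⟨hb, fun h' => hsY (by simpa using mul_mem (inv_mem hb) h')⟩
  · exact Or.inl ⟨h.mul_mem_of_not_mem b.2 hb hs hsY, hb⟩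

/-- The central elements of `P` lie in `Y`. -/
theorem mem_of_central (h : DShape P Y) {z : Q} (hz : z ∈ P) (hc : ∀ p ∈ P, Commute z p) :
    z ∈ Y := by
  by_contra hzY
  obtain ⟨x, hx, hx2⟩ := h.big
  have h1 := (h.out z hz hzY).2 x hx
  rw [(hc x (h.le hx)).eq, mul_inv_cancel_right] at h1
  exact hx2 (mul_eq_one_iff_eq_inv.mpr h1)

/-- The involutions of `Y` are central in `P`. -/
theorem central_of_sq (h : DShape P Y) {z : Q} (hz : z ∈ Y) (h2 : z * z = 1) {p : Q} (hp : p ∈ P) :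
    Commute z p := by
  by_cases hpY : p ∈ Y
  · exact h.comm z hz p hpY
  · have h1 := (h.out p hp hpY).2 z hz
    rw [inv_eq_of_mul_eq_one_right h2] at h1
    exact (mul_inv_eq_iff_eq_mul.mp h1).symm

end DShape

variable {G : Type*} [Group G]

namespace OddCenter

/-- The image of the centraliser of `u` in the central quotient. -/
def cen (u : G) : Subgroup (G ⧸ Subgroup.center G) :=
  (Subgroup.centralizer ({u} : Set G)).map (QuotientGroup.mk' (Subgroup.center G))

theorem mk_mem_cen {u g : G} : (g : G ⧸ Subgroup.center G) ∈ cen u ↔ Commute u g := by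
  constructor
  · rintro ⟨k, hk, hkg⟩
    exact ((commute_iff_of_mk_eq hkg).mp (Subgroup.mem_centralizer_singleton_iff.mp hk)).symm
  · exact fun h => ⟨g, Subgroup.mem_centralizer_singleton_iff.mpr h.eq.symm, rfl⟩

theorem commute_of_mem_cen {u : G} {q : G ⧸ Subgroup.center G} (h : q ∈ cen u) :
    Commute q (u : G ⧸ Subgroup.center G) := by
  obtain ⟨g, rfl⟩ := QuotientGroup.mk_surjective q
  exact (commute_mk_of_commute (mk_mem_cen.mp h)).symm

theorem cen_eq_of_mk_eq {u v : G} (h : (u : G ⧸ Subgroup.center G) = v) : cen u = cen v := by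
  ext q
  obtain ⟨g, rfl⟩ := QuotientGroup.mk_surjective q
  rw [mk_mem_cen, mk_mem_cen, commute_iff_of_mk_eq h]

/-- `cen u` is normalised by the centraliser of the coset of `u`. -/
theorem conj_mem_cen {u : G} {q a : G ⧸ Subgroup.center G}
    (hq : Commute q (u : G ⧸ Subgroup.center G)) (ha : a ∈ cen u) : q * a * q⁻¹ ∈ cen u := by
  obtain ⟨g, rfl⟩ := QuotientGroup.mk_surjective q
  obtain ⟨b, rfl⟩ := QuotientGroup.mk_surjective a
  rw [← QuotientGroup.mk_inv, ← QuotientGroup.mk_mul, ← QuotientGroup.mk_mul, mk_mem_cen]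
  have h := (mk_mem_cen.mp ha).map (MulAut.conj g).toMonoidHom
  refine (commute_iff_of_mk_eq ?_).mp h
  show ((g * u * g⁻¹ : G) : G ⧸ Subgroup.center G) = u
  rw [QuotientGroup.mk_mul, QuotientGroup.mk_mul, QuotientGroup.mk_inv, hq.eq, mul_inv_cancel_right]

/-- Squares of elements commuting with an involution modulo the centre commute with it. -/
theorem sq_mem_cen {u : G} (hu : (u : G ⧸ Subgroup.center G) * u = 1) {q : G ⧸ Subgroup.center G}
    (hq : Commute q (u : G ⧸ Subgroup.center G)) : q * q ∈ cen u := by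
  obtain ⟨g, rfl⟩ := QuotientGroup.mk_surjective q
  rw [← QuotientGroup.mk_mul, mk_mem_cen]
  set d := g * u * g⁻¹ * u⁻¹ with hd
  have hd' : ∀ x, Commute d x := mul_center_comm (commute_mk_iff.mp hq)
  have e : g * u * g⁻¹ = d * u := by rw [hd]; group
  have h2 : d * d = 1 := by
    have h1 : (g * u * g⁻¹) * (g * u * g⁻¹) = u * u := by
      rw [show g * u * g⁻¹ * (g * u * g⁻¹) = g * (u * u) * g⁻¹ by group]
      have : Commute g (u * u) :=
        (mul_center_comm (mk_eq_one.mp (by rw [QuotientGroup.mk_mul]; exact hu)) g).symm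
      rw [this.eq, mul_inv_cancel_right]
    rw [e, show d * u * (d * u) = d * (u * d) * u by group, ← (hd' u).eq,
      show d * (d * u) * u = d * d * (u * u) by group] at h1
    exact mul_eq_right.mp h1
  refine (mul_inv_eq_iff_eq_mul.mp ?_ : g * g * u = u * (g * g)).symm
  calc g * g * u * (g * g)⁻¹ = g * (g * u * g⁻¹) * g⁻¹ := by group
    _ = g * (d * u) * g⁻¹ := by rw [e]
    _ = d * (g * u * g⁻¹) := by rw [← mul_assoc g, (hd' g).symm.eq]; group
    _ = u := by rw [e, ← mul_assoc, h2, one_mul]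

theorem exists_pow_sq_mem_center {g : G} {k : ℕ} (hk : g ^ 2 ^ k = 1)
    (hg : g ∉ Subgroup.center G) :
    ∃ j : ℕ, g ^ j ∉ Subgroup.center G ∧ g ^ j * g ^ j ∈ Subgroup.center G := by
  induction k generalizing g with
  | zero => exact absurd (by simp_all [one_mem]) hg
  | succ k ih =>
    by_cases h : g * g ∈ Subgroup.center G
    · exact ⟨1, by simpa using hg, by simpa using h⟩
    · obtain ⟨j, hj⟩ := ih (by rw [← sq, ← pow_mul, ← pow_succ']; exact hk) h
      rw [← sq, ← pow_mul] at hj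
      exact ⟨2 * j, hj⟩

theorem mk_commute_of_inverts {s a : G} (hinv : s * a * s⁻¹ * a ∈ Subgroup.center G)
    (h2 : a * a ∈ Subgroup.center G) :
    Commute (s : G ⧸ Subgroup.center G) (a : G ⧸ Subgroup.center G) := by
  rw [commute_mk_iff, show s * a * s⁻¹ * a⁻¹ = (s * a * s⁻¹ * a) * (a * a)⁻¹ by group]
  exact mul_mem hinv (inv_mem h2)

/-- The Sylow 2-subgroup of the quotient coming from `S`. -/
noncomputable def sylowQ [Finite G] (S : Sylow 2 G) : Sylow 2 (G ⧸ Subgroup.center G) :=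
  S.mapSurjective (f := QuotientGroup.mk' (Subgroup.center G)) (QuotientGroup.mk'_surjective _)

end OddCenter

namespace OddCtx

open OddCenter

local notation "π" => QuotientGroup.mk' (Subgroup.center G)

variable (c : OddCtx G) [Finite G]
include c

/-- In `S`, an element whose square is not central commutes with everything that commutes with it
modulo the centre. -/
theorem commute_of_commute_mk (S : Sylow 2 G) {x z : G} (hx : x ∈ S)
    (hx2 : x * x ∉ Subgroup.center G) (hz : z ∈ S)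
    (hm : Commute (x : G ⧸ Subgroup.center G) (z : G ⧸ Subgroup.center G)) : Commute x z := by
  obtain ⟨k, hk⟩ := exists_pow_eq_one_of_mem S hz
  induction k generalizing z with
  | zero =>
    simp only [pow_zero, pow_one] at hk
    subst hk
    exact Commute.one_right x
  | succ k ih =>
    by_cases hzZ : z ∈ Subgroup.center G
    · exact (mul_center_comm hzZ x).symm
    have hm' : Commute (x : G ⧸ Subgroup.center G) ((z * z : G) : G ⧸ Subgroup.center G) := by
      rw [QuotientGroup.mk_mul]; exact hm.mul_right hm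
    have hxz2 : Commute x (z * z) :=
      ih (mul_mem hz hz) hm' (by rw [← sq, ← pow_mul, ← pow_succ']; exact hk)
    by_cases hz2 : z * z ∈ Subgroup.center G
    · set d := x * z * x⁻¹ * z⁻¹ with hd
      have hd' : ∀ y, Commute d y := mul_center_comm (commute_mk_iff.mp hm)
      have e : x * z * x⁻¹ = d * z := by rw [hd]; group
      have h2 : d * d = 1 := by
        have h1 : (x * z * x⁻¹) * (x * z * x⁻¹) = z * z := by
          rw [show x * z * x⁻¹ * (x * z * x⁻¹) = x * (z * z) * x⁻¹ by group, hxz2.eq,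
            mul_inv_cancel_right]
        rw [e, show d * z * (d * z) = d * (z * d) * z by group, ← (hd' z).eq,
          show d * (d * z) * z = d * d * (z * z) by group] at h1
        exact mul_eq_right.mp h1
      have hx2z : Commute (x * x) z := by
        refine (mul_inv_eq_iff_eq_mul.mp ?_ : x * x * z = z * (x * x))
        calc x * x * z * (x * x)⁻¹ = x * (x * z * x⁻¹) * x⁻¹ := by group
          _ = x * (d * z) * x⁻¹ := by rw [e]
          _ = d * (x * z * x⁻¹) := by rw [← mul_assoc x, (hd' x).symm.eq]; group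
          _ = z := by rw [e, ← mul_assoc, h2, one_mul]
      exact c.commute_of_commute_mem S (mul_mem hx hx) hx2 hx hz
        ((Commute.refl x).mul_left (Commute.refl x)) hx2z
    · exact c.commute_of_commute_mem S (mul_mem hz hz) hz2 hx hz hxz2.symm
        ((Commute.refl z).mul_left (Commute.refl z))

/-- The two shapes of a Sylow 2-subgroup modulo the centre. -/
theorem sylow_cases (S : Sylow 2 G) :
    (∀ s ∈ S, s * s ∈ Subgroup.center G) ∨
      ∃ A : Subgroup G, A ≤ S ∧ (∀ a ∈ A, ∀ b ∈ A, Commute a b) ∧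
        (∃ x ∈ A, x * x ∉ Subgroup.center G) ∧
        (∀ a ∈ A, a ∉ Subgroup.center G → ∀ s ∈ S, Commute a s → s ∈ A) ∧
        (∀ s ∈ S, s ∈ Subgroup.center G → s ∈ A) ∧
        ∀ s ∈ S, s ∉ A → s * s ∈ Subgroup.center G ∧
          ∀ a ∈ A, s * a * s⁻¹ * a ∈ Subgroup.center G := by
  by_cases hexp : ∀ s ∈ S, s * s ∈ Subgroup.center G
  · exact Or.inl hexp
  push Not at hexp
  obtain ⟨x, hx, hx2⟩ := hexp
  right
  have hxZ : x ∉ Subgroup.center G := fun h => hx2 (mul_mem h h)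
  set A := (S : Subgroup G) ⊓ Subgroup.centralizer ({x} : Set G) with hA
  have hmem : ∀ a, a ∈ A ↔ a ∈ S ∧ Commute x a := fun a =>
    and_congr Iff.rfl (Subgroup.mem_centralizer_singleton_iff.trans
      ⟨fun h => h.symm, fun h => h.symm⟩)
  have hxA : x ∈ A := (hmem x).mpr ⟨hx, Commute.refl x⟩
  have hAcomm : ∀ a ∈ A, ∀ b ∈ A, Commute a b := fun a ha b hb =>
    c.commute_of_commute_mem S hx hxZ ((hmem a).mp ha).1 ((hmem b).mp hb).1
      ((hmem a).mp ha).2 ((hmem b).mp hb).2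
  have hAcl : ∀ a ∈ A, a ∉ Subgroup.center G → ∀ s ∈ S, Commute a s → s ∈ A :=
    fun a ha haZ s hs has => (hmem s).mpr ⟨hs, c.commute_of_commute_mem S ((hmem a).mp ha).1 haZ hx
      hs ((hmem a).mp ha).2.symm has⟩
  set N := (S : Subgroup G) ⊓ Subgroup.normalizer (A : Set G) with hN
  have hAN : A ≤ N := le_inf inf_le_left Subgroup.le_normalizer
  have hstep : ∀ s ∈ N, s ∉ A → s * s ∈ Subgroup.center G ∧
      ∀ a ∈ A, s * a * s⁻¹ * a ∈ Subgroup.center G := by
    intro s hs hsA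
    have hs2 : s * s ∈ Subgroup.center G := by
      by_contra hs2
      haveI : ((A.subgroupOf N).map ((π).subgroupMap N)).Normal :=
        (Subgroup.normal_subgroupOf_of_le_normalizer inf_le_right).map _
          (MonoidHom.subgroupMap_surjective _ _)
      have hne : (A.subgroupOf N).map ((π).subgroupMap N) ≠ ⊥ := by
        intro h
        have hmm : (π).subgroupMap N ⟨x, hAN hxA⟩ ∈ (A.subgroupOf N).map ((π).subgroupMap N) :=
          Subgroup.mem_map_of_mem _ hxA
        rw [h, Subgroup.mem_bot] at hmm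
        exact hxZ (mk_eq_one.mp (congrArg Subtype.val hmm))
      have hP : IsPGroup 2 (N.map π) := (S.2.to_le inf_le_left).map _
      obtain ⟨⟨q, hq⟩, hq1'⟩ :=
        Subgroup.ne_bot_iff_exists_ne_one.mp (CfsgLib.PGroup.inf_center_ne_bot hP _ hne)
      have hq1 : q ≠ 1 := fun e => hq1' (Subtype.ext e)
      obtain ⟨⟨⟨a, haN⟩, haA, rfl⟩, hqc⟩ := hq
      have haZ : a ∉ Subgroup.center G := fun h => hq1 (Subtype.ext (mk_eq_one.mpr h))
      have hsa : Commute (s : G ⧸ Subgroup.center G) (a : G ⧸ Subgroup.center G) :=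
        congrArg Subtype.val (Subgroup.mem_center_iff.mp hqc ((π).subgroupMap N ⟨s, hs⟩))
      exact hsA (hAcl a haA haZ s hs.1 (c.commute_of_commute_mk S hs.1 hs2 haN.1 hsa).symm)
    refine ⟨hs2, fun a ha => ?_⟩
    have hb : s * a * s⁻¹ ∈ A := (Subgroup.mem_normalizer_iff.mp hs.2 a).mp ha
    by_contra hab
    refine hsA (hAcl _ (mul_mem hb ha) hab s hs.1 ?_)
    have h2 : s * s * a = a * (s * s) := (mul_center_comm hs2 a).eq
    refine (mul_inv_eq_iff_eq_mul.mp ?_ : s * (s * a * s⁻¹ * a) = _).symm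
    calc s * (s * a * s⁻¹ * a) * s⁻¹ = (s * s * a) * (s * s)⁻¹ * (s * a * s⁻¹) := by group
      _ = a * (s * a * s⁻¹) := by rw [h2, mul_inv_cancel_right]
      _ = s * a * s⁻¹ * a := (hAcomm _ ha _ hb).eq
  have hNS : (S : Subgroup G) ≤ N := by
    by_contra hNS
    obtain ⟨g, hg, hgN⟩ := SetLike.exists_of_lt
      (CfsgLib.Alperin.lt_inf_normalizer S.2 (lt_of_le_not_ge inf_le_left hNS : N < S))
    have hy : g * x * g⁻¹ ∈ N := (Subgroup.mem_normalizer_iff.mp hg.2 x).mp (hAN hxA)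
    have hy2 : g * x * g⁻¹ * (g * x * g⁻¹) ∉ Subgroup.center G := by
      rw [show g * x * g⁻¹ * (g * x * g⁻¹) = g * (x * x) * g⁻¹ by group]
      exact fun h => hx2 (by
        have := Subgroup.instNormalCenter.conj_mem _ h g⁻¹
        simpa [mul_assoc] using this)
    have hyA : g * x * g⁻¹ ∈ A := by
      by_contra h
      exact hy2 (hstep _ hy h).1
    apply hgN
    refine ⟨hg.1, ?_⟩
    have hle : A.map (MulAut.conj g).toMonoidHom ≤ A := by
      rintro _ ⟨a, ha, rfl⟩
      refine hAcl _ hyA (fun h => hy2 (mul_mem h h)) _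
        (mul_mem (mul_mem hg.1 ((hmem a).mp ha).1) (inv_mem hg.1)) ?_
      exact ((hmem a).mp ha).2.map (MulAut.conj g).toMonoidHom
    have heq : A.map (MulAut.conj g).toMonoidHom = A :=
      Subgroup.eq_of_le_of_card_ge hle
        (le_of_eq (Nat.card_congr (A.equivMapOfInjective _ (MulAut.conj g).injective).toEquiv))
    refine Subgroup.mem_normalizer_iff.mpr fun a => ?_
    constructor
    · exact fun ha => hle ⟨a, ha, rfl⟩
    · intro ha
      rw [← heq] at ha
      obtain ⟨b, hb, hba⟩ := ha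
      rwa [← (MulAut.conj g).injective hba]
  exact ⟨A, inf_le_left, hAcomm, ⟨x, hxA, hx2⟩, hAcl,
    fun s hs hsZ => (hmem s).mpr ⟨hs, (mul_center_comm hsZ x).symm⟩,
    fun s hs hsA => hstep s (hNS hs) hsA⟩

/-- An involution of `S` modulo the centre has a partner with which it commutes only modulo the
centre. -/
theorem exists_witness (S : Sylow 2 G) {u : G} (hu : u ∈ S) (huZ : u ∉ Subgroup.center G)
    (hu2 : u * u ∈ Subgroup.center G) :
    ∃ v ∈ S, Commute (v : G ⧸ Subgroup.center G) (u : G ⧸ Subgroup.center G) ∧ ¬ Commute u v := by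
  rcases c.sylow_cases S with hE | ⟨A, hAS, hAc, ⟨x, hxA, hx2⟩, hcl, hZA, hout⟩
  · obtain ⟨v, hv, hne⟩ : ∃ v ∈ S, ¬ Commute u v := by
      by_contra h
      push Not at h
      exact huZ (c.center_sylow_le S hu h)
    refine ⟨v, hv, ?_, hne⟩
    have h1 : ∀ s ∈ S, (s : G ⧸ Subgroup.center G) * s = 1 := fun s hs => by
      rw [← QuotientGroup.mk_mul]; exact mk_eq_one.mpr (hE s hs)
    have h3 := h1 _ (mul_mem hv hu)
    rw [QuotientGroup.mk_mul] at h3
    show (v : G ⧸ Subgroup.center G) * u = u * v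
    calc (v : G ⧸ Subgroup.center G) * u
        = ((v : G ⧸ Subgroup.center G) * u)⁻¹ := (inv_eq_of_mul_eq_one_right h3).symm
      _ = _ := by rw [mul_inv_rev, inv_eq_of_mul_eq_one_right (h1 _ hu),
          inv_eq_of_mul_eq_one_right (h1 _ hv)]
  · by_cases huA : u ∈ A
    · obtain ⟨s, hs, hsA⟩ : ∃ s ∈ S, s ∉ A := by
        by_contra h
        push Not at h
        obtain ⟨a, ha, b, hb, hab⟩ := c.sylow_not_comm S
        exact hab (hAc a (h a ha) b (h b hb))
      exact ⟨s, hs, mk_commute_of_inverts ((hout s hs hsA).2 u huA) hu2,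
        fun h => hsA (hcl u huA huZ s hs h)⟩
    · obtain ⟨k, hk⟩ := exists_pow_eq_one_of_mem S (hAS hxA)
      obtain ⟨j, hjZ, hj2⟩ :=
        exists_pow_sq_mem_center hk fun h => hx2 (mul_mem h h)
      exact ⟨x ^ j, pow_mem (hAS hxA) j,
        (mk_commute_of_inverts ((hout u hu huA).2 _ (pow_mem hxA j)) hj2).symm,
        fun h => huA (hcl _ (pow_mem hxA j) hjZ u hu h.symm)⟩

theorem mem_sylowQ (S : Sylow 2 G) {q : G ⧸ Subgroup.center G} :
    q ∈ (sylowQ S : Subgroup (G ⧸ Subgroup.center G)) ↔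
      ∃ s ∈ S, (s : G ⧸ Subgroup.center G) = q := by
  rw [sylowQ, Sylow.coe_mapSurjective]
  exact Iff.rfl

theorem mk_mem_sylowQ (S : Sylow 2 G) {s : G} (hs : s ∈ S) :
    (s : G ⧸ Subgroup.center G) ∈ (sylowQ S : Subgroup (G ⧸ Subgroup.center G)) :=
  (c.mem_sylowQ S).mpr ⟨s, hs, rfl⟩

/-- Any 2-element of the quotient is conjugate into a given Sylow subgroup. -/
theorem exists_conj_mem_sylowQ (S : Sylow 2 G) {q : G ⧸ Subgroup.center G} {k : ℕ}
    (hq : q ^ 2 ^ k = 1) :
    ∃ g, g * q * g⁻¹ ∈ (sylowQ S : Subgroup (G ⧸ Subgroup.center G)) := by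
  obtain ⟨m, -, P₀, hP₀, hle, -⟩ :=
    exists_conj_sylow_ge (sylowQ S) le_top (isPGroup_zpowers hq) le_top
  exact ⟨m, (hP₀ q).mp (hle (Subgroup.mem_zpowers q))⟩

/-- Centralisers of elements which are involutions modulo the centre are abelian. -/
theorem commute_of_mk_involution {u : G} (hu : orderOf (u : G ⧸ Subgroup.center G) = 2) {a b : G}
    (ha : Commute u a) (hb : Commute u b) : Commute a b := by
  obtain ⟨S⟩ : Nonempty (Sylow 2 G) := inferInstance
  obtain ⟨q, hq⟩ := c.exists_conj_mem_sylowQ S (k := 1)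
    (by rw [pow_one, ← hu, pow_orderOf_eq_one])
  obtain ⟨g, rfl⟩ := QuotientGroup.mk_surjective q
  obtain ⟨s, hs, hse⟩ := (c.mem_sylowQ S).mp hq
  have hse' : (s : G ⧸ Subgroup.center G) = ((g * u * g⁻¹ : G) : G ⧸ Subgroup.center G) := by
    rw [hse]; simp
  obtain ⟨h2, h1⟩ := orderOf_two_iff.mp hu
  have hsZ : s ∉ Subgroup.center G := fun h => h1 (by
    have := mk_eq_one.mpr h
    rwa [hse, conj_eq_one_iff] at this)
  have hs2 : s * s ∈ Subgroup.center G := mk_eq_one.mp (by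
    rw [QuotientGroup.mk_mul, hse, conj_mul, h2, mul_one, mul_inv_cancel])
  obtain ⟨v, -, hv, hne⟩ := c.exists_witness S hs hsZ hs2
  have h := c.commute_of_witness hv hne
    ((commute_iff_of_mk_eq hse').mpr (ha.map (MulAut.conj g).toMonoidHom))
    ((commute_iff_of_mk_eq hse').mpr (hb.map (MulAut.conj g).toMonoidHom))
  have := h.map (MulAut.conj g⁻¹).toMonoidHom
  simpa [mul_assoc] using this

theorem cen_comm {u : G} (hu : orderOf (u : G ⧸ Subgroup.center G) = 2)
    {a b : G ⧸ Subgroup.center G} (ha : a ∈ cen u) (hb : b ∈ cen u) : Commute a b := by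
  obtain ⟨a, rfl⟩ := QuotientGroup.mk_surjective a
  obtain ⟨b, rfl⟩ := QuotientGroup.mk_surjective b
  exact commute_mk_of_commute (c.commute_of_mk_involution hu (mk_mem_cen.mp ha) (mk_mem_cen.mp hb))

/-- Elements of odd order commuting with an involution of the quotient lift to the centraliser of
its lift. -/
theorem mem_cen_of_odd {u : G} (hu : orderOf (u : G ⧸ Subgroup.center G) = 2)
    {o : G ⧸ Subgroup.center G} (ho : Odd (orderOf o))
    (hc : Commute o (u : G ⧸ Subgroup.center G)) : o ∈ cen u := by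
  obtain ⟨a, rfl, ha⟩ := exists_odd_lift o ho
  obtain ⟨v, hv, k, hk⟩ := exists_prime_pow_lift Nat.prime_two (u : G ⧸ Subgroup.center G) (a := 1)
    (by rw [pow_one, ← hu, pow_orderOf_eq_one])
  rw [mk_mem_cen, ← commute_iff_of_mk_eq hv]
  refine commute_of_coprime (hv ▸ hc.symm) ?_
  exact Nat.Coprime.of_dvd_right (orderOf_dvd_of_pow_eq_one hk)
    ((Nat.coprime_two_right.mpr ha).pow_right k)

/-- `P` meets `cen u` properly, for an involution `u` of `P`. -/
theorem exists_not_mem_cen (S : Sylow 2 G) {u : G}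
    (hu : orderOf (u : G ⧸ Subgroup.center G) = 2)
    (huP : (u : G ⧸ Subgroup.center G) ∈ (sylowQ S : Subgroup (G ⧸ Subgroup.center G))) :
    ∃ p ∈ (sylowQ S : Subgroup (G ⧸ Subgroup.center G)),
      Commute p (u : G ⧸ Subgroup.center G) ∧ p ∉ cen u := by
  obtain ⟨s, hs, hsu⟩ := (c.mem_sylowQ S).mp huP
  obtain ⟨h2, h1⟩ := orderOf_two_iff.mp hu
  obtain ⟨v, hv, hvc, hne⟩ := c.exists_witness S hs (fun h => h1 (hsu ▸ mk_eq_one.mpr h))
    (mk_eq_one.mp (by rw [QuotientGroup.mk_mul, hsu, h2]))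
  exact ⟨v, c.mk_mem_sylowQ S hv, hsu ▸ hvc,
    fun h => hne ((commute_iff_of_mk_eq hsu).mpr (mk_mem_cen.mp h))⟩

/-- The two shapes, in the quotient. -/
theorem sylowQ_cases (S : Sylow 2 G) :
    (∀ p ∈ (sylowQ S : Subgroup (G ⧸ Subgroup.center G)), p * p = 1) ∨
      ∃ Y, DShape (sylowQ S : Subgroup (G ⧸ Subgroup.center G)) Y ∧
        ∀ u : G, (u : G ⧸ Subgroup.center G) ∈ Y → (u : G ⧸ Subgroup.center G) ≠ 1 →
          ∀ p ∈ (sylowQ S : Subgroup (G ⧸ Subgroup.center G)), p ∈ cen u ↔ p ∈ Y := by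
  rcases c.sylow_cases S with hE | ⟨A, hAS, hAc, ⟨x, hxA, hx2⟩, hcl, hZA, hout⟩
  · left
    intro p hp
    obtain ⟨s, hs, rfl⟩ := (c.mem_sylowQ S).mp hp
    rw [← QuotientGroup.mk_mul]
    exact mk_eq_one.mpr (hE s hs)
  · right
    have hback : ∀ s ∈ S, (s : G ⧸ Subgroup.center G) ∈ A.map π → s ∈ A := by
      rintro s hs ⟨a, ha, hae⟩
      have := mul_mem ha (hZA (a⁻¹ * s) (mul_mem (inv_mem (hAS ha)) hs) (QuotientGroup.eq.mp hae))
      rwa [mul_inv_cancel_left] at this
    refine ⟨A.map π, ⟨?_, ?_, ?_, ?_, ?_⟩, ?_⟩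
    · rintro _ ⟨a, ha, rfl⟩
      exact c.mk_mem_sylowQ S (hAS ha)
    · rintro _ ⟨a, ha, rfl⟩ _ ⟨b, hb, rfl⟩
      exact (hAc a ha b hb).map π
    · exact ⟨π x, Subgroup.mem_map_of_mem _ hxA, fun h => hx2 (mk_eq_one.mp (by simpa using h))⟩
    · obtain ⟨a, ha, b, hb, hab⟩ := c.sylow_not_comm S
      by_contra h
      push Not at h
      exact hab (hAc a (hback a ha (h _ (c.mk_mem_sylowQ S ha))) b
        (hback b hb (h _ (c.mk_mem_sylowQ S hb))))
    · intro p hp hpA
      obtain ⟨s, hs, rfl⟩ := (c.mem_sylowQ S).mp hp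
      obtain ⟨h1, h2⟩ := hout s hs fun h => hpA (Subgroup.mem_map_of_mem _ h)
      refine ⟨by rw [← QuotientGroup.mk_mul]; exact mk_eq_one.mpr h1, ?_⟩
      rintro _ ⟨a, ha, rfl⟩
      have := mk_eq_one.mpr (h2 a ha)
      rw [QuotientGroup.mk_mul, QuotientGroup.mk_mul, QuotientGroup.mk_mul,
        QuotientGroup.mk_inv] at this
      exact mul_eq_one_iff_eq_inv.mp this
    · rintro u ⟨a, ha, hau⟩ hu1 p hp
      obtain ⟨s, hs, rfl⟩ := (c.mem_sylowQ S).mp hp
      rw [mk_mem_cen, ← commute_iff_of_mk_eq hau]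
      exact ⟨fun h => Subgroup.mem_map_of_mem _
          (hcl a ha (fun hz => hu1 (hau ▸ mk_eq_one.mpr hz)) s hs h),
        fun h => hAc a ha s (hback s hs h)⟩

/-- The centraliser of a central involution `u` of `P` is `P * cen u`. -/
theorem exists_decomp (S : Sylow 2 G) {u : G} (hu : orderOf (u : G ⧸ Subgroup.center G) = 2)
    (huc : ∀ p ∈ (sylowQ S : Subgroup (G ⧸ Subgroup.center G)),
      Commute p (u : G ⧸ Subgroup.center G))
    {q : G ⧸ Subgroup.center G} (hq : Commute q (u : G ⧸ Subgroup.center G)) :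
    ∃ p ∈ (sylowQ S : Subgroup (G ⧸ Subgroup.center G)), ∃ o ∈ cen u, q = p * o := by
  set C := Subgroup.centralizer ({(u : G ⧸ Subgroup.center G)} : Set _) with hC
  have hmem : ∀ r, r ∈ C ↔ Commute r (u : G ⧸ Subgroup.center G) := fun r =>
    Subgroup.mem_centralizer_singleton_iff
  have hPC : (sylowQ S : Subgroup (G ⧸ Subgroup.center G)) ≤ C := fun p hp =>
    (hmem p).mpr (huc p hp)
  set D := (cen u).subgroupOf C with hD
  haveI : D.Normal := ⟨fun a ha g => conj_mem_cen ((hmem _).mp g.2) ha⟩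
  have hD2 : IsPGroup 2 (C ⧸ D) := by
    intro r
    obtain ⟨g, rfl⟩ := QuotientGroup.mk_surjective r
    refine ⟨1, ?_⟩
    rw [pow_one, sq, ← QuotientGroup.mk_mul, QuotientGroup.eq_one_iff]
    exact sq_mem_cen (orderOf_two_iff.mp hu).1 ((hmem _).mp g.2)
  set J := D ⊔ ((sylowQ S).subtype hPC : Subgroup C) with hJ
  have hJtop : J = ⊤ := by
    rw [← Subgroup.index_eq_one]
    obtain ⟨k, hk⟩ := IsPGroup.iff_card.mp hD2
    have h1 : J.index ∣ 2 ^ k := hk ▸ Subgroup.index_eq_card D ▸ Subgroup.index_dvd_of_le le_sup_left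
    have h2 : J.index ∣ ((sylowQ S).subtype hPC : Subgroup C).index :=
      Subgroup.index_dvd_of_le le_sup_right
    refine Nat.eq_one_of_dvd_coprimes (k := J.index) (Nat.Coprime.pow_left k ?_) h1 h2
    exact Nat.prime_two.coprime_iff_not_dvd.mpr ((sylowQ S).subtype hPC).not_dvd_index
  have hmemJ : (⟨q, (hmem q).mpr hq⟩ : C)⁻¹ ∈ J := hJtop ▸ Subgroup.mem_top _
  obtain ⟨d, hd, p, hp, hdp⟩ := Subgroup.mem_sup_of_normal_left.mp hmemJ
  refine ⟨(p : G ⧸ Subgroup.center G)⁻¹, inv_mem hp, (d : G ⧸ Subgroup.center G)⁻¹, inv_mem hd, ?_⟩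
  have := congrArg Subtype.val hdp
  simp only [Subgroup.coe_mul, Subgroup.coe_inv] at this
  rw [← mul_inv_rev, this, inv_inv]

theorem index_ne_two (N : Subgroup (G ⧸ Subgroup.center G)) (hN : N.Normal) : N.index ≠ 2 := by
  haveI := c.simple
  intro h2
  rcases Subgroup.Normal.eq_bot_or_eq_top hN with rfl | rfl
  · rw [Subgroup.index_bot] at h2
    haveI : Fact (Nat.Prime 2) := ⟨Nat.prime_two⟩
    obtain ⟨a, b, hab⟩ := c.exists_not_commute
    haveI : IsCyclic (G ⧸ Subgroup.center G) := isCyclic_of_prime_card h2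
    letI := IsCyclic.commGroup (α := G ⧸ Subgroup.center G)
    exact hab (mul_comm a b)
  · rw [Subgroup.index_top] at h2
    omega

/-- In the dihedral shape, an involution outside `Y` fuses into `Y`. -/
theorem exists_conj_mem_of_dShape (S : Sylow 2 G) {Y : Subgroup (G ⧸ Subgroup.center G)}
    (hY : DShape (sylowQ S : Subgroup (G ⧸ Subgroup.center G)) Y) {s : G ⧸ Subgroup.center G}
    (hs : s ∈ (sylowQ S : Subgroup (G ⧸ Subgroup.center G))) (hsY : s ∉ Y) :
    ∃ g, g * s * g⁻¹ ∈ Y := by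
  have hord : orderOf s = 2 :=
    orderOf_two_iff.mpr ⟨(hY.out s hs hsY).1, fun e => hsY (e ▸ one_mem Y)⟩
  rcases CfsgLib.Transfer.thompsonTransferLemma (sylowQ S) Y hY.le hY.relIndex_eq_two s hord hs
    hsY with ⟨N, hN, hN2, -⟩ | h
  · exact absurd hN2 (c.index_ne_two N hN)
  · exact h

/-- `Y` has only one involution. -/
theorem involution_unique (S : Sylow 2 G) {Y : Subgroup (G ⧸ Subgroup.center G)}
    (hY : DShape (sylowQ S : Subgroup (G ⧸ Subgroup.center G)) Y)
    (hcen : ∀ u : G, (u : G ⧸ Subgroup.center G) ∈ Y → (u : G ⧸ Subgroup.center G) ≠ 1 →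
      ∀ p ∈ (sylowQ S : Subgroup (G ⧸ Subgroup.center G)), p ∈ cen u ↔ p ∈ Y)
    {w₁ w₂ : G ⧸ Subgroup.center G} (h₁ : w₁ ∈ Y) (h₁' : orderOf w₁ = 2) (h₂ : w₂ ∈ Y)
    (h₂' : orderOf w₂ = 2) : w₁ = w₂ := by
  by_contra hne
  set P := (sylowQ S : Subgroup (G ⧸ Subgroup.center G)) with hP
  obtain ⟨s, hs, hsY⟩ := hY.proper
  obtain ⟨g, hg⟩ := c.exists_conj_mem_of_dShape S hY hs hsY
  set w := g * s * g⁻¹ with hw
  have hw2 : w * w = 1 := by
    rw [hw, conj_mul, (hY.out s hs hsY).1, mul_one, mul_inv_cancel]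
  have hPw : P ≤ Subgroup.centralizer ({w} : Set _) := fun p hp =>
    Subgroup.mem_centralizer_singleton_iff.mpr (hY.central_of_sq hg hw2 hp).symm
  set R := P ⊓ Subgroup.centralizer ({s} : Set _) with hR
  have hR2 : IsPGroup 2 (R.map (MulAut.conj g).toMonoidHom) :=
    ((sylowQ S).2.to_le inf_le_left).map _
  have hRle : R.map (MulAut.conj g).toMonoidHom ≤ Subgroup.centralizer ({w} : Set _) := by
    rintro _ ⟨r, hr, rfl⟩
    exact Subgroup.mem_centralizer_singleton_iff.mpr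
      ((show Commute r s from Subgroup.mem_centralizer_singleton_iff.mp hr.2).map
        (MulAut.conj g).toMonoidHom).eq
  obtain ⟨m, hm, P₀, hP₀, hRP₀, -⟩ := exists_conj_sylow_ge (sylowQ S) hPw hR2 hRle
  set g₁ := m * g with hg₁
  have hmap : ∀ r ∈ R, g₁ * r * g₁⁻¹ ∈ P := by
    intro r hr
    have := (hP₀ _).mp (hRP₀ ⟨r, hr, rfl⟩)
    show g₁ * r * g₁⁻¹ ∈ sylowQ S
    simpa [hg₁, mul_assoc] using this
  have hs1 : g₁ * s * g₁⁻¹ = w := by
    have hmw : m * w = w * m := Subgroup.mem_centralizer_singleton_iff.mp hm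
    rw [hg₁, show m * g * s * (m * g)⁻¹ = m * (g * s * g⁻¹) * m⁻¹ by group, ← hw, hmw,
      mul_inv_cancel_right]
  obtain ⟨u, huY, hu2, huY'⟩ : ∃ u ∈ Y, orderOf u = 2 ∧ g₁ * u * g₁⁻¹ ∈ Y := by
    have hR' : ∀ v ∈ Y, v * v = 1 → v ∈ R := fun v hv hv2 =>
      ⟨hY.le hv, Subgroup.mem_centralizer_singleton_iff.mpr (hY.central_of_sq hv hv2 hs)⟩
    obtain ⟨e₁, -⟩ := orderOf_two_iff.mp h₁'
    obtain ⟨e₂, -⟩ := orderOf_two_iff.mp h₂'
    by_cases i₁ : g₁ * w₁ * g₁⁻¹ ∈ Y
    · exact ⟨w₁, h₁, h₁', i₁⟩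
    by_cases i₂ : g₁ * w₂ * g₁⁻¹ ∈ Y
    · exact ⟨w₂, h₂, h₂', i₂⟩
    refine ⟨w₁ * w₂, mul_mem h₁ h₂, orderOf_two_iff.mpr ⟨?_, ?_⟩, ?_⟩
    · calc w₁ * w₂ * (w₁ * w₂) = w₁ * (w₂ * w₁) * w₂ := by group
        _ = 1 := by rw [(hY.comm w₂ h₂ w₁ h₁).eq, ← mul_assoc w₁, e₁, one_mul, e₂]
    · intro e
      exact hne ((eq_inv_of_mul_eq_one_left e).trans (inv_eq_of_mul_eq_one_right e₂))
    · have := hY.mul_mem_of_not_mem (hmap _ (hR' _ h₁ e₁)) i₁ (hmap _ (hR' _ h₂ e₂)) i₂
      simpa [mul_assoc] using this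
  obtain ⟨eu, eu1⟩ := orderOf_two_iff.mp hu2
  obtain ⟨u', rfl⟩ := QuotientGroup.mk_surjective u
  set Pc : Sylow 2 (G ⧸ Subgroup.center G) := (MulAut.conj g₁⁻¹) • sylowQ S with hPc
  have hPcmem : ∀ p ∈ P, g₁⁻¹ * p * g₁ ∈ (Pc : Subgroup (G ⧸ Subgroup.center G)) := fun p hp =>
    ⟨p, hp, by simp [MulAut.smul_def]⟩
  have hPcle : (Pc : Subgroup (G ⧸ Subgroup.center G)) ≤
      Subgroup.centralizer ({(u' : G ⧸ Subgroup.center G)} : Set _) := by
    intro p hp
    change p ∈ MulAut.conj g₁⁻¹ • P at hp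
    obtain ⟨t, ht, rfl⟩ := hp
    have h2' : g₁ * (u' : G ⧸ Subgroup.center G) * g₁⁻¹ *
        (g₁ * (u' : G ⧸ Subgroup.center G) * g₁⁻¹) = 1 := by
      rw [conj_mul, eu, mul_one, mul_inv_cancel]
    have := ((hY.central_of_sq huY' h2' ht).symm).map (MulAut.conj g₁⁻¹).toMonoidHom
    refine Subgroup.mem_centralizer_singleton_iff.mpr ?_
    simpa [mul_assoc, MulAut.smul_def] using this.eq
  have hPu : P ≤ Subgroup.centralizer ({(u' : G ⧸ Subgroup.center G)} : Set _) := fun p hp =>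
    Subgroup.mem_centralizer_singleton_iff.mpr (hY.central_of_sq huY eu hp).symm
  obtain ⟨m', hm', P₁, hP₁, hPcP₁, -⟩ := exists_conj_sylow_ge (sylowQ S) hPu Pc.2 hPcle
  obtain ⟨p, hp, o, ho, rfl⟩ := c.exists_decomp S hu2
    (fun p hp => (hY.central_of_sq huY eu hp).symm) (Subgroup.mem_centralizer_singleton_iff.mp hm')
  set n := o * g₁⁻¹ with hn
  have hnP : ∀ t ∈ P, n * t * n⁻¹ ∈ P := by
    intro t ht
    have h := mul_mem (mul_mem (inv_mem hp) ((hP₁ _).mp (hPcP₁ (hPcmem t ht)))) hp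
    simpa [hn, mul_assoc] using h
  have hnN : n ∈ Subgroup.normalizer (P : Set (G ⧸ Subgroup.center G)) := by
    have hle : P.map (MulAut.conj n).toMonoidHom ≤ P := by
      rintro _ ⟨t, ht, rfl⟩; exact hnP t ht
    have heq : P.map (MulAut.conj n).toMonoidHom = P :=
      Subgroup.eq_of_le_of_card_ge hle
        (le_of_eq (Nat.card_congr (P.equivMapOfInjective _ (MulAut.conj n).injective).toEquiv))
    refine Subgroup.mem_normalizer_iff.mpr fun a => ?_
    constructor
    · exact fun ha => hle ⟨a, ha, rfl⟩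
    · intro ha
      rw [← heq] at ha
      obtain ⟨b, hb, hba⟩ := ha
      rwa [← (MulAut.conj n).injective hba]
  have hcentral : ∀ t ∈ P, Commute (n * w * n⁻¹) t := by
    intro t ht
    have ht' : n⁻¹ * t * n ∈ P := by
      have := (Subgroup.mem_normalizer_iff.mp (inv_mem hnN) t).mp ht
      rwa [inv_inv] at this
    have := (hY.central_of_sq hg hw2 ht').map (MulAut.conj n).toMonoidHom
    simpa [mul_assoc] using this
  have hin : n * w * n⁻¹ ∈ Y := hY.mem_of_central (hnP w (hY.le hg)) hcentral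
  have hval : n * w * n⁻¹ = o * s * o⁻¹ := by rw [← hs1, hn]; group
  rw [hval] at hin
  have hc2 : Commute o (o * s * o⁻¹) :=
    c.cen_comm hu2 ho ((hcen u' huY eu1 _ (hY.le hin)).mpr hin)
  have hfix : o * s * o⁻¹ = s := by
    have := hc2.eq
    calc o * s * o⁻¹ = o⁻¹ * (o * (o * s * o⁻¹)) := by group
      _ = o⁻¹ * (o * s * o⁻¹ * o) := by rw [this]
      _ = s := by group
  exact hsY (hfix ▸ hin)

end OddCtx

end CfsgLib.MinNonCA98
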