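import Mathlib
import Cfsg.Agent.MinNonCA98.OddCenterShape
import Cfsg.Agent.S0222
import Cfsg.Agent.S0206
import Cfsg.Agent.S1137
import Cfsg.Agent.S1141
import Cfsg.Agent.S2086
import Cfsg.Agent.ClassSizesPSL2.Model
import Cfsg.Agent.FusionTwo.Common

/-!
# The centre has odd order: strongly embedded subgroups

No element of odd order outside the centre centralises a Sylow 2-subgroup, and a Sylow 2-subgroup
modulo the centre is dihedral (possibly a four group).
-/

set_option autoImplicit false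
set_option linter.style.haveILetI false
set_option linter.unusedSectionVars false

open scoped Pointwise

namespace CfsgLib.MinNonCA98

open CfsgLib.StronglyEmbedded (orderOf_two_iff)

/-- A cyclic subgroup `Y` of index two in the 2-group `P`, inverted by the involutions outside. -/
structure Di {Q : Type*} [Group Q] (P Y : Subgroup Q) : Prop where
  le : Y ≤ P
  cyclic : IsCyclic Y
  nontriv : ∃ w ∈ Y, orderOf w = 2
  proper : ∃ s ∈ P, s ∉ Y
  mul : ∀ s ∈ P, ∀ t ∈ P, s ∉ Y → t ∉ Y → s * t ∈ Y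
  out : ∀ s ∈ P, s ∉ Y → s * s = 1 ∧ ∀ y ∈ Y, s * y * s⁻¹ = y⁻¹

namespace Di

variable {Q : Type*} [Group Q] {P Y : Subgroup Q}

theorem comm (h : Di P Y) {a b : Q} (ha : a ∈ Y) (hb : b ∈ Y) : Commute a b := by
  haveI := h.cyclic
  letI := IsCyclic.commGroup (α := Y)
  exact congrArg Subtype.val (mul_comm (⟨a, ha⟩ : Y) ⟨b, hb⟩)

theorem relIndex_eq_two (h : Di P Y) : Y.relIndex P = 2 := by
  rw [Subgroup.relIndex, Subgroup.index_eq_two_iff]
  obtain ⟨s, hs, hsY⟩ := h.proper
  refine ⟨⟨s, hs⟩, fun b => ?_⟩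
  rw [Subgroup.mem_subgroupOf, Subgroup.mem_subgroupOf, Subgroup.coe_mul]
  by_cases hb : (b : Q) ∈ Y
  · exact Or.inr ⟨hb, fun h' => hsY (by simpa using mul_mem (inv_mem hb) h')⟩
  · exact Or.inl ⟨h.mul _ b.2 s hs hb hsY, hb⟩

theorem eq_of_involution [Finite Q] (h : Di P Y) {a b : Q} (ha : a ∈ Y) (ha2 : orderOf a = 2)
    (hb : b ∈ Y) (hb2 : orderOf b = 2) : a = b := by
  classical
  by_contra hne
  haveI := h.cyclic
  haveI : Fintype Y := Fintype.ofFinite _
  obtain ⟨a2, a1⟩ := orderOf_two_iff.mp ha2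
  obtain ⟨b2, b1⟩ := orderOf_two_iff.mp hb2
  have hsub : ({1, ⟨a, ha⟩, ⟨b, hb⟩} : Finset Y) ⊆ Finset.univ.filter fun y : Y => y ^ 2 = 1 := by
    intro y hy
    simp only [Finset.mem_insert, Finset.mem_singleton] at hy
    simp only [Finset.mem_filter, Finset.mem_univ, true_and, sq]
    rcases hy with rfl | rfl | rfl
    · exact mul_one 1
    · exact Subtype.ext a2
    · exact Subtype.ext b2
  have hcard : ({1, ⟨a, ha⟩, ⟨b, hb⟩} : Finset Y).card = 3 := by
    rw [Finset.card_insert_of_notMem, Finset.card_pair]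
    · exact fun e => hne (congrArg Subtype.val e)
    · simp only [Finset.mem_insert, Finset.mem_singleton, not_or]
      exact ⟨fun e => a1 (congrArg Subtype.val e).symm, fun e => b1 (congrArg Subtype.val e).symm⟩
  have := (Finset.card_le_card hsub).trans (IsCyclic.card_pow_eq_one_le (α := Y) two_pos)
  omega

theorem involution_central [Finite Q] (h : Di P Y) {w : Q} (hw : w ∈ Y) (hw2 : w * w = 1) {p : Q}
    (hp : p ∈ P) : Commute w p := by
  by_cases hpY : p ∈ Y
  · exact h.comm hw hpY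
  · have h1 := (h.out p hp hpY).2 w hw
    rw [inv_eq_of_mul_eq_one_right hw2] at h1
    exact (mul_inv_eq_iff_eq_mul.mp h1).symm

theorem nonempty_dihedral [Finite Q] (h : Di P Y) :
    ∃ n, 2 ≤ n ∧ Nonempty (P ≃* DihedralGroup n) := by
  haveI := h.cyclic
  obtain ⟨⟨r, hr⟩, hgen⟩ := IsCyclic.exists_generator (α := Y)
  obtain ⟨s, hs, hsY⟩ := h.proper
  have hr1 : r ≠ 1 := by
    rintro rfl
    obtain ⟨w, hw, hw2⟩ := h.nontriv
    obtain ⟨i, hi⟩ := Subgroup.mem_zpowers_iff.mp (hgen ⟨w, hw⟩)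
    have : (1 : Q) ^ i = w := congrArg Subtype.val hi
    rw [one_zpow] at this
    exact (orderOf_two_iff.mp hw2).2 this.symm
  obtain ⟨hs2, -⟩ := h.out s hs hsY
  have hsr : s * r ∉ Y := fun h' => hsY (by simpa using mul_mem h' (inv_mem hr))
  obtain ⟨hsr2, -⟩ := h.out _ (mul_mem hs (h.le hr)) hsr
  have hxy : s * (s * r) = r := by rw [← mul_assoc, hs2, one_mul]
  obtain ⟨e⟩ := Cfsg.Agent.S0206.result s (s * r)
    (orderOf_two_iff.mpr ⟨hs2, fun e => hsY (e ▸ one_mem Y)⟩)
    (orderOf_two_iff.mpr ⟨hsr2, fun e => hsr (e ▸ one_mem Y)⟩)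
    (fun e => hr1 (mul_eq_left.mp e.symm))
  rw [hxy] at e
  have hcl : Subgroup.closure ({s, s * r} : Set Q) = P := by
    refine le_antisymm ((Subgroup.closure_le _).mpr ?_) fun p hp => ?_
    · rintro q (rfl | rfl)
      · exact hs
      · exact mul_mem hs (h.le hr)
    set K := Subgroup.closure ({s, s * r} : Set Q)
    have hsK : s ∈ K := Subgroup.subset_closure (Or.inl rfl)
    have hrK : r ∈ K := hxy ▸ mul_mem hsK (Subgroup.subset_closure (Or.inr rfl))
    have hY : Y ≤ K := by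
      intro y hy
      obtain ⟨i, hi⟩ := Subgroup.mem_zpowers_iff.mp (hgen ⟨y, hy⟩)
      have : r ^ i = y := congrArg Subtype.val hi
      exact this ▸ zpow_mem hrK i
    by_cases hpY : p ∈ Y
    · exact hY hpY
    · have := mul_mem hsK (hY (h.mul s hs p hp hsY hpY))
      rwa [← mul_assoc, hs2, one_mul] at this
  refine ⟨orderOf r, ?_, ⟨(MulEquiv.subgroupCongr hcl.symm).trans e⟩⟩
  have h0 := orderOf_pos r
  have h1 : orderOf r ≠ 1 := fun e => hr1 (orderOf_eq_one_iff.mp e)
  omega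

end Di

namespace DShape

variable {Q : Type*} [Group Q] {P Y : Subgroup Q}

theorem exists_fourth [Finite Q] (h : DShape P Y) (hP : IsPGroup 2 P) :
    ∃ x ∈ Y, x * x ≠ 1 ∧ (x * x) * (x * x) = 1 := by
  obtain ⟨x, hx, hx2⟩ := h.big
  obtain ⟨k, hk⟩ := hP ⟨x, h.le hx⟩
  have hk' : x ^ 2 ^ k = 1 := congrArg Subtype.val hk
  clear hk
  induction k generalizing x with
  | zero => simp_all
  | succ k ih =>
    by_cases h4 : (x * x) * (x * x) = 1
    · exact ⟨x, hx, hx2, h4⟩
    · exact ih (x * x) (mul_mem hx hx) h4 (by rw [← sq, ← pow_mul, ← pow_succ']; exact hk')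

theorem to_di [Finite Q] (h : DShape P Y) (hP : IsPGroup 2 P)
    (huniq : ∀ a b, a ∈ Y → orderOf a = 2 → b ∈ Y → orderOf b = 2 → a = b) : Di P Y := by
  obtain ⟨x₀, hx₀, hx₀2, hx₀4⟩ := h.exists_fourth hP
  refine ⟨h.le, ?_, ⟨x₀ * x₀, mul_mem hx₀ hx₀, orderOf_two_iff.mpr ⟨hx₀4, hx₀2⟩⟩, h.proper,
    fun s hs t ht hsY htY => h.mul_mem_of_not_mem hs hsY ht htY, h.out⟩
  obtain ⟨⟨x, hx⟩, hmax⟩ := Finite.exists_max (fun y : Y => orderOf (y : Q))
  have hpow : ∀ y ∈ Y, ∃ b, orderOf y = 2 ^ b := by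
    intro y hy
    obtain ⟨k, hk⟩ := hP ⟨y, h.le hy⟩
    obtain ⟨b, -, hb⟩ := (Nat.dvd_prime_pow Nat.prime_two).mp
      (orderOf_dvd_of_pow_eq_one (congrArg Subtype.val hk : y ^ 2 ^ k = 1))
    exact ⟨b, hb⟩
  obtain ⟨a, ha⟩ := hpow x hx
  have h2x : 2 ≤ orderOf x := by
    have h1 : orderOf (x₀ * x₀) ≤ orderOf x := hmax ⟨_, mul_mem hx₀ hx₀⟩
    rwa [orderOf_two_iff.mpr ⟨hx₀4, hx₀2⟩] at h1
  have h2dvd : 2 ∣ orderOf x := by
    rw [ha] at h2x ⊢
    exact dvd_pow_self 2 (by rintro rfl; simp at h2x)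
  have hwx : orderOf (x ^ (orderOf x / 2)) = 2 :=
    orderOf_pow_orderOf_div (orderOf_pos x).ne' h2dvd
  have key : ∀ k, ∀ y ∈ Y, y ^ 2 ^ k = 1 → y ∈ Subgroup.zpowers x := by
    intro k
    induction k with
    | zero =>
      intro y _ hy
      rw [pow_zero, pow_one] at hy
      exact hy ▸ one_mem _
    | succ k ih =>
      intro y hy hyk
      obtain ⟨j, hj⟩ := (isOfFinOrder_of_finite x).mem_powers_iff_mem_zpowers.mpr
        (ih (y * y) (mul_mem hy hy) (by rw [← sq, ← pow_mul, ← pow_succ']; exact hyk))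
      have hj' : x ^ j = y * y := hj
      rcases Nat.even_or_odd j with ⟨i, rfl⟩ | hjodd
      · have hz : y * (x ^ i)⁻¹ ∈ Y := mul_mem hy (inv_mem (pow_mem hx i))
        have hz2 : y * (x ^ i)⁻¹ * (y * (x ^ i)⁻¹) = 1 := by
          have hc : Commute y (x ^ i)⁻¹ := h.comm y hy _ (inv_mem (pow_mem hx i))
          rw [hc.symm.mul_mul_mul_comm, ← hj', pow_add]
          group
        by_cases hz1 : y * (x ^ i)⁻¹ = 1
        · exact (mul_inv_eq_one.mp hz1) ▸ Subgroup.npow_mem_zpowers x i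
        · have e := huniq _ _ hz (orderOf_two_iff.mpr ⟨hz2, hz1⟩) (pow_mem hx _) hwx
          rw [mul_inv_eq_iff_eq_mul.mp e]
          exact mul_mem (Subgroup.npow_mem_zpowers x _) (Subgroup.npow_mem_zpowers x i)
      · exfalso
        obtain ⟨b, hb⟩ := hpow y hy
        have e1 : orderOf (y * y) = orderOf x := by
          rw [← hj']
          refine Nat.Coprime.orderOf_pow ?_
          rw [ha]
          exact (Nat.coprime_two_left.mpr hjodd).pow_left a
        rcases b with _ | b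
        · have : y = 1 := orderOf_eq_one_iff.mp (by rw [hb, pow_zero])
          subst this
          rw [mul_one, orderOf_one] at e1
          omega
        · have e2 : orderOf (y * y) = 2 ^ b := by
            rw [← sq, orderOf_pow' y two_ne_zero, hb, pow_succ',
              Nat.gcd_eq_right (Dvd.intro _ rfl), Nat.mul_div_cancel_left _ two_pos]
          have := hmax ⟨y, hy⟩
          simp only [hb, ← e1, e2, pow_succ'] at this
          have := Nat.pos_of_ne_zero (pow_ne_zero b two_ne_zero)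
          omega
  refine ⟨⟨⟨x, hx⟩, fun y => ?_⟩⟩
  obtain ⟨k, hk⟩ := hP ⟨y, h.le y.2⟩
  obtain ⟨i, hi⟩ := Subgroup.mem_zpowers_iff.mp (key k y y.2 (congrArg Subtype.val hk))
  exact ⟨i, Subtype.ext hi⟩

end DShape

variable {G : Type*} [Group G]

namespace OddCtx

open OddCenter

local notation "π" => QuotientGroup.mk' (Subgroup.center G)

variable (c : OddCtx G) [Finite G]
include c

theorem exists_mk_ne_one (S : Sylow 2 G) :
    ∃ q ∈ (sylowQ S : Subgroup (G ⧸ Subgroup.center G)), q ≠ 1 := by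
  obtain ⟨a, ha, b, -, hab⟩ := c.sylow_not_comm S
  exact ⟨a, c.mk_mem_sylowQ S ha, fun e => hab (mul_center_comm (mk_eq_one.mp e) b)⟩

theorem exists_central_involution (S : Sylow 2 G) :
    ∃ u : G, orderOf (u : G ⧸ Subgroup.center G) = 2 ∧
      (u : G ⧸ Subgroup.center G) ∈ (sylowQ S : Subgroup (G ⧸ Subgroup.center G)) ∧
      ∀ p ∈ (sylowQ S : Subgroup (G ⧸ Subgroup.center G)),
        Commute p (u : G ⧸ Subgroup.center G) := by
  haveI : Fact (Nat.Prime 2) := ⟨Nat.prime_two⟩
  set P := (sylowQ S : Subgroup (G ⧸ Subgroup.center G)) with hP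
  obtain ⟨q, hq, hq1⟩ := c.exists_mk_ne_one S
  haveI : Nontrivial P := ⟨⟨⟨q, hq⟩, 1, fun e => hq1 (congrArg Subtype.val e)⟩⟩
  haveI : Nontrivial (Subgroup.center P) := (sylowQ S).2.center_nontrivial
  obtain ⟨k, hk⟩ := IsPGroup.iff_card.mp ((sylowQ S).2.to_subgroup (Subgroup.center P))
  have h2 : 2 ∣ Nat.card (Subgroup.center P) := by
    rw [hk]
    refine dvd_pow_self 2 ?_
    rintro rfl
    have := Finite.one_lt_card (α := Subgroup.center P)
    rw [hk, pow_zero] at this
    exact absurd this (lt_irrefl 1)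
  obtain ⟨z, hz⟩ := exists_prime_orderOf_dvd_card' 2 h2
  obtain ⟨u, hu⟩ := QuotientGroup.mk_surjective ((z : P) : G ⧸ Subgroup.center G)
  refine ⟨u, ?_, hu ▸ (z : P).2, fun p hp => ?_⟩
  · rw [hu, Subgroup.orderOf_coe, Subgroup.orderOf_coe, hz]
  · rw [hu]
    exact congrArg Subtype.val (Subgroup.mem_center_iff.mp z.2 ⟨p, hp⟩)

/-- In the dihedral-like shape the group order is divisible by three. -/
theorem three_dvd (S : Sylow 2 G) {Y : Subgroup (G ⧸ Subgroup.center G)}
    (hY : DShape (sylowQ S : Subgroup (G ⧸ Subgroup.center G)) Y)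
    (huniq : ∀ a b, a ∈ Y → orderOf a = 2 → b ∈ Y → orderOf b = 2 → a = b) :
    3 ∣ Nat.card (G ⧸ Subgroup.center G) := by
  set P := (sylowQ S : Subgroup (G ⧸ Subgroup.center G)) with hP
  obtain ⟨x, hx, hx2, hx4⟩ := hY.exists_fourth (sylowQ S).2
  set w := x * x with hw
  have hwY : w ∈ Y := mul_mem hx hx
  have hword : orderOf w = 2 := orderOf_two_iff.mpr ⟨hx4, hx2⟩
  obtain ⟨s, hs, hsY⟩ := hY.proper
  have hsord : orderOf s = 2 :=
    orderOf_two_iff.mpr ⟨(hY.out s hs hsY).1, fun e => hsY (e ▸ one_mem Y)⟩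
  have hsne : s ≠ w := fun e => hsY (e ▸ hwY)
  obtain ⟨g, hg⟩ := c.exists_conj_mem_of_dShape S hY hs hsY
  have hgs : g * s * g⁻¹ = w :=
    huniq _ _ hg (by rw [CfsgLib.StronglyEmbedded.orderOf_conj, hsord]) hwY hword
  have hPw : P ≤ Subgroup.centralizer ({w} : Set _) := fun p hp =>
    Subgroup.mem_centralizer_singleton_iff.mpr (hY.central_of_sq hwY hx4 hp).symm
  set R := P ⊓ Subgroup.centralizer ({s} : Set _) with hR
  have hRle : R.map (MulAut.conj g).toMonoidHom ≤ Subgroup.centralizer ({w} : Set _) := by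
    rintro _ ⟨r, hr, rfl⟩
    rw [← hgs]
    exact Subgroup.mem_centralizer_singleton_iff.mpr
      ((show Commute r s from Subgroup.mem_centralizer_singleton_iff.mp hr.2).map
        (MulAut.conj g).toMonoidHom).eq
  obtain ⟨m, hm, P₀, hP₀, hRP₀, -⟩ :=
    exists_conj_sylow_ge (sylowQ S) hPw (((sylowQ S).2.to_le inf_le_left).map _) hRle
  set g₁ := m * g with hg₁
  have hs1 : g₁ * s * g₁⁻¹ = w := by
    have hmw : m * w = w * m := Subgroup.mem_centralizer_singleton_iff.mp hm
    rw [hg₁, show m * g * s * (m * g)⁻¹ = m * (g * s * g⁻¹) * m⁻¹ by group, hgs, hmw,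
      mul_inv_cancel_right]
  have hwR : w ∈ R := ⟨hY.le hwY,
    Subgroup.mem_centralizer_singleton_iff.mpr (hY.central_of_sq hwY hx4 hs)⟩
  set v := g₁ * w * g₁⁻¹ with hv
  have hvP : v ∈ P := by
    have := (hP₀ _).mp (hRP₀ ⟨w, hwR, rfl⟩)
    show v ∈ sylowQ S
    simpa [hv, hg₁, mul_assoc] using this
  have hvY : v ∉ Y := fun h => by
    have e := huniq _ _ h (by rw [hv, CfsgLib.StronglyEmbedded.orderOf_conj, hword]) hwY hword
    have e' : g₁ * w * g₁⁻¹ = g₁ * s * g₁⁻¹ := e.trans hs1.symm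
    exact hsne (mul_left_cancel (mul_right_cancel e')).symm
  have hinv : ∀ t ∈ P, t ∉ Y → x * t * x⁻¹ = w * t := by
    intro t ht htY
    have h := (hY.out t ht htY).2 x⁻¹ (inv_mem hx)
    rw [inv_inv] at h
    rw [hw, mul_assoc x t, show x * x * t = x * (x * t) from mul_assoc _ _ _]
    congr 1
    rw [← mul_inv_eq_iff_eq_mul.mp h]
  set x' := g₁⁻¹ * x * g₁ with hx'
  have hx'w : x' * w * x'⁻¹ = s * w := by
    have e : x' * w * x'⁻¹ = g₁⁻¹ * (x * v * x⁻¹) * g₁ := by rw [hx', hv]; group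
    rw [e, hinv v hvP hvY, hv]
    nth_rewrite 1 [← hs1]
    group
  have hx's : x' * s * x'⁻¹ = s := by
    have e : x' * s * x'⁻¹ = g₁⁻¹ * (x * (g₁ * s * g₁⁻¹) * x⁻¹) * g₁ := by rw [hx']; group
    rw [e, hs1, (hY.comm x hx w hwY).eq, mul_inv_cancel_right, ← hs1]
    group
  have hws : Commute w s := hY.central_of_sq hwY hx4 hs
  set h := x * x' with hh
  have h1 : h * s * h⁻¹ = w * s := by
    rw [hh, show x * x' * s * (x * x')⁻¹ = x * (x' * s * x'⁻¹) * x⁻¹ by group, hx's,
      hinv s hs hsY]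
  have h2 : h * w * h⁻¹ = s := by
    rw [hh, show x * x' * w * (x * x')⁻¹ = x * (x' * w * x'⁻¹) * x⁻¹ by group, hx'w,
      show x * (s * w) * x⁻¹ = (x * s * x⁻¹) * (x * w * x⁻¹) by group, hinv s hs hsY,
      (hY.comm x hx w hwY).eq, mul_inv_cancel_right, hws.eq, mul_assoc, hx4, mul_one]
  have h3 : h * (w * s) * h⁻¹ = w := by
    rw [show h * (w * s) * h⁻¹ = (h * w * h⁻¹) * (h * s * h⁻¹) by group, h1, h2, hws.eq,
      ← mul_assoc, (hY.out s hs hsY).1, one_mul]
  by_contra hndvd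
  have hcop : Nat.Coprime 3 (orderOf h) := by
    refine Nat.prime_three.coprime_iff_not_dvd.mpr fun hd => hndvd (hd.trans ?_)
    exact orderOf_dvd_natCard h
  obtain ⟨e, he⟩ := exists_pow_eq_self_of_coprime hcop
  have hc3 : Commute (h ^ 3) w := by
    refine (show h ^ 3 * w = w * h ^ 3 from mul_inv_eq_iff_eq_mul.mp ?_)
    calc h ^ 3 * w * (h ^ 3)⁻¹ = h * (h * (h * w * h⁻¹) * h⁻¹) * h⁻¹ := by
          rw [pow_succ', pow_succ', pow_one]; group
      _ = w := by rw [h2, h1, h3]
  have hcw : Commute h w := he ▸ hc3.pow_left e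
  rw [hcw.eq, mul_inv_cancel_right] at h2
  exact hsne h2.symm

/-- In the elementary shape, a strongly embedded subgroup and Suzuki order are incompatible. -/
theorem not_suzuki_elementary (S : Sylow 2 G)
    (hE : ∀ p ∈ (sylowQ S : Subgroup (G ⧸ Subgroup.center G)), p * p = 1)
    {H : Subgroup (G ⧸ Subgroup.center G)} (hH : Cfsg.IsStronglyEmbedded H) :
    ¬ Cfsg.IsSuzuki (G ⧸ Subgroup.center G) := by
  rintro ⟨-, m, hm, hcard⟩
  set P := (sylowQ S : Subgroup (G ⧸ Subgroup.center G)) with hP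
  have hcomm : ∀ a ∈ P, ∀ b ∈ P, Commute a b := by
    intro a ha b hb
    show a * b = b * a
    calc a * b = (a * b)⁻¹ := (inv_eq_of_mul_eq_one_right (hE _ (mul_mem ha hb))).symm
      _ = _ := by rw [mul_inv_rev, inv_eq_of_mul_eq_one_right (hE _ ha),
          inv_eq_of_mul_eq_one_right (hE _ hb)]
  haveI : IsMulCommutative (sylowQ S : Subgroup (G ⧸ Subgroup.center G)) :=
    ⟨⟨fun a b => Subtype.ext (hcomm a a.2 b b.2)⟩⟩
  obtain ⟨u, hu, huP, -⟩ := c.exists_central_involution S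
  set t := (u : G ⧸ Subgroup.center G) with ht
  set N := (Subgroup.normalizer (P : Set (G ⧸ Subgroup.center G))).map
    (ConjAct.toConjAct (G := G ⧸ Subgroup.center G)).toMonoidHom with hN
  have horb : MulAction.orbit N t = (P : Set (G ⧸ Subgroup.center G)) \ {1} := by
    ext r
    constructor
    · rintro ⟨⟨_, n, hn, rfl⟩, rfl⟩
      show ConjAct.toConjAct n • t ∈ _
      rw [ConjAct.toConjAct_smul]
      refine ⟨(Subgroup.mem_normalizer_iff.mp hn t).mp huP, fun h => ?_⟩
      exact (orderOf_two_iff.mp hu).2 (conj_eq_one_iff.mp h)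
    · rintro ⟨hrP, hr1⟩
      obtain ⟨g, hg⟩ := isConj_iff.mp (CfsgLib.StronglyEmbedded.isConj_involutions hH hu
        (orderOf_two_iff.mpr ⟨hE r hrP, hr1⟩))
      have hg' : g⁻¹⁻¹ * t * g⁻¹ = r := by rw [inv_inv]; exact hg
      obtain ⟨n, hn, hne⟩ := (sylowQ S).conj_eq_normalizer_conj_of_mem t g⁻¹ huP (hg' ▸ hrP)
      refine ⟨⟨ConjAct.toConjAct n⁻¹, n⁻¹, inv_mem hn, rfl⟩, ?_⟩
      show ConjAct.toConjAct n⁻¹ • t = r
      rw [ConjAct.toConjAct_smul, inv_inv, ← hne, hg']
  have hdvd : Nat.card P - 1 ∣ Nat.card (G ⧸ Subgroup.center G) := by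
    have h1 : (MulAction.stabilizer N t).index ∣ Nat.card N := Subgroup.index_dvd_card _
    rw [MulAction.index_stabilizer, horb, Set.ncard_sdiff_singleton_of_mem (one_mem P),
      ← Nat.card_coe_set_eq] at h1
    refine h1.trans ?_
    rw [hN, ← Nat.card_congr (Subgroup.equivMapOfInjective _ _
      (ConjAct.toConjAct (G := G ⧸ Subgroup.center G)).injective).toEquiv]
    exact Subgroup.card_subgroup_dvd_card _
  set q := 2 ^ (2 * m + 1) with hq
  haveI : Fact (Nat.Prime 2) := ⟨Nat.prime_two⟩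
  have hq8 : 8 ≤ q := by
    calc 8 = 2 ^ 3 := by norm_num
      _ ≤ q := Nat.pow_le_pow_right two_pos (by omega)
  have hq2 : 2 ∣ q := dvd_pow_self 2 (by omega)
  have hodd1 : Nat.Coprime 2 (q ^ 2 + 1) := by
    refine Nat.coprime_two_left.mpr (Even.add_one ?_)
    exact even_iff_two_dvd.mpr (dvd_pow hq2 two_ne_zero)
  have hodd2 : Nat.Coprime 2 (q - 1) := by
    obtain ⟨j, hj⟩ := hq2
    exact Nat.coprime_two_left.mpr ⟨j - 1, by omega⟩
  have hPcard : Nat.card P = q ^ 2 := by
    obtain ⟨k, hk⟩ := IsPGroup.iff_card.mp (sylowQ S).2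
    have h1 : 2 ^ k ∣ q ^ 2 := by
      have : 2 ^ k ∣ Nat.card (G ⧸ Subgroup.center G) := hk ▸ Subgroup.card_subgroup_dvd_card _
      rw [hcard, mul_assoc] at this
      exact (Nat.Coprime.pow_left k (hodd1.mul_right hodd2)).dvd_of_dvd_mul_right this
    have h2 : q ^ 2 ∣ 2 ^ k := by
      rw [← hk, Sylow.card_eq_multiplicity]
      rw [hq, ← pow_mul]
      refine Nat.pow_dvd_pow 2 ((Nat.Prime.pow_dvd_iff_le_factorization Nat.prime_two
        Nat.card_pos.ne').mp ?_)
      rw [hcard, hq, ← pow_mul, mul_assoc]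
      exact dvd_mul_right _ _
    exact hk.trans (Nat.dvd_antisymm h1 h2)
  rw [hPcard, hcard, mul_assoc] at hdvd
  have hcop : Nat.Coprime (q ^ 2 - 1) (q ^ 2) := by
    have : (q ^ 2 - 1) + 1 = q ^ 2 := Nat.sub_add_cancel (Nat.one_le_pow _ _ (by omega))
    exact this ▸ (Nat.coprime_self_add_right.mpr (Nat.coprime_one_right _))
  have h3 := hcop.dvd_of_dvd_mul_left hdvd
  have e : q ^ 2 - 1 = (q + 1) * (q - 1) := by
    have := Nat.sq_sub_sq q 1
    simpa using this
  rw [e] at h3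
  have h4 : q + 1 ∣ q ^ 2 + 1 := Nat.dvd_of_mul_dvd_mul_right (by omega) h3
  have h5 : q + 1 ∣ 2 := by
    have e2 : q ^ 2 + 1 = (q + 1) * (q - 1) + 2 := by
      have : 1 ≤ q ^ 2 := Nat.one_le_pow _ _ (by omega)
      omega
    rw [e2] at h4
    exact (Nat.dvd_add_right (dvd_mul_right _ _)).mp h4
  have := Nat.le_of_dvd two_pos h5
  omega

theorem dShape_unique (S : Sylow 2 G) {Y : Subgroup (G ⧸ Subgroup.center G)}
    (hY : DShape (sylowQ S : Subgroup (G ⧸ Subgroup.center G)) Y)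
    (hcen : ∀ u : G, (u : G ⧸ Subgroup.center G) ∈ Y → (u : G ⧸ Subgroup.center G) ≠ 1 →
      ∀ p ∈ (sylowQ S : Subgroup (G ⧸ Subgroup.center G)), p ∈ cen u ↔ p ∈ Y) :
    ∀ a b, a ∈ Y → orderOf a = 2 → b ∈ Y → orderOf b = 2 → a = b :=
  fun _ _ ha ha' hb hb' => c.involution_unique S hY hcen ha ha' hb hb'

/-- With a strongly embedded subgroup the central quotient is `PSL(2, 2^k)`. -/
theorem bender (S : Sylow 2 G) {H : Subgroup (G ⧸ Subgroup.center G)}
    (hH : Cfsg.IsStronglyEmbedded H) :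
    ∃ (F : Type) (_ : Field F) (_ : Fintype F), CharP F 2 ∧ 4 ≤ Fintype.card F ∧
      Fintype.card F = Nat.card (sylowQ S : Subgroup (G ⧸ Subgroup.center G)) ∧
      Nonempty ((G ⧸ Subgroup.center G) ≃* Matrix.ProjectiveSpecialLinearGroup (Fin 2) F) ∧
      ∀ t : G ⧸ Subgroup.center G, orderOf t = 2 →
        Nat.card (Subgroup.centralizer ({t} : Set (G ⧸ Subgroup.center G))) = Fintype.card F := by
  haveI := c.simple
  haveI : Fact (Nat.Prime 2) := ⟨Nat.prime_two⟩
  obtain ⟨a, b, hab⟩ := c.exists_not_commute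
  rcases Cfsg.Agent.S0222.result ⟨a, b, hab⟩ H hH with
    ⟨F, iF, iF', hchar, h4, ⟨e⟩⟩ | hsz | ⟨F, iF, iF', q, hqF, hqe, hq4, ⟨e⟩⟩
  · refine ⟨F, iF, iF', hchar, h4, ?_⟩
    obtain ⟨u, hu, huP, huc⟩ := c.exists_central_involution S
    set P := (sylowQ S : Subgroup (G ⧸ Subgroup.center G)) with hP
    have hqeven : Even (Fintype.card F) :=
      CfsgLib.ClassSizesPSL2.even_card CharTwo.two_eq_zero
    have hkey : Nat.card (Subgroup.centralizer ({(u : G ⧸ Subgroup.center G)} : Set _)) =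
        Fintype.card F := by
      set C := Subgroup.centralizer ({(u : G ⧸ Subgroup.center G)} : Set _) with hC
      have hPC : P ≤ C := fun p hp => Subgroup.mem_centralizer_singleton_iff.mpr (huc p hp)
      have hmap : C.map e.toMonoidHom = Subgroup.centralizer
          ({e (u : G ⧸ Subgroup.center G)} : Set (Matrix.ProjectiveSpecialLinearGroup (Fin 2) F)) := by
        ext y
        constructor
        · rintro ⟨x, hx, rfl⟩
          exact Subgroup.mem_centralizer_singleton_iff.mpr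
            ((show Commute x _ from Subgroup.mem_centralizer_singleton_iff.mp hx).map e).eq
        · intro hy
          refine ⟨e.symm y, Subgroup.mem_centralizer_singleton_iff.mpr ?_, e.apply_symm_apply y⟩
          apply e.injective
          rw [map_mul, map_mul, e.apply_symm_apply]
          exact Subgroup.mem_centralizer_singleton_iff.mp hy
      have hcC : Nat.card (Subgroup.centralizer ({e (u : G ⧸ Subgroup.center G)} :
          Set (Matrix.ProjectiveSpecialLinearGroup (Fin 2) F))) = Nat.card C := by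
        rw [← hmap]
        exact (Nat.card_congr (C.equivMapOfInjective _ e.injective).toEquiv).symm
      have hidx : (Subgroup.centralizer ({e (u : G ⧸ Subgroup.center G)} :
          Set (Matrix.ProjectiveSpecialLinearGroup (Fin 2) F))).index = C.index := by
        rw [← hmap]
        exact Subgroup.index_map_of_bijective e.bijective C
      have hodd : ¬ 2 ∣ C.index := fun h =>
        (sylowQ S).not_dvd_index (h.trans (Subgroup.index_dvd_of_le hPC))
      have hne : C.index ≠ 1 := by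
        rw [Ne, Subgroup.index_eq_one]
        intro h
        refine (orderOf_two_iff.mp hu).2 ?_
        rw [← Subgroup.mem_bot, ← c.center_quotient, Subgroup.mem_center_iff]
        exact fun g => Subgroup.mem_centralizer_singleton_iff.mp ((SetLike.ext_iff.mp h g).mpr (Subgroup.mem_top g))
      have hmemr : (Subgroup.centralizer ({e (u : G ⧸ Subgroup.center G)} :
          Set (Matrix.ProjectiveSpecialLinearGroup (Fin 2) F))).index ∈
          Set.range (fun g : Matrix.ProjectiveSpecialLinearGroup (Fin 2) F =>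
            (Subgroup.centralizer ({g} : Set _)).index) := ⟨_, rfl⟩
      rw [CfsgLib.ClassSizesPSL2.sizes_even CharTwo.two_eq_zero h4, hidx] at hmemr
      simp only [Set.mem_insert_iff, Set.mem_singleton_iff] at hmemr
      have hval : C.index = Fintype.card F ^ 2 - 1 := by
        rcases hmemr with h | h | h | h
        · exact absurd h hne
        · exact h
        · exact absurd (h ▸ dvd_mul_of_dvd_left (even_iff_two_dvd.mp hqeven) _) hodd
        · exact absurd (h ▸ dvd_mul_of_dvd_left (even_iff_two_dvd.mp hqeven) _) hodd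
      have hmul := C.card_mul_index
      rw [hval, Nat.card_congr e.toEquiv, CfsgLib.Dickson.card_psl_two hqeven] at hmul
      refine Nat.eq_of_mul_eq_mul_right ?_ hmul
      have : 4 * 4 ≤ Fintype.card F ^ 2 := by rw [sq]; exact Nat.mul_le_mul h4 h4
      omega
    refine ⟨?_, ⟨e⟩, ?_⟩
    · obtain ⟨f, -, hf⟩ := FiniteField.card F 2
      have hC2 : IsPGroup 2 (Subgroup.centralizer ({(u : G ⧸ Subgroup.center G)} : Set _)) :=
        IsPGroup.of_card (hkey.trans hf)
      rw [← hkey, (sylowQ S).3 hC2 fun p hp =>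
        Subgroup.mem_centralizer_singleton_iff.mpr (huc p hp)]
    · intro t ht
      obtain ⟨g, hg⟩ := isConj_iff.mp (CfsgLib.StronglyEmbedded.isConj_involutions hH hu ht)
      rw [← hkey, ← hg]
      have hmap : (Subgroup.centralizer ({(u : G ⧸ Subgroup.center G)} : Set _)).map
          (MulAut.conj g).toMonoidHom =
          Subgroup.centralizer ({g * u * g⁻¹} : Set (G ⧸ Subgroup.center G)) := by
        ext y
        rw [Subgroup.mem_map_equiv, Subgroup.mem_centralizer_singleton_iff,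
          Subgroup.mem_centralizer_singleton_iff, MulAut.conj_symm_apply]
        constructor
        · intro h
          calc y * (g * u * g⁻¹) = g * (g⁻¹ * y * g * u) * g⁻¹ := by group
            _ = g * ((u : G ⧸ Subgroup.center G) * (g⁻¹ * y * g)) * g⁻¹ := by rw [h]
            _ = g * u * g⁻¹ * y := by group
        · intro h
          calc g⁻¹ * y * g * (u : G ⧸ Subgroup.center G) = g⁻¹ * (y * (g * u * g⁻¹)) * g := by group
            _ = g⁻¹ * (g * u * g⁻¹ * y) * g := by rw [h]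
            _ = (u : G ⧸ Subgroup.center G) * (g⁻¹ * y * g) := by group
      rw [← hmap]
      exact (Nat.card_congr (Subgroup.equivMapOfInjective _ _
        (MulAut.conj g).injective).toEquiv).symm
  · exfalso
    rcases c.sylowQ_cases S with hE | ⟨Y, hY, hcen⟩
    · exact c.not_suzuki_elementary S hE hH hsz
    · have h3 := c.three_dvd S hY (c.dShape_unique S hY hcen)
      obtain ⟨-, m, hm, hcard⟩ := hsz
      rw [hcard] at h3
      have hq : (2 ^ (2 * m + 1) : ℕ) % 3 = 2 := by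
        rw [pow_succ, pow_mul, Nat.mul_mod, Nat.pow_mod]
        norm_num
      generalize hQ : (2 ^ (2 * m + 1) : ℕ) = Q at h3 hq
      have hm1 : (Q - 1) % 3 = 1 := by omega
      have hq2 : Q ^ 2 % 3 = 1 := by rw [Nat.pow_mod, hq]
      have hq3 : (Q ^ 2 + 1) % 3 = 2 := by omega
      rw [Nat.dvd_iff_mod_eq_zero, Nat.mul_mod, Nat.mul_mod (Q ^ 2), hq2, hq3, hm1] at h3
      norm_num at h3
  · exfalso
    obtain ⟨p, f, hp, -, hf⟩ : ∃ p : ℕ, ∃ f : ℕ, p.Prime ∧ 0 < f ∧ Fintype.card F = p ^ f :=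
      ⟨_, _, CharP.char_is_prime F (ringChar F), (FiniteField.card F (ringChar F)).choose.pos,
        (FiniteField.card F (ringChar F)).choose_spec.2⟩
    obtain ⟨n, -, hn⟩ := (Nat.dvd_prime_pow hp).mp (hf ▸ hqF ▸ dvd_pow_self q two_ne_zero)
    have hp2 : p = 2 := by
      have h2 : 2 ∣ p ^ n := hn ▸ even_iff_two_dvd.mp hqe
      exact ((Nat.prime_dvd_prime_iff_eq Nat.prime_two hp).mp
        (Nat.prime_two.dvd_of_dvd_pow h2)).symm
    subst hp2 hn
    have hn2 : 2 ≤ n := by
      by_contra h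
      interval_cases n <;> simp at hq4
    obtain ⟨-, -, hsz⟩ := Cfsg.Agent.S1141.result hn2 hqF
      ((sylowQ S).mapSurjective (f := e.toMonoidHom) e.surjective)
    set P := (sylowQ S : Subgroup (G ⧸ Subgroup.center G)) with hP
    let e' : P ≃* (((sylowQ S).mapSurjective (f := e.toMonoidHom) e.surjective :
        Sylow 2 (Cfsg.PSU 3 F (2 ^ n))) : Subgroup (Cfsg.PSU 3 F (2 ^ n))) :=
      (e.subgroupMap P).trans (MulEquiv.subgroupCongr (Sylow.coe_mapSurjective _ _).symm)
    obtain ⟨x, y, hxy⟩ := hsz.2.2.1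
    have hinv := (Cfsg.Agent.S1137.result hsz).1
    rcases c.sylowQ_cases S with hE | ⟨Y, hY, -⟩
    · refine hxy ?_
      have key : ∀ a : P, a * a = 1 := fun a => Subtype.ext (hE a a.2)
      have hall : ∀ z : (((sylowQ S).mapSurjective (f := e.toMonoidHom) e.surjective :
          Sylow 2 (Cfsg.PSU 3 F (2 ^ n))) : Subgroup (Cfsg.PSU 3 F (2 ^ n))), z * z = 1 := fun z => by
        rw [← e'.apply_symm_apply z, ← map_mul, key, map_one]
      calc x * y = (x * y)⁻¹ := (inv_eq_of_mul_eq_one_right (hall _)).symm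
        _ = _ := by rw [mul_inv_rev, inv_eq_of_mul_eq_one_right (hall _),
            inv_eq_of_mul_eq_one_right (hall _)]
    · obtain ⟨s, hs, hsY⟩ := hY.proper
      refine hsY (hY.mem_of_central hs fun p hp => ?_)
      have h1 : e' ⟨s, hs⟩ ∈ Subgroup.center _ :=
        ((hinv _).mp ⟨fun e1 => hsY (by
            have := e'.injective (e1.trans (map_one e').symm)
            rw [show s = 1 from congrArg Subtype.val this]; exact one_mem Y),
          by rw [← map_mul, show (⟨s, hs⟩ : P) * ⟨s, hs⟩ = 1 from Subtype.ext (hY.out s hs hsY).1,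
            map_one]⟩).1
      have h2 := Subgroup.mem_center_iff.mp h1 (e' ⟨p, hp⟩)
      rw [← map_mul, ← map_mul] at h2
      exact (congrArg Subtype.val (e'.injective h2)).symm

/-- No element of odd order outside the centre centralises a Sylow 2-subgroup. -/
theorem mem_center_of_commute_sylow (S : Sylow 2 G) {a : G} (ha : Odd (orderOf a))
    (hc : ∀ s ∈ S, Commute a s) : a ∈ Subgroup.center G := by
  by_contra haZ
  haveI : Fact (Nat.Prime 2) := ⟨Nat.prime_two⟩
  obtain ⟨a₁, ha₁, b₁, hb₁, hab₁⟩ := c.sylow_not_comm S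
  have hred : Red a := ⟨haZ, a₁, b₁, hc a₁ ha₁, hc b₁ hb₁, hab₁⟩
  set M := Subgroup.centralizer ({a} : Set G) with hM
  have hmemM : ∀ g, g ∈ M ↔ Commute a g := fun g =>
    Subgroup.mem_centralizer_singleton_iff.trans ⟨fun h => h.symm, fun h => h.symm⟩
  have hZM : Subgroup.center G ≤ M := fun z hz => (hmemM z).mpr (mul_center_comm hz a).symm
  have hcomap : (M.map π).comap π = M := by
    rw [Subgroup.comap_map_eq, QuotientGroup.ker_mk', sup_eq_left]
    exact hZM
  have hPM : (sylowQ S : Subgroup (G ⧸ Subgroup.center G)) ≤ M.map π := by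
    intro p hp
    obtain ⟨s, hs, rfl⟩ := (c.mem_sylowQ S).mp hp
    exact Subgroup.mem_map_of_mem π ((hmemM s).mpr (hc s hs))
  have hU : ∀ u ∈ M, orderOf (u : G ⧸ Subgroup.center G) = 2 →
      ∃ v ∈ M, Commute (v : G ⧸ Subgroup.center G) (u : G ⧸ Subgroup.center G) ∧
        ¬ Commute u v := by
    intro u huM hu
    obtain ⟨m₁, hm₁, P₀, hP₀, hle, -⟩ := exists_conj_sylow_ge (sylowQ S) hPM
      (isPGroup_zpowers (g := (u : G ⧸ Subgroup.center G)) (p := 2) (k := 1)
        (by rw [pow_one, ← hu, pow_orderOf_eq_one]))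
      (Subgroup.zpowers_le.mpr (Subgroup.mem_map_of_mem π huM))
    obtain ⟨m, hm, rfl⟩ := hm₁
    obtain ⟨s, hs, hsu⟩ := (c.mem_sylowQ S).mp ((hP₀ _).mp (hle (Subgroup.mem_zpowers _)))
    have hsu' : (s : G ⧸ Subgroup.center G) = ((m * u * m⁻¹ : G) : G ⧸ Subgroup.center G) := by
      rw [hsu]; simp
    obtain ⟨h2, h1⟩ := orderOf_two_iff.mp hu
    obtain ⟨v, hv, hvc, hne⟩ := c.exists_witness S hs
      (fun h => h1 (by
        have := mk_eq_one.mpr h
        rwa [hsu, conj_eq_one_iff] at this))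
      (mk_eq_one.mp (by rw [QuotientGroup.mk_mul, hsu, conj_mul, h2, mul_one, mul_inv_cancel]))
    refine ⟨m⁻¹ * v * m, mul_mem (mul_mem (inv_mem hm) ((hmemM v).mpr (hc v hv))) hm, ?_, ?_⟩
    · rw [hsu'] at hvc
      have hd := commute_mk_iff.mp hvc
      rw [commute_mk_iff]
      have := Subgroup.instNormalCenter.conj_mem _ hd m⁻¹
      convert this using 1
      group
    · intro h
      refine hne ((commute_iff_of_mk_eq hsu').mpr ?_)
      have := h.map (MulAut.conj m).toMonoidHom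
      simpa [mul_assoc] using this
  obtain ⟨u₀, hu₀, hu₀P, -⟩ := c.exists_central_involution S
  have hH : Cfsg.IsStronglyEmbedded (M.map π) := by
    refine CfsgLib.StronglyEmbedded.intro_of_conj_mem ?_
      (CfsgLib.StronglyEmbedded.even_card_of_mem hu₀ (hPM hu₀P)) ?_
    · intro h
      rw [h, Subgroup.comap_top] at hcomap
      exact hred.centralizer_ne_top hcomap.symm
    intro t q ht htH hqH
    obtain ⟨u, hu, rfl⟩ := htH
    obtain ⟨g, rfl⟩ := QuotientGroup.mk_surjective q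
    set w := g * u * g⁻¹ with hw
    have hwM : w ∈ M := by
      rw [← hcomap, Subgroup.mem_comap]
      simpa [hw] using hqH
    have hwo : orderOf (w : G ⧸ Subgroup.center G) = 2 := by
      rw [hw, QuotientGroup.mk_mul, QuotientGroup.mk_mul, QuotientGroup.mk_inv,
        CfsgLib.StronglyEmbedded.orderOf_conj]
      exact ht
    set a' := g * a * g⁻¹ with ha'
    have hwa : Commute w a := ((hmemM w).mp hwM).symm
    have hwa' : Commute w a' :=
      (((hmemM u).mp hu).symm).map (MulAut.conj g).toMonoidHom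
    have haa' : Commute a a' := c.commute_of_mk_involution hwo hwa hwa'
    obtain ⟨v, hvM, hvc, hvne⟩ := hU w hwM hwo
    obtain ⟨v₀, hv₀M, hv₀c, hv₀ne⟩ := hU u hu ht
    set v' := g * v₀ * g⁻¹ with hv'
    have hv'c : Commute (v' : G ⧸ Subgroup.center G) (w : G ⧸ Subgroup.center G) := by
      rw [commute_mk_iff, hv', hw]
      have := Subgroup.instNormalCenter.conj_mem _ (commute_mk_iff.mp hv₀c) g
      convert this using 1
      group
    have hv'ne : ¬ Commute w v' := fun h => hv₀ne (by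
      have := h.map (MulAut.conj g⁻¹).toMonoidHom
      simpa [hw, hv', mul_assoc] using this)
    set H' := (Subgroup.centralizer ({(w : G ⧸ Subgroup.center G)} : Set _)).comap π with hH'
    have hmemH : ∀ r, r ∈ H' ↔
        Commute (r : G ⧸ Subgroup.center G) (w : G ⧸ Subgroup.center G) := fun r =>
      Subgroup.mem_centralizer_singleton_iff
    have hH'top : H' ≠ ⊤ := by
      intro h
      refine (orderOf_two_iff.mp hwo).2 ?_
      rw [← Subgroup.mem_bot, ← c.center_quotient, Subgroup.mem_center_iff]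
      intro r
      obtain ⟨r, rfl⟩ := QuotientGroup.mk_surjective r
      exact (hmemH r).mp (h ▸ Subgroup.mem_top r)
    have hv'M : v' ∈ M := hred.le_centralizer c.mn hH'top
      ((hmemH a).mpr (commute_mk_of_commute hwa.symm)) ((hmemH w).mpr (Commute.refl _))
      ((hmemH v).mpr hvc) hwa.symm ((hmemM v).mp hvM) hvne ((hmemH v').mpr hv'c)
    have hred' : Red a' := by
      refine ⟨fun h => haZ ?_, g * a₁ * g⁻¹, g * b₁ * g⁻¹,
        (hc a₁ ha₁).map (MulAut.conj g).toMonoidHom, (hc b₁ hb₁).map (MulAut.conj g).toMonoidHom,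
        fun h => hab₁ ?_⟩
      · have := Subgroup.instNormalCenter.conj_mem _ h g⁻¹
        simpa [ha', mul_assoc] using this
      · have := h.map (MulAut.conj g⁻¹).toMonoidHom
        simpa [mul_assoc] using this
    set M' := Subgroup.centralizer ({a'} : Set G) with hM'
    have hmemM' : ∀ r, r ∈ M' ↔ Commute a' r := fun r =>
      Subgroup.mem_centralizer_singleton_iff.trans ⟨fun h => h.symm, fun h => h.symm⟩
    have hM'le : M' ≤ M := hred.le_centralizer c.mn hred'.centralizer_ne_top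
      ((hmemM' a).mpr haa'.symm) ((hmemM' w).mpr hwa'.symm)
      ((hmemM' v').mpr (((hmemM v₀).mp hv₀M).map (MulAut.conj g).toMonoidHom))
      hwa.symm ((hmemM v').mp hv'M) hv'ne
    have hag : Commute a g := c.mem_of_normalizes hred fun r hr =>
      (hmemM _).mp (hM'le ((hmemM' _).mpr (hr.map (MulAut.conj g).toMonoidHom)))
    exact Subgroup.mem_map_of_mem π ((hmemM g).mpr hag)
  obtain ⟨F, iF, iF', hchar, -, -, -, hC⟩ := c.bender S hH
  obtain ⟨f, -, hf⟩ := FiniteField.card F 2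
  refine haZ (mk_eq_one.mp (orderOf_eq_one_iff.mp ?_))
  have h1 : orderOf (a : G ⧸ Subgroup.center G) ∣ 2 ^ (f : ℕ) := by
    rw [← hf, ← hC _ hu₀]
    obtain ⟨s, hs, hsu⟩ := (c.mem_sylowQ S).mp hu₀P
    exact Subgroup.orderOf_dvd_natCard _ (Subgroup.mem_centralizer_singleton_iff.mpr
      (hsu ▸ (commute_mk_of_commute (hc s hs)).eq))
  exact Nat.eq_one_of_dvd_coprimes
    ((Nat.coprime_two_right.mpr ha).pow_right (f : ℕ)) (orderOf_map_dvd π a) h1

end OddCtx

end CfsgLib.MinNonCA98
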