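import Mathlib
import Cfsg.Agent.MinNonCA98.OddCenterBender
import Cfsg.Agent.Transfer.AbelianFixed
import Cfsg.Agent.StrongEmb.RankOne
import Cfsg.Agent.S0508

/-!
# The centre has odd order: the Sylow 2-subgroup is dihedral modulo the centre

The elementary abelian shape of order at least 8 leads to `PSL(2, 2^k)`, `k ≥ 3`, whose multiplier
is trivial.  Otherwise Brauer–Suzuki–Wall identifies the central quotient as `PSL(2, q)`, `q` odd.
-/

set_option autoImplicit false
set_option linter.style.haveILetI false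
set_option linter.unusedSectionVars false

open scoped Pointwise

namespace CfsgLib.MinNonCA98

open CfsgLib.StronglyEmbedded (orderOf_two_iff)

variable {G : Type*} [Group G]

namespace OddCenter

/-- Conjugation transports `cen`. -/
theorem conj_mem_cen_iff {g u : G} {a : G ⧸ Subgroup.center G} :
    (g : G ⧸ Subgroup.center G) * a * (g : G ⧸ Subgroup.center G)⁻¹ ∈ cen (g * u * g⁻¹) ↔
      a ∈ cen u := by
  obtain ⟨b, rfl⟩ := QuotientGroup.mk_surjective a
  rw [← QuotientGroup.mk_inv, ← QuotientGroup.mk_mul, ← QuotientGroup.mk_mul, mk_mem_cen,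
    mk_mem_cen]
  constructor
  · intro h
    have := h.map (MulAut.conj g⁻¹).toMonoidHom
    simpa [mul_assoc] using this
  · exact fun h => h.map (MulAut.conj g).toMonoidHom

theorem eq_one_of_odd_of_sq {H : Type*} [Group H] {o : H} (ho : Odd (orderOf o)) (h2 : o * o = 1) :
    o = 1 := by
  rw [← orderOf_eq_one_iff]
  exact Nat.eq_one_of_dvd_coprimes (Nat.coprime_two_right.mpr ho) dvd_rfl
    (orderOf_dvd_of_pow_eq_one (by rw [sq, h2]))

end OddCenter

namespace OddCtx

open OddCenter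

local notation "π" => QuotientGroup.mk' (Subgroup.center G)

variable (c : OddCtx G) [Finite G]
include c

/-- An element of odd order centralising two elements of `P` with noncommuting lifts is trivial. -/
theorem eq_one_of_commute_pair (S : Sylow 2 G) {u : G} {v o : G ⧸ Subgroup.center G}
    (huP : (u : G ⧸ Subgroup.center G) ∈ (sylowQ S : Subgroup (G ⧸ Subgroup.center G)))
    (hv : v ∈ (sylowQ S : Subgroup (G ⧸ Subgroup.center G))) (hvu : v ∉ cen u)
    (ho : Odd (orderOf o)) (hou : Commute o (u : G ⧸ Subgroup.center G)) (hov : Commute o v) :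
    o = 1 := by
  obtain ⟨su, hsu, hsue⟩ := (c.mem_sylowQ S).mp huP
  obtain ⟨sv, hsv, rfl⟩ := (c.mem_sylowQ S).mp hv
  obtain ⟨a, rfl, ha⟩ := exists_odd_lift o ho
  have hcom : ∀ s ∈ S, Commute (a : G ⧸ Subgroup.center G) (s : G ⧸ Subgroup.center G) →
      Commute a s := by
    intro s hs h
    obtain ⟨k, hk⟩ := exists_pow_eq_one_of_mem S hs
    exact commute_of_coprime h ((Nat.coprime_two_left.mpr ha).pow_left k |>.of_dvd_left
      (orderOf_dvd_of_pow_eq_one hk))
  have h1 : Commute a su := hcom su hsu (hsue.symm ▸ hou)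
  have h2 : Commute a sv := hcom sv hsv hov
  have hne : ¬ Commute su sv := fun h => hvu (mk_mem_cen.mpr ((commute_iff_of_mk_eq hsue).mp h))
  by_contra h
  have haZ : a ∉ Subgroup.center G := fun hz => h (mk_eq_one.mpr hz)
  have hmem : ∀ g, g ∈ Subgroup.centralizer ({a} : Set G) ↔ Commute a g := fun g =>
    Subgroup.mem_centralizer_singleton_iff.trans ⟨fun h => h.symm, fun h => h.symm⟩
  haveI : Fact (Nat.Prime 2) := ⟨Nat.prime_two⟩
  obtain ⟨P', -, hP'⟩ := c.exists_sylow_le_centralizer ⟨haZ, su, sv, h1, h2, hne⟩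
    (T := (S : Subgroup G) ⊓ Subgroup.centralizer ({a} : Set G)) (S.2.to_le inf_le_left)
    inf_le_right ⟨hsu, (hmem su).mpr h1⟩ ⟨hsv, (hmem sv).mpr h2⟩ hne
  exact haZ (c.mem_center_of_commute_sylow P' ha fun s hs => (hmem s).mp (hP' hs))

/-- An involution of `P` outside `cen u` inverts the elements of odd order commuting with `u`. -/
theorem inverts_of_not_mem_cen (S : Sylow 2 G) {u : G} {v o : G ⧸ Subgroup.center G}
    (hu : orderOf (u : G ⧸ Subgroup.center G) = 2)
    (huP : (u : G ⧸ Subgroup.center G) ∈ (sylowQ S : Subgroup (G ⧸ Subgroup.center G)))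
    (hv : v ∈ (sylowQ S : Subgroup (G ⧸ Subgroup.center G))) (hvu : v ∉ cen u) (hv2 : v * v = 1)
    (hvc : Commute v (u : G ⧸ Subgroup.center G)) (ho : Odd (orderOf o))
    (hou : Commute o (u : G ⧸ Subgroup.center G)) : v * o * v⁻¹ = o⁻¹ := by
  set o' := v * o * v⁻¹ with ho'
  have ho'odd : Odd (orderOf o') := by rwa [ho', CfsgLib.StronglyEmbedded.orderOf_conj]
  have ho'u : Commute o' (u : G ⧸ Subgroup.center G) := (hvc.mul_left hou).mul_left hvc.inv_left
  have hoo : Commute o o' :=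
    c.cen_comm hu (c.mem_cen_of_odd hu ho hou) (c.mem_cen_of_odd hu ho'odd ho'u)
  have hvinv : v⁻¹ = v := inv_eq_of_mul_eq_one_right hv2
  have hfix : Commute (o * o') v := by
    refine (show v * (o * o') = o * o' * v from mul_inv_eq_iff_eq_mul.mp ?_).symm
    calc v * (o * o') * v⁻¹ = o' * ((v * v) * o * (v * v)⁻¹) := by rw [ho']; group
      _ = o * o' := by rw [hv2, one_mul, inv_one, mul_one, hoo.eq]
  have h1 : o * o' = 1 :=
    c.eq_one_of_commute_pair S huP hv hvu
      (Odd.of_dvd_nat (ho.mul ho'odd) (hoo.orderOf_mul_dvd_mul_orderOf))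
      (hou.mul_left ho'u) hfix
  exact (inv_eq_of_mul_eq_one_right h1).symm

/-- Two involutions of the quotient in each other's `cen` have the same `cen`. -/
theorem cen_eq_of_mem {u w : G} (hu : orderOf (u : G ⧸ Subgroup.center G) = 2)
    (hw : orderOf (w : G ⧸ Subgroup.center G) = 2)
    (h : (w : G ⧸ Subgroup.center G) ∈ cen u) : cen w = cen u := by
  have huw : Commute u w := mk_mem_cen.mp h
  ext q
  obtain ⟨g, rfl⟩ := QuotientGroup.mk_surjective q
  rw [mk_mem_cen, mk_mem_cen]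
  exact ⟨fun hg => c.commute_of_mk_involution hw huw.symm hg,
    fun hg => c.commute_of_mk_involution hu huw hg⟩

theorem eq_one_of_hom {A : Type*} [CommGroup A] (f : G ⧸ Subgroup.center G →* A)
    (q : G ⧸ Subgroup.center G) : f q = 1 := by
  haveI := c.simple
  rcases Subgroup.Normal.eq_bot_or_eq_top (inferInstance : f.ker.Normal) with h | h
  · obtain ⟨a, b, hab⟩ := c.exists_not_commute
    refine absurd ((MonoidHom.ker_eq_bot_iff f).mp h ?_) hab
    rw [map_mul, map_mul, mul_comm]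
  · exact MonoidHom.mem_ker.mp (h ▸ Subgroup.mem_top q)

/-- In the elementary shape of order at least 8, `cen u` has index at least 4 in `P`. -/
theorem exists_two_outside (S : Sylow 2 G)
    (hE : ∀ p ∈ (sylowQ S : Subgroup (G ⧸ Subgroup.center G)), p * p = 1)
    (h8 : 8 ≤ Nat.card (sylowQ S : Subgroup (G ⧸ Subgroup.center G))) {u : G}
    (hu : orderOf (u : G ⧸ Subgroup.center G) = 2)
    (huP : (u : G ⧸ Subgroup.center G) ∈ (sylowQ S : Subgroup (G ⧸ Subgroup.center G))) :
    ∃ v ∈ (sylowQ S : Subgroup (G ⧸ Subgroup.center G)),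
      ∃ v' ∈ (sylowQ S : Subgroup (G ⧸ Subgroup.center G)),
        v ∉ cen u ∧ v' ∉ cen u ∧ v * v' ∉ cen u := by
  by_contra hcon
  push Not at hcon
  haveI : Fact (Nat.Prime 2) := ⟨Nat.prime_two⟩
  set P := (sylowQ S : Subgroup (G ⧸ Subgroup.center G)) with hP
  have hcomm : ∀ a ∈ P, ∀ b ∈ P, Commute a b := by
    intro a ha b hb
    show a * b = b * a
    calc a * b = (a * b)⁻¹ := (inv_eq_of_mul_eq_one_right (hE _ (mul_mem ha hb))).symm
      _ = _ := by rw [mul_inv_rev, inv_eq_of_mul_eq_one_right (hE _ ha),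
          inv_eq_of_mul_eq_one_right (hE _ hb)]
  haveI : IsMulCommutative (sylowQ S : Subgroup (G ⧸ Subgroup.center G)) :=
    ⟨⟨fun a b => Subtype.ext (hcomm a a.2 b b.2)⟩⟩
  obtain ⟨v, hv, hvc, hvu⟩ := c.exists_not_mem_cen S hu huP
  classical
  let φ : P →* ℤˣ := MonoidHom.mk' (fun p => if (p : G ⧸ Subgroup.center G) ∈ cen u then 1 else -1)
    (by
      intro p p'
      simp only [Subgroup.coe_mul]
      by_cases h : (p : G ⧸ Subgroup.center G) ∈ cen u <;>
        by_cases h' : (p' : G ⧸ Subgroup.center G) ∈ cen u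
      · simp [h, h', mul_mem h h']
      · rw [if_pos h, if_neg h', if_neg, one_mul]
        exact fun hh => h' (by simpa using mul_mem (inv_mem h) hh)
      · rw [if_neg h, if_pos h', if_neg, mul_one]
        exact fun hh => h (by simpa using mul_mem hh (inv_mem h'))
      · rw [if_neg h, if_neg h', if_pos (hcon _ p.2 _ p'.2 h h')]
        rfl)
  have hkmem : ∀ p : P, p ∈ φ.ker ↔ (p : G ⧸ Subgroup.center G) ∈ cen u := by
    intro p
    by_cases h : (p : G ⧸ Subgroup.center G) ∈ cen u <;> simp [φ, h]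
  have hker : Nat.card φ.ker * 2 = Nat.card P := by
    have h2 : φ.ker.index = 2 := by
      rw [Subgroup.index_eq_two_iff]
      refine ⟨⟨v, hv⟩, fun b => ?_⟩
      simp only [hkmem, Subgroup.coe_mul]
      by_cases hb : (b : G ⧸ Subgroup.center G) ∈ cen u
      · exact Or.inr ⟨hb, fun h => hvu (by simpa using mul_mem (inv_mem hb) h)⟩
      · exact Or.inl ⟨hcon _ b.2 _ hv hb hvu, hb⟩
    rw [← h2]
    exact Subgroup.card_mul_index φ.ker
  obtain ⟨k₁, k₂, hk₁, hk₂, hk₁1, hk₂1, hk12⟩ :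
      ∃ k₁ k₂ : P, k₁ ∈ φ.ker ∧ k₂ ∈ φ.ker ∧ k₁ ≠ 1 ∧ k₂ ≠ 1 ∧ k₁ ≠ k₂ := by
    haveI : Nontrivial φ.ker := Finite.one_lt_card_iff_nontrivial.mp (by omega)
    obtain ⟨k₁, hk₁⟩ := exists_ne (1 : φ.ker)
    by_contra h
    push Not at h
    have hsub : ∀ k : φ.ker, k = 1 ∨ k = k₁ := fun k => by
      by_cases hk : k = 1
      · exact Or.inl hk
      · exact Or.inr (Subtype.ext (h k₁ k k₁.2 k.2 (fun e => hk₁ (Subtype.ext e))
          fun e => hk (Subtype.ext e)).symm)
    have : Nat.card φ.ker ≤ 2 := by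
      refine (Nat.card_le_card_of_surjective (fun b : Bool => if b then k₁ else 1) fun k => ?_).trans
        (by simp)
      rcases hsub k with rfl | rfl
      · exact ⟨false, rfl⟩
      · exact ⟨true, rfl⟩
    omega
  have hstab : ∀ n ∈ Subgroup.normalizer (P : Set (G ⧸ Subgroup.center G)), ∀ k ∈ P, k ∈ cen u →
      n * k * n⁻¹ ∈ cen u := by
    intro n hn k hk hku
    by_cases hk1 : k = 1
    · subst hk1; simp [one_mem]
    by_contra hk'
    obtain ⟨w, rfl⟩ := QuotientGroup.mk_surjective k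
    obtain ⟨g, rfl⟩ := QuotientGroup.mk_surjective n
    have hkP : (g : G ⧸ Subgroup.center G) * w * (g : G ⧸ Subgroup.center G)⁻¹ ∈ P :=
      (Subgroup.mem_normalizer_iff.mp hn _).mp hk
    have hw : orderOf (w : G ⧸ Subgroup.center G) = 2 := orderOf_two_iff.mpr ⟨hE _ hk, hk1⟩
    have hw' : orderOf ((g * w * g⁻¹ : G) : G ⧸ Subgroup.center G) = 2 := by
      rw [QuotientGroup.mk_mul, QuotientGroup.mk_mul, QuotientGroup.mk_inv,
        CfsgLib.StronglyEmbedded.orderOf_conj]
      exact hw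
    have hcw := c.cen_eq_of_mem hu hw hku
    -- membership in the conjugate component
    have hiff : ∀ p ∈ P, p ∈ cen (g * w * g⁻¹) ↔
        (g : G ⧸ Subgroup.center G)⁻¹ * p * (g : G ⧸ Subgroup.center G) ∈ cen u := by
      intro p hp
      rw [← hcw, ← conj_mem_cen_iff (g := g) (u := w)]
      simp [mul_assoc]
    have hback : ∀ p ∈ P, (g : G ⧸ Subgroup.center G)⁻¹ * p * (g : G ⧸ Subgroup.center G) ∈ P :=
      fun p hp => by
        have := (Subgroup.mem_normalizer_iff.mp (inv_mem hn) p).mp hp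
        rwa [inv_inv] at this
    obtain ⟨r, hrP, hr1, hru, hrw⟩ :
        ∃ r ∈ P, r ≠ 1 ∧ r ∈ cen u ∧ r ∈ cen (g * w * g⁻¹) := by
      by_cases i₁ : (k₁ : G ⧸ Subgroup.center G) ∈ cen (g * w * g⁻¹)
      · exact ⟨k₁, k₁.2, fun e => hk₁1 (Subtype.ext e), (hkmem _).mp hk₁, i₁⟩
      by_cases i₂ : (k₂ : G ⧸ Subgroup.center G) ∈ cen (g * w * g⁻¹)
      · exact ⟨k₂, k₂.2, fun e => hk₂1 (Subtype.ext e), (hkmem _).mp hk₂, i₂⟩
      refine ⟨k₁ * k₂, mul_mem k₁.2 k₂.2, fun e => hk12 (Subtype.ext ?_),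
        mul_mem ((hkmem _).mp hk₁) ((hkmem _).mp hk₂), ?_⟩
      · exact (eq_inv_of_mul_eq_one_left e).trans (inv_eq_of_mul_eq_one_right (hE _ k₂.2))
      · rw [hiff _ (mul_mem k₁.2 k₂.2)]
        have := hcon _ (hback _ k₁.2) _ (hback _ k₂.2) (fun h => i₁ ((hiff _ k₁.2).mpr h))
          (fun h => i₂ ((hiff _ k₂.2).mpr h))
        simpa [mul_assoc] using this
    obtain ⟨r, rfl⟩ := QuotientGroup.mk_surjective r
    have hr : orderOf (r : G ⧸ Subgroup.center G) = 2 := orderOf_two_iff.mpr ⟨hE _ hrP, hr1⟩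
    have e : cen (g * w * g⁻¹) = cen u :=
      (c.cen_eq_of_mem hw' hr hrw).symm.trans (c.cen_eq_of_mem hu hr hru)
    apply hk'
    rw [← e]
    have := mk_mem_cen.mpr (Commute.refl (g * w * g⁻¹))
    simpa using this
  have key : ∀ (t : G ⧸ Subgroup.center G) (m : ℕ)
      (hm : t⁻¹ * ((⟨v, hv⟩ : P) : G ⧸ Subgroup.center G) ^ m * t ∈ P),
      φ ⟨_, hm⟩ = φ ⟨v, hv⟩ ^ m := by
    intro t m hm
    have hv2 : v ^ 2 = 1 := by rw [sq]; exact hE v hv
    rcases Nat.even_or_odd m with ⟨i, hi⟩ | ⟨i, hi⟩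
    · have e : v ^ m = 1 := by rw [hi, ← two_mul, pow_mul, hv2, one_pow]
      rw [show (⟨t⁻¹ * ((⟨v, hv⟩ : P) : G ⧸ Subgroup.center G) ^ m * t, hm⟩ : P) = 1 from
        Subtype.ext (by simp [e]), map_one, ← map_pow,
        show (⟨v, hv⟩ : P) ^ m = 1 from Subtype.ext (by simp [e]), map_one]
    · have e : v ^ m = v := by rw [hi, pow_succ, pow_mul, hv2, one_pow, one_mul]
      have e' : (⟨v, hv⟩ : P) ^ m = ⟨v, hv⟩ := Subtype.ext (by simp [e])
      rw [← map_pow, e']
      have hmv : t⁻¹ * v * t ∈ P := by simpa [e] using hm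
      have hne : t⁻¹ * v * t ∉ cen u := by
        obtain ⟨n, hn, hne⟩ := (sylowQ S).conj_eq_normalizer_conj_of_mem v t hv hmv
        intro h
        rw [hne] at h hmv
        have := hstab n hn _ hmv h
        simp [mul_assoc] at this
        exact hvu this
      simp [φ, e, hne, hvu]
  have htr := CfsgLib.FusionTwo.transfer_eq_pow_index P φ ⟨v, hv⟩ key
  rw [c.eq_one_of_hom, show φ ⟨v, hv⟩ = -1 by simp [φ, hvu],
    Odd.neg_one_pow (Nat.odd_iff.mpr (Nat.two_dvd_ne_zero.mp (sylowQ S).not_dvd_index))] at htr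
  exact absurd htr (by decide)

/-- No elements of odd order commute with an involution, in the big elementary shape. -/
theorem eq_one_of_odd_elementary (S : Sylow 2 G)
    (hE : ∀ p ∈ (sylowQ S : Subgroup (G ⧸ Subgroup.center G)), p * p = 1)
    (h8 : 8 ≤ Nat.card (sylowQ S : Subgroup (G ⧸ Subgroup.center G))) {u : G}
    (hu : orderOf (u : G ⧸ Subgroup.center G) = 2)
    (huP : (u : G ⧸ Subgroup.center G) ∈ (sylowQ S : Subgroup (G ⧸ Subgroup.center G)))
    {o : G ⧸ Subgroup.center G} (ho : Odd (orderOf o))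
    (hou : Commute o (u : G ⧸ Subgroup.center G)) : o = 1 := by
  obtain ⟨v, hv, v', hv', h1, h2, h3⟩ := c.exists_two_outside S hE h8 hu huP
  have hc : ∀ p ∈ (sylowQ S : Subgroup (G ⧸ Subgroup.center G)),
      Commute p (u : G ⧸ Subgroup.center G) := by
    intro p hp
    show p * (u : G ⧸ Subgroup.center G) = u * p
    calc p * (u : G ⧸ Subgroup.center G) = (p * u)⁻¹ :=
          (inv_eq_of_mul_eq_one_right (hE _ (mul_mem hp huP))).symm
      _ = _ := by rw [mul_inv_rev, inv_eq_of_mul_eq_one_right (hE _ hp),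
          inv_eq_of_mul_eq_one_right (hE _ huP)]
  have e1 := c.inverts_of_not_mem_cen S hu huP hv h1 (hE _ hv) (hc _ hv) ho hou
  have e2 := c.inverts_of_not_mem_cen S hu huP hv' h2 (hE _ hv') (hc _ hv') ho hou
  have e3 := c.inverts_of_not_mem_cen S hu huP (mul_mem hv hv') h3 (hE _ (mul_mem hv hv'))
    (hc _ (mul_mem hv hv')) ho hou
  refine eq_one_of_odd_of_sq ho (mul_eq_one_iff_eq_inv.mpr ?_)
  rw [← e3, show v * v' * o * (v * v')⁻¹ = v * (v' * o * v'⁻¹) * v⁻¹ by group, e2,
    show v * o⁻¹ * v⁻¹ = (v * o * v⁻¹)⁻¹ by group, e1, inv_inv]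

/-- `PSL(2, 2^k)` with `k ≥ 3` has no proper central extension. -/
theorem false_of_psl_two {F : Type} [Field F] [Fintype F] [CharP F 2] (h8 : 8 ≤ Fintype.card F)
    (e : (G ⧸ Subgroup.center G) ≃* Matrix.ProjectiveSpecialLinearGroup (Fin 2) F) : False := by
  obtain ⟨f, -, hf⟩ := FiniteField.card F 2
  have hexc : (2, Fintype.card F) ∉
      ({(2, 4), (2, 9), (3, 2), (3, 4), (4, 2)} : Set (ℕ × ℕ)) := by
    simp only [Set.mem_insert_iff, Set.mem_singleton_iff, Prod.mk.injEq, not_or]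
    refine ⟨?_, ?_, ?_, ?_, ?_⟩ <;> rintro ⟨-, h⟩
    · omega
    · rw [hf] at h
      have : 2 ∣ 9 := h ▸ dvd_pow_self 2 f.pos.ne'
      omega
    all_goals omega
  have hM := Cfsg.Agent.S2086.result (F := F) rfl 2 le_rfl (fun _ => by omega) hexc
  have hgcd : Nat.gcd 2 (Fintype.card F - 1) = 1 := by
    have : 2 ∣ Fintype.card F := hf ▸ dvd_pow_self 2 f.pos.ne'
    obtain ⟨j, hj⟩ := this
    exact Nat.coprime_two_left.mpr ⟨j - 1, by omega⟩
  let ε : Shrink.{0} G ≃* G := Shrink.mulEquiv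
  haveI : Finite (Shrink.{0} G) := Finite.of_equiv G (equivShrink.{0} G)
  let σ : Shrink.{0} G →* Matrix.ProjectiveSpecialLinearGroup (Fin 2) F :=
    e.toMonoidHom.comp ((QuotientGroup.mk' (Subgroup.center G)).comp ε.toMonoidHom)
  have hσ : Cfsg.IsStemExtension σ := by
    refine ⟨fun y => ?_, fun γ hγ => ?_, ?_⟩
    · obtain ⟨g, hg⟩ := QuotientGroup.mk_surjective (e.symm y)
      exact ⟨ε.symm g, by simp [σ, hg]⟩
    · have h1 : ε γ ∈ Subgroup.center G := mk_eq_one.mp (e.injective (hγ.trans (map_one e).symm))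
      refine Subgroup.mem_center_iff.mpr fun δ => ε.injective ?_
      rw [map_mul, map_mul]
      exact Subgroup.mem_center_iff.mp h1 (ε δ)
    · have htop : commutator (Shrink.{0} G) = ⊤ := by
        apply Subgroup.map_injective ε.injective (f := ε.toMonoidHom)
        rw [map_commutator_eq, MonoidHom.range_eq_top.mpr ε.surjective, ← commutator_def,
          c.perfect, Subgroup.map_top_of_surjective _ ε.surjective]
      rw [htop]
      exact le_top
  obtain ⟨p, hp⟩ := hM.2 (Shrink.{0} G) σ hσ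
  obtain ⟨z, hz, hz2⟩ := c.exists_center_two
  have hzk : ε.symm z ∈ σ.ker := by
    rw [MonoidHom.mem_ker]
    simp [σ, mk_eq_one.mpr hz]
  obtain ⟨x, hx⟩ := hp ⟨_, hzk⟩
  have hx1 : x = 1 := by
    haveI : Subsingleton (Multiplicative (ZMod (Nat.gcd 2 (Fintype.card F - 1)))) := by
      rw [hgcd]; infer_instance
    exact Subsingleton.elim _ _
  rw [hx1, map_one] at hx
  have : z = 1 := by
    have := congrArg (fun y : σ.ker => ε (y : Shrink.{0} G)) hx.symm
    simpa using this
  rw [this, orderOf_one] at hz2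
  omega

/-- In the elementary shape `|P| = 4`. -/
theorem card_elementary (S : Sylow 2 G)
    (hE : ∀ p ∈ (sylowQ S : Subgroup (G ⧸ Subgroup.center G)), p * p = 1) :
    Nat.card (sylowQ S : Subgroup (G ⧸ Subgroup.center G)) = 4 := by
  haveI : Fact (Nat.Prime 2) := ⟨Nat.prime_two⟩
  haveI := c.simple
  set P := (sylowQ S : Subgroup (G ⧸ Subgroup.center G)) with hP
  obtain ⟨k, hk⟩ := IsPGroup.iff_card.mp (sylowQ S).2
  obtain ⟨u, hu, huP, -⟩ := c.exists_central_involution S
  by_contra hne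
  rcases Nat.lt_or_ge k 2 with hk2 | hk2
  · -- `P` of order at most two
    interval_cases k
    · obtain ⟨q, hq, hq1⟩ := c.exists_mk_ne_one S
      haveI : Subsingleton P := (Nat.card_eq_one_iff_unique.mp hk).1
      exact hq1 (congrArg Subtype.val (Subsingleton.elim (⟨q, hq⟩ : P) 1))
    · haveI : IsCyclic P := isCyclic_of_prime_card (by simpa using hk)
      haveI : IsMulCommutative (sylowQ S : Subgroup (G ⧸ Subgroup.center G)) :=
        ⟨⟨fun a b => by letI := IsCyclic.commGroup (α := P); exact mul_comm a b⟩⟩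
      obtain ⟨h2, h1⟩ := orderOf_two_iff.mp hu
      refine h1 (CfsgLib.Transfer.eq_one_of_fixed_by_normalizer' c.index_ne_two (sylowQ S) huP ?_)
      intro n hn
      have hmem := (Subgroup.mem_normalizer_iff.mp hn _).mp huP
      obtain ⟨y, -, hyu⟩ := (Nat.card_eq_two_iff' (1 : P)).mp (by simpa using hk)
      have hall : ∀ x : P, x ≠ 1 → x = ⟨_, huP⟩ := fun x hx =>
        (hyu x hx).trans (hyu _ fun e => h1 (congrArg Subtype.val e)).symm
      have := congrArg Subtype.val (hall ⟨_, hmem⟩ fun e => h1 (conj_eq_one_iff.mp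
        (congrArg Subtype.val e)))
      exact mul_inv_eq_iff_eq_mul.mp this
  · have h8 : 8 ≤ Nat.card P := by
      rcases eq_or_lt_of_le hk2 with h | h
      · rw [← h] at hk; exact absurd hk hne
      · rw [hk]; exact le_trans (by norm_num) (Nat.pow_le_pow_right two_pos h)
    have hC : ∀ t ∈ P, t ≠ 1 → Subgroup.centralizer ({t} : Set _) = P := by
      intro t ht ht1
      obtain ⟨w, rfl⟩ := QuotientGroup.mk_surjective t
      have hw : orderOf (w : G ⧸ Subgroup.center G) = 2 := orderOf_two_iff.mpr ⟨hE _ ht, ht1⟩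
      refine (sylowQ S).3 ?_ fun p hp => Subgroup.mem_centralizer_singleton_iff.mpr ?_
      · rintro ⟨r, hr⟩
        obtain ⟨j, hj⟩ : ∃ j, orderOf r = 2 ^ j := by
          set n := orderOf r with hn
          have hn0 : n ≠ 0 := (orderOf_pos r).ne'
          refine ⟨n.factorization 2, ?_⟩
          have h1 : r ^ ordProj[2] n = 1 := by
            refine c.eq_one_of_odd_elementary S hE h8 hw ht ?_
              ((show Commute r _ from Subgroup.mem_centralizer_singleton_iff.mp hr).pow_left _)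
            rw [orderOf_pow_of_dvd (pow_ne_zero _ two_ne_zero) (Nat.ordProj_dvd n 2)]
            exact Nat.coprime_two_left.mp (Nat.coprime_ordCompl Nat.prime_two hn0)
          exact Nat.dvd_antisymm (orderOf_dvd_of_pow_eq_one h1) (Nat.ordProj_dvd n 2)
        exact ⟨j, Subtype.ext (by rw [SubgroupClass.coe_pow, ← hj, pow_orderOf_eq_one]; rfl)⟩
      · show p * (w : G ⧸ Subgroup.center G) = w * p
        calc p * (w : G ⧸ Subgroup.center G) = (p * w)⁻¹ :=
              (inv_eq_of_mul_eq_one_right (hE _ (mul_mem hp ht))).symm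
          _ = _ := by rw [mul_inv_rev, inv_eq_of_mul_eq_one_right (hE _ hp),
              inv_eq_of_mul_eq_one_right (hE _ ht)]
    set N := Subgroup.normalizer (P : Set (G ⧸ Subgroup.center G)) with hN
    have hNtop : N ≠ ⊤ := by
      intro h
      rcases Subgroup.Normal.eq_bot_or_eq_top (Subgroup.normalizer_eq_top_iff.mp h) with e | e
      · rw [e, Subgroup.card_bot] at h8
        omega
      · obtain ⟨a, b, hab⟩ := c.exists_not_commute
        refine hab ?_
        show a * b = b * a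
        calc a * b = (a * b)⁻¹ :=
              (inv_eq_of_mul_eq_one_right (hE _ (e ▸ Subgroup.mem_top _))).symm
          _ = _ := by rw [mul_inv_rev, inv_eq_of_mul_eq_one_right (hE _ (e ▸ Subgroup.mem_top _)),
              inv_eq_of_mul_eq_one_right (hE _ (e ▸ Subgroup.mem_top _))]
    have hmemP : ∀ t ∈ N, orderOf t = 2 → t ∈ P := fun t ht ht2 =>
      mem_sylow_of_pElement (sylowQ S) (k := 1) (by rw [pow_one, ← ht2, pow_orderOf_eq_one]) ht
    have hH : Cfsg.IsStronglyEmbedded N := by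
      refine CfsgLib.StronglyEmbedded.intro_of_conj_mem hNtop
        (CfsgLib.StronglyEmbedded.even_card_of_mem hu (Subgroup.le_normalizer huP)) ?_
      intro t g ht htN hgN
      have ht' := hmemP _ hgN (by rw [CfsgLib.StronglyEmbedded.orderOf_conj, ht])
      have hle : P.map (MulAut.conj g).toMonoidHom ≤ P := by
        rintro _ ⟨p, hp, rfl⟩
        have h1 : Commute p t := by
          rw [← hC t (hmemP t htN ht) (orderOf_two_iff.mp ht).2] at hp
          exact Subgroup.mem_centralizer_singleton_iff.mp hp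
        rw [← hC _ ht' (fun e => (orderOf_two_iff.mp ht).2 (conj_eq_one_iff.mp e))]
        exact Subgroup.mem_centralizer_singleton_iff.mpr (h1.map (MulAut.conj g).toMonoidHom).eq
      have heq : P.map (MulAut.conj g).toMonoidHom = P :=
        Subgroup.eq_of_le_of_card_ge hle
          (le_of_eq (Nat.card_congr (P.equivMapOfInjective _ (MulAut.conj g).injective).toEquiv))
      refine Subgroup.mem_normalizer_iff.mpr fun a => ⟨fun ha => hle ⟨a, ha, rfl⟩, fun ha => ?_⟩
      rw [← heq] at ha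
      obtain ⟨b, hb, hba⟩ := ha
      rwa [← (MulAut.conj g).injective hba]
    obtain ⟨F, iF, iF', hchar, -, hcard, ⟨e⟩, -⟩ := c.bender S hH
    exact c.false_of_psl_two (hcard ▸ h8) e

/-- A Sylow 2-subgroup is dihedral (possibly a four group) modulo the centre. -/
theorem exists_di (S : Sylow 2 G) :
    ∃ Y, Di (sylowQ S : Subgroup (G ⧸ Subgroup.center G)) Y ∧
      ∀ u : G, (u : G ⧸ Subgroup.center G) ∈ Y → (u : G ⧸ Subgroup.center G) ≠ 1 →
        ∀ p ∈ (sylowQ S : Subgroup (G ⧸ Subgroup.center G)), p ∈ cen u ↔ p ∈ Y := by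
  set P := (sylowQ S : Subgroup (G ⧸ Subgroup.center G)) with hP
  rcases c.sylowQ_cases S with hE | ⟨Y, hY, hcen⟩
  · have h4 := c.card_elementary S hE
    obtain ⟨u, hu, huP, -⟩ := c.exists_central_involution S
    set Y := Subgroup.zpowers (u : G ⧸ Subgroup.center G) with hY
    have hY2 : Nat.card Y = 2 := by rw [hY, Nat.card_zpowers, hu]
    have hle : Y ≤ P := Subgroup.zpowers_le.mpr huP
    have hidx : Y.relIndex P = 2 := by
      have := Subgroup.card_mul_index (Y.subgroupOf P)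
      rw [Nat.card_congr (Subgroup.subgroupOfEquivOfLe hle).toEquiv, hY2, h4] at this
      rw [Subgroup.relIndex]
      omega
    have hkey : ∀ w : G, (w : G ⧸ Subgroup.center G) ∈ Y → (w : G ⧸ Subgroup.center G) ≠ 1 →
        ∀ p ∈ P, p ∈ cen w ↔ p ∈ Y := by
      intro w hw hw1
      have hw2 : orderOf (w : G ⧸ Subgroup.center G) = 2 := orderOf_two_iff.mpr ⟨hE _ (hle hw), hw1⟩
      obtain ⟨v, hv, -, hvu⟩ := c.exists_not_mem_cen S hw2 (hle hw)
      have hYle : Y ≤ P ⊓ cen w := by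
        have hwself : (w : G ⧸ Subgroup.center G) ∈ cen w := mk_mem_cen.mpr (Commute.refl w)
        have e : Y = Subgroup.zpowers (w : G ⧸ Subgroup.center G) := by
          refine (Subgroup.eq_of_le_of_card_ge (Subgroup.zpowers_le.mpr hw) ?_).symm
          rw [hY2, Nat.card_zpowers, hw2]
        rw [e]
        exact Subgroup.zpowers_le.mpr ⟨hle hw, hwself⟩
      have heq : Y = P ⊓ cen w := by
        refine Subgroup.eq_of_le_of_card_ge hYle ?_
        have hdvd := Subgroup.card_dvd_of_le (inf_le_left : P ⊓ cen w ≤ P)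
        rw [h4] at hdvd
        have hne : Nat.card (P ⊓ cen w : Subgroup _) ≠ 4 := fun e => hvu
          (((Subgroup.eq_of_le_of_card_ge inf_le_left (by rw [e, h4])).symm.le hv).2)
        have : Nat.card (P ⊓ cen w : Subgroup _) ≤ 4 := Nat.le_of_dvd (by omega) hdvd
        rw [hY2]
        interval_cases hh : Nat.card (P ⊓ cen w : Subgroup _) <;> omega
      intro p hp
      exact ⟨fun h => heq ▸ ⟨hp, h⟩, fun h => (hYle h).2⟩
    obtain ⟨v, hv, -, hvu⟩ := c.exists_not_mem_cen S hu huP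
    refine ⟨Y, ⟨hle, Subgroup.isCyclic_zpowers _, ⟨_, Subgroup.mem_zpowers _, hu⟩,
      ⟨v, hv, fun h => hvu ((hkey u (Subgroup.mem_zpowers _) (orderOf_two_iff.mp hu).2 v hv).mpr h)⟩,
      ?_, ?_⟩, hkey⟩
    · intro s hs t ht hsY htY
      have h := Subgroup.mul_mem_iff_of_index_two (H := Y.subgroupOf P) hidx (a := ⟨s, hs⟩)
        (b := ⟨t, ht⟩)
      simp only [Subgroup.mem_subgroupOf, Subgroup.coe_mul] at h
      exact h.mpr ⟨fun h' => absurd h' hsY, fun h' => absurd h' htY⟩
    · intro s hs _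
      refine ⟨hE s hs, fun y hy => ?_⟩
      have e : s * y = y * s := by
        calc s * y = (s * y)⁻¹ := (inv_eq_of_mul_eq_one_right (hE _ (mul_mem hs (hle hy)))).symm
          _ = _ := by rw [mul_inv_rev, inv_eq_of_mul_eq_one_right (hE _ hs),
              inv_eq_of_mul_eq_one_right (hE _ (hle hy))]
      rw [e, mul_inv_cancel_right, inv_eq_of_mul_eq_one_right (hE _ (hle hy))]
  · exact ⟨Y, hY.to_di (sylowQ S).2 (c.dShape_unique S hY hcen), hcen⟩

/-- One class of involutions. -/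
theorem exists_conj_eq (S : Sylow 2 G) {Y : Subgroup (G ⧸ Subgroup.center G)}
    (hY : Di (sylowQ S : Subgroup (G ⧸ Subgroup.center G)) Y) {w : G ⧸ Subgroup.center G}
    (hw : w ∈ Y) (hw2 : orderOf w = 2) {q : G ⧸ Subgroup.center G} (hq : orderOf q = 2) :
    ∃ g, g * q * g⁻¹ = w := by
  obtain ⟨g, hg⟩ := c.exists_conj_mem_sylowQ S (k := 1)
    (by rw [pow_one, ← hq, pow_orderOf_eq_one])
  have ho : orderOf (g * q * g⁻¹) = 2 := by rw [CfsgLib.StronglyEmbedded.orderOf_conj, hq]
  by_cases hgY : g * q * g⁻¹ ∈ Y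
  · exact ⟨g, hY.eq_of_involution hgY ho hw hw2⟩
  · rcases CfsgLib.Transfer.thompsonTransferLemma (sylowQ S) Y hY.le hY.relIndex_eq_two _ ho hg
      hgY with ⟨N, hN, hN2, -⟩ | ⟨g', hg'⟩
    · exact absurd hN2 (c.index_ne_two N hN)
    · refine ⟨g' * g, ?_⟩
      rw [show g' * g * q * (g' * g)⁻¹ = g' * (g * q * g⁻¹) * g'⁻¹ by group]
      exact hY.eq_of_involution hg' (by rw [CfsgLib.StronglyEmbedded.orderOf_conj, ho]) hw hw2

/-- Noncentral elements of odd order commuting with an involution modulo the centre have abelian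
centralisers. -/
theorem commute_of_odd_commute_involution {u a : G}
    (hu : orderOf (u : G ⧸ Subgroup.center G) = 2) (ha : Odd (orderOf a))
    (haZ : a ∉ Subgroup.center G)
    (hau : Commute (a : G ⧸ Subgroup.center G) (u : G ⧸ Subgroup.center G)) {x y : G}
    (hx : Commute a x) (hy : Commute a y) : Commute x y := by
  obtain ⟨S⟩ : Nonempty (Sylow 2 G) := inferInstance
  obtain ⟨Y, hY, hcen⟩ := c.exists_di S
  obtain ⟨w, hw, hw2⟩ := hY.nontriv
  obtain ⟨w, rfl⟩ := QuotientGroup.mk_surjective w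
  obtain ⟨q, hq⟩ := c.exists_conj_eq S hY hw hw2 hu
  obtain ⟨g, rfl⟩ := QuotientGroup.mk_surjective q
  obtain ⟨s, hs, hsY⟩ := hY.proper
  set a' := g * a * g⁻¹ with ha'
  by_contra hxy
  have hred : Red a' := by
    refine ⟨fun h => haZ ?_, g * x * g⁻¹, g * y * g⁻¹, hx.map (MulAut.conj g).toMonoidHom,
      hy.map (MulAut.conj g).toMonoidHom, fun h => hxy ?_⟩
    · have := Subgroup.instNormalCenter.conj_mem _ h g⁻¹
      simpa [ha', mul_assoc] using this
    · have := h.map (MulAut.conj g⁻¹).toMonoidHom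
      simpa [mul_assoc] using this
  have ha'odd : Odd (orderOf (a' : G ⧸ Subgroup.center G)) := by
    refine ha.of_dvd_nat ?_
    rw [← CfsgLib.StronglyEmbedded.orderOf_conj g a]
    exact orderOf_map_dvd π a'
  have ha'w : Commute (a' : G ⧸ Subgroup.center G) (w : G ⧸ Subgroup.center G) := by
    rw [← hq, ha', QuotientGroup.mk_mul, QuotientGroup.mk_mul, QuotientGroup.mk_inv]
    exact hau.map (MulAut.conj (g : G ⧸ Subgroup.center G)).toMonoidHom
  have hinv := c.inverts_of_not_mem_cen S hw2 (hY.le hw) hs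
    (fun h => hsY ((hcen w hw (orderOf_two_iff.mp hw2).2 s hs).mp h)) (hY.out s hs hsY).1
    (hY.involution_central hw (orderOf_two_iff.mp hw2).1 hs).symm ha'odd ha'w
  obtain ⟨r, rfl⟩ := QuotientGroup.mk_surjective s
  rw [← QuotientGroup.mk_inv, ← QuotientGroup.mk_inv, ← QuotientGroup.mk_mul,
    ← QuotientGroup.mk_mul] at hinv
  have hra : Commute a' r := c.mem_of_normalizes hred fun t ht =>
    ((commute_iff_of_mk_eq hinv).mp (ht.map (MulAut.conj r).toMonoidHom)).inv_left
      |> fun h => by simpa using h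
  refine hred.1 (mk_eq_one.mp (eq_one_of_odd_of_sq ha'odd (mul_eq_one_iff_eq_inv.mpr ?_)))
  rw [← QuotientGroup.mk_inv, ← hinv, show r * a' * r⁻¹ = a' from by
    rw [← hra.eq, mul_inv_cancel_right]]

/-- The central quotient is `PSL(2, q)` with `q` odd. -/
theorem exists_psl_odd :
    ∃ (F : Type) (_ : Field F) (_ : Fintype F), Odd (Fintype.card F) ∧
      Nonempty ((G ⧸ Subgroup.center G) ≃* Matrix.ProjectiveSpecialLinearGroup (Fin 2) F) := by
  haveI := c.simple
  obtain ⟨S⟩ : Nonempty (Sylow 2 G) := inferInstance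
  obtain ⟨Y, hY, hcen⟩ := c.exists_di S
  obtain ⟨w, hw, hw2⟩ := hY.nontriv
  obtain ⟨w, rfl⟩ := QuotientGroup.mk_surjective w
  obtain ⟨hwsq, hw1⟩ := orderOf_two_iff.mp hw2
  obtain ⟨n, hn, he⟩ := hY.nonempty_dihedral
  set P := (sylowQ S : Subgroup (G ⧸ Subgroup.center G)) with hP
  set t := (w : G ⧸ Subgroup.center G) with ht
  set O := (Cfsg.oddCore (Subgroup.centralizer ({t} : Set (G ⧸ Subgroup.center G)))).map
    (Subgroup.centralizer ({t} : Set (G ⧸ Subgroup.center G))).subtype with hO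
  have hOodd : ∀ o ∈ O, Odd (orderOf o) := by
    intro o ho
    refine Odd.of_dvd_nat ?_ (Subgroup.orderOf_dvd_natCard O ho)
    rw [hO, ← Nat.card_congr (Subgroup.equivMapOfInjective _ _
      (Subgroup.subtype_injective _)).toEquiv]
    exact CfsgLib.StrongEmb.odd_card_oddCore _
  have hOt : ∀ o ∈ O, Commute o t := fun o ho =>
    Subgroup.mem_centralizer_singleton_iff.mp (Subgroup.map_subtype_le _ ho)
  have hYO : ∀ s ∈ Y, ∀ o ∈ O, Commute s o := fun s hs o ho =>
    c.cen_comm hw2 ((hcen w hw hw1 s (hY.le hs)).mpr hs)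
      (c.mem_cen_of_odd hw2 (hOodd o ho) (hOt o ho))
  have hout : ∀ s ∈ P, s ∉ Y → s ∉ cen w := fun s hs hsY h => hsY ((hcen w hw hw1 s hs).mp h)
  refine Cfsg.Agent.S0508.result (sylowQ S) n hn he t hw2 (hY.le hw)
    (fun s hs => ((hY.involution_central hw hwsq hs).eq).symm) O hO ?_ ?_ ?_
  · intro hO1
    obtain ⟨o, ho, ho1⟩ := (Subgroup.bot_or_exists_ne_one O).resolve_left hO1
    have e : P ⊓ Subgroup.centralizer (O : Set (G ⧸ Subgroup.center G)) = Y := by
      refine le_antisymm ?_ fun s hs => ⟨hY.le hs, Subgroup.mem_centralizer_iff.mpr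
        fun o ho => (hYO s hs o ho).eq.symm⟩
      rintro s ⟨hs, hsO⟩
      by_contra hsY
      exact ho1 (c.eq_one_of_commute_pair S (hY.le hw) hs (hout s hs hsY) (hOodd o ho) (hOt o ho)
        (Subgroup.mem_centralizer_iff.mp hsO o ho))
    rw [e]
    exact ⟨hY.cyclic, hY.relIndex_eq_two⟩
  · intro s hs hsO y hy
    have hsY : s ∉ Y := fun h => hsO (Subgroup.mem_centralizer_iff.mpr
      fun o ho => (hYO s h o ho).eq.symm)
    exact c.inverts_of_not_mem_cen S hw2 (hY.le hw) hs (hout s hs hsY) (hY.out s hs hsY).1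
      (hY.involution_central hw hwsq hs).symm (hOodd y hy) (hOt y hy)
  · intro W hWO hW1 q hq
    obtain ⟨b, hb, hb1⟩ := (Subgroup.bot_or_exists_ne_one W).resolve_left hW1
    have hb' := (Subgroup.mem_normalizer_iff.mp hq b).mp hb
    obtain ⟨g, rfl⟩ := QuotientGroup.mk_surjective q
    obtain ⟨a, rfl, ha⟩ := exists_odd_lift b (hOodd b (hWO hb))
    set a' := g * a * g⁻¹ with ha'
    have ha'e : (a' : G ⧸ Subgroup.center G) =
        (g : G ⧸ Subgroup.center G) * a * (g : G ⧸ Subgroup.center G)⁻¹ := by simp [ha']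
    have ha'odd : Odd (orderOf a') := by rwa [ha', CfsgLib.StronglyEmbedded.orderOf_conj]
    have ha'Z : a' ∉ Subgroup.center G := fun h => hb1 (conj_eq_one_iff.mp
      (ha'e.symm.trans (mk_eq_one.mpr h)))
    have ha't : Commute (a' : G ⧸ Subgroup.center G) t := ha'e ▸ hOt _ (hWO hb')
    have haw : Commute w a :=
      mk_mem_cen.mp (c.mem_cen_of_odd hw2 (hOodd _ (hWO hb)) (hOt _ (hWO hb)))
    have ha'w : Commute w a' :=
      mk_mem_cen.mp (c.mem_cen_of_odd hw2 (ha'e ▸ hOodd _ (hWO hb')) ha't)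
    set v := g * w * g⁻¹ with hv
    have hvw : Commute w v := c.commute_of_odd_commute_involution hw2 ha'odd ha'Z ha't ha'w.symm
      (haw.symm.map (MulAut.conj g).toMonoidHom)
    have hv2 : orderOf (v : G ⧸ Subgroup.center G) = 2 := by
      rw [hv, QuotientGroup.mk_mul, QuotientGroup.mk_mul, QuotientGroup.mk_inv,
        CfsgLib.StronglyEmbedded.orderOf_conj]
      exact hw2
    set C := Subgroup.centralizer ({t} : Set (G ⧸ Subgroup.center G)) with hC
    have hPC : P ≤ C := fun p hp =>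
      Subgroup.mem_centralizer_singleton_iff.mpr ((hY.involution_central hw hwsq hp).eq).symm
    have hvC : (v : G ⧸ Subgroup.center G) ∈ C :=
      Subgroup.mem_centralizer_singleton_iff.mpr (commute_mk_of_commute hvw.symm).eq
    obtain ⟨m, hm, P₀, hP₀, hle, -⟩ := exists_conj_sylow_ge (sylowQ S) hPC
      (isPGroup_zpowers (g := (v : G ⧸ Subgroup.center G)) (p := 2) (k := 1)
        (by rw [pow_one, ← hv2, pow_orderOf_eq_one]))
      (Subgroup.zpowers_le.mpr hvC)
    have hmP : m * v * m⁻¹ ∈ P := (hP₀ _).mp (hle (Subgroup.mem_zpowers _))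
    have hmt : Commute m t := Subgroup.mem_centralizer_singleton_iff.mp hm
    have hmY : m * v * m⁻¹ ∈ Y :=
      (hcen w hw hw1 _ hmP).mp (conj_mem_cen hmt (mk_mem_cen.mpr hvw))
    have hmv : m * v * m⁻¹ = t :=
      hY.eq_of_involution hmY (by rw [CfsgLib.StronglyEmbedded.orderOf_conj, hv2]) hw hw2
    have hvt : (v : G ⧸ Subgroup.center G) = t := by
      calc (v : G ⧸ Subgroup.center G) = m⁻¹ * (m * v * m⁻¹) * m := by group
        _ = m⁻¹ * (t * m) := by rw [hmv]; group
        _ = t := by rw [← hmt.eq, inv_mul_cancel_left]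
    refine Subgroup.mem_centralizer_singleton_iff.mpr ?_
    rw [hv, QuotientGroup.mk_mul, QuotientGroup.mk_mul, QuotientGroup.mk_inv] at hvt
    exact mul_inv_eq_iff_eq_mul.mp hvt

end OddCtx

end CfsgLib.MinNonCA98
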