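import Mathlib
import Cfsg.Agent.MinNonCA98.OddCenterBSW
import Cfsg.Agent.SL2.Elements
import Cfsg.Agent.ClassSizesPSL2.Model

/-!
# Piece C: the centre of a perfect minimal non-CA group, simple modulo the centre, has odd order

The final step: in `PSL(2, q)`, a centraliser of odd order is abelian, and cyclic or a `p`-group.
-/

set_option autoImplicit false
set_option linter.style.haveILetI false
set_option linter.unusedSectionVars false
set_option linter.deprecated false

namespace CfsgLib.MinNonCA98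

open CfsgLib.StronglyEmbedded (orderOf_two_iff)

namespace OddCenter

/-- Centralisers of odd order in `PSL(2, q)`. -/
theorem psl_odd_centralizer {F : Type} [Field F] [Fintype F] (hF : Odd (Fintype.card F))
    {x : Matrix.ProjectiveSpecialLinearGroup (Fin 2) F} (hx : x ≠ 1)
    (hodd : Odd (Nat.card (Subgroup.centralizer
      ({x} : Set (Matrix.ProjectiveSpecialLinearGroup (Fin 2) F))))) :
    (∀ a b, Commute a x → Commute b x → Commute a b) ∧
      (IsCyclic (Subgroup.centralizer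
          ({x} : Set (Matrix.ProjectiveSpecialLinearGroup (Fin 2) F))) ∨
        ∃ p, p.Prime ∧ IsPGroup p (Subgroup.centralizer
          ({x} : Set (Matrix.ProjectiveSpecialLinearGroup (Fin 2) F)))) := by
  obtain ⟨g, rfl⟩ := CfsgLib.SL2.pmk_surjective x
  have h2 : (2 : F) ≠ 0 := CfsgLib.SL2.two_ne_zero_iff_odd.2 hF
  have hsq : CfsgLib.SL2.pmk g * CfsgLib.SL2.pmk g ≠ 1 := by
    intro h
    have h1 := orderOf_two_iff.mpr ⟨h, hx⟩
    have hd := Subgroup.orderOf_dvd_natCard
      (Subgroup.centralizer ({CfsgLib.SL2.pmk g} : Set (Matrix.ProjectiveSpecialLinearGroup (Fin 2) F)))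
      (Subgroup.mem_centralizer_singleton_iff.mpr rfl :
        CfsgLib.SL2.pmk g ∈ Subgroup.centralizer {CfsgLib.SL2.pmk g})
    rw [h1] at hd
    exact Nat.not_even_iff_odd.mpr hodd (even_iff_two_dvd.mpr hd)
  have hgc : g ∉ Subgroup.center (Matrix.SpecialLinearGroup (Fin 2) F) :=
    CfsgLib.BinaryPSL.not_mem_center hx
  have heq := CfsgLib.ClassSizesPSL2.centralizer_pmk_eq_map (g := g) (Or.inl hsq)
  refine ⟨fun a b ha hb => ?_, ?_⟩
  · obtain ⟨a', ha', rfl⟩ := heq.le (Subgroup.mem_centralizer_singleton_iff.mpr ha.eq)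
    obtain ⟨b', hb', rfl⟩ := heq.le (Subgroup.mem_centralizer_singleton_iff.mpr hb.eq)
    exact (show Commute a' b' from CfsgLib.SL2.centralizer_commute hgc ha' hb').map _
  · by_cases ht : CfsgLib.SL2.tr g ^ 2 = 4
    · right
      have h := CfsgLib.ClassSizesPSL2.two_mul_card_cen h2 hsq
      rw [CfsgLib.ClassSizesPSL2.card_cen_tr_four hgc ht,
        CfsgLib.ClassSizesPSL2.card_sq_eq_one h2] at h
      obtain ⟨f, hp, hf⟩ := FiniteField.card F (ringChar F)
      exact ⟨ringChar F, hp, IsPGroup.of_card ((Nat.eq_of_mul_eq_mul_left two_pos h).trans hf)⟩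
    · left
      haveI := CfsgLib.SL2.isCyclic_centralizer (g := g) ht
      rw [heq]
      exact isCyclic_of_surjective
        (CfsgLib.SL2.pmk.subgroupMap (Subgroup.centralizer ({g} : Set _)))
        (MonoidHom.subgroupMap_surjective _ _)

end OddCenter

namespace OddCtx

open OddCenter

variable {G : Type*} [Group G] [Finite G] (c : OddCtx G)
include c

local notation "π" => QuotientGroup.mk' (Subgroup.center G)

theorem contradiction : False := by
  obtain ⟨x, hxZ, a₀, b₀, hxa, hxb, hab⟩ := exists_red_of_not_ca c.mn.not_ca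
  obtain ⟨F, iF, iF', hF, ⟨e⟩⟩ := c.exists_psl_odd
  have hx1 : (x : G ⧸ Subgroup.center G) ≠ 1 := fun h => hxZ (mk_eq_one.mp h)
  set C := Subgroup.centralizer ({(x : G ⧸ Subgroup.center G)} : Set _) with hC
  have hmemC : ∀ q, q ∈ C ↔ Commute q (x : G ⧸ Subgroup.center G) := fun q =>
    Subgroup.mem_centralizer_singleton_iff
  -- no involution commutes with `x` modulo the centre
  have hodd : Odd (Nat.card C) := by
    rw [← Nat.not_even_iff_odd]
    intro hev
    obtain ⟨q, hqC, hq⟩ := CfsgLib.StronglyEmbedded.exists_involution_of_even hev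
    obtain ⟨u, rfl⟩ := QuotientGroup.mk_surjective q
    have hxu : Commute (x : G ⧸ Subgroup.center G) (u : G ⧸ Subgroup.center G) :=
      ((hmemC _).mp hqC).symm
    set n := orderOf x
    have hn : n ≠ 0 := (orderOf_pos x).ne'
    by_cases hxm : x ^ ordProj[2] n ∈ Subgroup.center G
    · have h2 : 2 ∣ orderOf (x : G ⧸ Subgroup.center G) := by
        have hd : orderOf (x : G ⧸ Subgroup.center G) ∣ ordProj[2] n :=
          orderOf_dvd_of_pow_eq_one (by rw [← QuotientGroup.mk_pow]; exact mk_eq_one.mpr hxm)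
        obtain ⟨b, -, hb⟩ := (Nat.dvd_prime_pow Nat.prime_two).mp hd
        rw [hb]
        exact dvd_pow_self 2 fun e => hx1 (orderOf_eq_one_iff.mp (by rw [hb, e, pow_zero]))
      have hord := orderOf_pow_orderOf_div (orderOf_pos (x : G ⧸ Subgroup.center G)).ne' h2
      rw [← QuotientGroup.mk_pow] at hord
      exact hab (c.commute_of_mk_involution hord (hxa.pow_left _) (hxb.pow_left _))
    · have ho : Odd (orderOf (x ^ ordProj[2] n)) := by
        rw [orderOf_pow_of_dvd (pow_ne_zero _ two_ne_zero) (Nat.ordProj_dvd n 2)]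
        exact Nat.coprime_two_left.mp (Nat.coprime_ordCompl Nat.prime_two hn)
      exact hab (c.commute_of_odd_commute_involution hq ho hxm
        (by rw [QuotientGroup.mk_pow]; exact hxu.pow_left _) (hxa.pow_left _) (hxb.pow_left _))
  -- transport to `PSL(2, F)`
  have hmap : C.map e.toMonoidHom = Subgroup.centralizer
      ({e (x : G ⧸ Subgroup.center G)} : Set (Matrix.ProjectiveSpecialLinearGroup (Fin 2) F)) := by
    ext y
    constructor
    · rintro ⟨q, hq, rfl⟩
      exact Subgroup.mem_centralizer_singleton_iff.mpr (((hmemC q).mp hq).map e).eq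
    · intro hy
      refine ⟨e.symm y, (hmemC _).mpr ?_, e.apply_symm_apply y⟩
      apply e.injective
      rw [map_mul, map_mul, e.apply_symm_apply]
      exact Subgroup.mem_centralizer_singleton_iff.mp hy
  let eC : C ≃* Subgroup.centralizer
      ({e (x : G ⧸ Subgroup.center G)} : Set (Matrix.ProjectiveSpecialLinearGroup (Fin 2) F)) :=
    (e.subgroupMap C).trans (MulEquiv.subgroupCongr hmap)
  obtain ⟨hcomm, hcase⟩ := psl_odd_centralizer hF (x := e (x : G ⧸ Subgroup.center G))
    (fun h => hx1 (e.injective (h.trans (map_one e).symm)))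
    (Nat.card_congr eC.toEquiv ▸ hodd)
  have hCcomm : ∀ a b, a ∈ C → b ∈ C → Commute a b := by
    intro a b ha hb
    have h := hcomm (e a) (e b) (((hmemC a).mp ha).map e) (((hmemC b).mp hb).map e)
    exact e.injective (by rw [map_mul, map_mul]; exact h)
  have hinC : ∀ g, Commute x g → (g : G ⧸ Subgroup.center G) ∈ C := fun g hg =>
    (hmemC _).mpr (commute_mk_of_commute hg).symm
  rcases hcase with hcyc | ⟨p, hp, hpg⟩
  · haveI := hcyc
    haveI : IsCyclic C := eC.isCyclic.mpr hcyc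
    have hker : ((π).subgroupComap C).ker ≤ Subgroup.center (C.comap π) := fun r hr =>
      Subgroup.mem_center_iff.2 fun b => Subtype.ext (Subgroup.mem_center_iff.1
        (mk_eq_one.mp (congrArg Subtype.val (MonoidHom.mem_ker.1 hr))) b)
    exact hab (congrArg Subtype.val (commutative_of_cyclic_center_quotient ((π).subgroupComap C)
      hker ⟨a₀, hinC a₀ hxa⟩ ⟨b₀, hinC b₀ hxb⟩))
  haveI : Fact p.Prime := ⟨hp⟩
  have hCp : IsPGroup p C := hpg.of_equiv eC.symm
  have hlift : ∀ g, Commute x g → ∃ g₁ : G, (g₁ : G ⧸ Subgroup.center G) = g ∧ Commute x g₁ ∧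
      ∃ k, g₁ ^ p ^ k = 1 := by
    intro g hg
    obtain ⟨k, hk⟩ := hCp ⟨_, hinC g hg⟩
    obtain ⟨g₁, h1, h2⟩ := exists_prime_pow_lift hp (g : G ⧸ Subgroup.center G)
      (congrArg Subtype.val hk)
    exact ⟨g₁, h1, ((commute_iff_of_mk_eq h1).mpr hg.symm).symm, h2⟩
  obtain ⟨a, haeq, hxa', ka, hka⟩ := hlift a₀ hxa
  obtain ⟨b, hbeq, hxb', kb, hkb⟩ := hlift b₀ hxb
  have hab' : ¬ Commute a b := fun h =>
    hab ((commute_iff_of_mk_eq haeq).mp ((commute_iff_of_mk_eq hbeq).mp h.symm).symm)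
  set M := Subgroup.centralizer ({x} : Set G) with hM
  have hmemM : ∀ g, g ∈ M ↔ Commute x g := fun g =>
    Subgroup.mem_centralizer_singleton_iff.trans ⟨fun h => h.symm, fun h => h.symm⟩
  obtain ⟨U, hU⟩ := (isPGroup_zpowers (g := (⟨a, (hmemM a).mpr hxa'⟩ : M)) (p := p) (k := ka)
    (Subtype.ext hka)).exists_le_sylow
  have hUn : ∀ g : M, g ∈ Subgroup.normalizer ((U : Subgroup M) : Set M) := by
    have hfwd : ∀ g : M, ∀ t ∈ U, g * t * g⁻¹ ∈ U := by
      intro g t ht
      obtain ⟨k, hk⟩ := exists_pow_eq_one_of_mem U ht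
      set d := g * t * g⁻¹ * t⁻¹ with hd
      have hdZ : (d : G) ∈ Subgroup.center G := by
        have := commute_mk_iff.mp (hCcomm _ _ (hinC g ((hmemM g).mp g.2)) (hinC t ((hmemM t).mp t.2)))
        exact this
      have hdc : ∀ y : M, Commute d y := fun y => Subtype.ext (mul_center_comm hdZ y).eq
      have e1 : g * t * g⁻¹ = d * t := by rw [hd]; group
      have hdk : d ^ p ^ k = 1 := by
        have h1 : (g * t * g⁻¹) ^ p ^ k = 1 := by rw [conj_pow, hk, mul_one, mul_inv_cancel]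
        rwa [e1, (hdc t).mul_pow, hk, mul_one] at h1
      have hdU : d ∈ U := mem_sylow_of_pElement U hdk (by
        refine Subgroup.mem_normalizer_iff.mpr fun y => ?_
        rw [(hdc y).eq, mul_inv_cancel_right])
      rw [e1]
      exact mul_mem hdU ht
    intro g
    refine Subgroup.mem_normalizer_iff.mpr fun t => ⟨hfwd g t, fun h => ?_⟩
    have := hfwd g⁻¹ _ h
    show t ∈ U
    simpa [mul_assoc] using this
  have hbU : (⟨b, (hmemM b).mpr hxb'⟩ : M) ∈ U :=
    mem_sylow_of_pElement U (k := kb) (Subtype.ext hkb) (hUn _)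
  obtain ⟨P, hUP, hPM⟩ := c.exists_sylow_le_centralizer ⟨hxZ, a, b, hxa', hxb', hab'⟩
    (T := (U : Subgroup M).map M.subtype) (U.2.map _) (Subgroup.map_subtype_le _)
    ⟨_, hU (Subgroup.mem_zpowers _), rfl⟩ ⟨_, hbU, rfl⟩ hab'
  have haP : a ∈ P := hUP ⟨_, hU (Subgroup.mem_zpowers _), rfl⟩
  have hbP : b ∈ P := hUP ⟨_, hbU, rfl⟩
  obtain ⟨x₁, hx₁, -, k₁, hk₁⟩ := hlift x (Commute.refl x)
  have hx₁c : ∀ g, Commute x g → Commute x₁ g := fun g hg => (commute_iff_of_mk_eq hx₁).mpr hg
  have hx₁Pc : ∀ t ∈ P, Commute x₁ t := fun t ht => hx₁c t ((hmemM t).mp (hPM ht))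
  have hx₁P : x₁ ∈ P := mem_sylow_of_pElement P hk₁ (by
    refine Subgroup.mem_normalizer_iff.mpr fun y => ⟨fun hy => ?_, fun hy => ?_⟩
    · rwa [(hx₁Pc y hy).eq, mul_inv_cancel_right]
    · have h := hx₁Pc _ hy
      have e1 : y = x₁ * y * x₁⁻¹ := by
        calc y = x₁⁻¹ * (x₁ * y * x₁⁻¹ * x₁) := by group
          _ = x₁⁻¹ * (x₁ * (x₁ * y * x₁⁻¹)) := by rw [h.eq]
          _ = x₁ * y * x₁⁻¹ := by group
      rwa [e1])
  have hx₁Z : x₁ ∉ Subgroup.center G := fun h => hx1 (hx₁ ▸ mk_eq_one.mpr h)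
  haveI := c.simple
  set PQ : Sylow p (G ⧸ Subgroup.center G) :=
    P.mapSurjective (f := π) (QuotientGroup.mk'_surjective _) with hPQ
  have hPQmem : ∀ q, q ∈ (PQ : Subgroup (G ⧸ Subgroup.center G)) ↔
      ∃ s ∈ P, (s : G ⧸ Subgroup.center G) = q := by
    intro q
    rw [hPQ, Sylow.coe_mapSurjective]
    exact Iff.rfl
  haveI : IsMulCommutative (PQ : Subgroup (G ⧸ Subgroup.center G)) := by
    refine ⟨⟨fun q r => Subtype.ext ?_⟩⟩
    obtain ⟨s, hs, hse⟩ := (hPQmem _).mp q.2
    obtain ⟨t, ht, hte⟩ := (hPQmem _).mp r.2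
    have := hCcomm _ _ (hinC s ((hmemM s).mp (hPM hs))) (hinC t ((hmemM t).mp (hPM ht)))
    rw [hse, hte] at this
    exact this
  refine hx₁Z (mk_eq_one.mp (CfsgLib.Transfer.eq_one_of_fixed_by_normalizer' ?_ PQ
    ((hPQmem _).mpr ⟨x₁, hx₁P, rfl⟩) ?_))
  · intro N hN hi
    rcases Subgroup.Normal.eq_bot_or_eq_top hN with rfl | rfl
    · rw [Subgroup.index_bot] at hi
      obtain ⟨q, r, hqr⟩ := c.exists_not_commute
      haveI : IsCyclic (G ⧸ Subgroup.center G) := isCyclic_of_prime_card hi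
      letI := IsCyclic.commGroup (α := G ⧸ Subgroup.center G)
      exact hqr (mul_comm q r)
    · rw [Subgroup.index_top] at hi
      exact hp.one_lt.ne hi
  · intro n hn
    obtain ⟨g, rfl⟩ := QuotientGroup.mk_surjective n
    obtain ⟨s, hs, hse⟩ := (hPQmem _).mp
      ((Subgroup.mem_normalizer_iff.mp hn _).mp ((hPQmem _).mpr ⟨x₁, hx₁P, rfl⟩))
    have hse' : (s : G ⧸ Subgroup.center G) = ((g * x₁ * g⁻¹ : G) : G ⧸ Subgroup.center G) := by
      rw [hse]; simp
    have hmem : g * x₁ * g⁻¹ ∈ P := by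
      refine mem_sylow_of_pElement P (k := k₁) (by rw [conj_pow, hk₁, mul_one, mul_inv_cancel]) ?_
      have := mul_mem (Subgroup.le_normalizer (H := (P : Subgroup G)) hs)
        (Subgroup.center_le_normalizer ((P : Subgroup G) : Set G) (QuotientGroup.eq.mp hse'))
      rwa [mul_inv_cancel_left] at this
    have hfix := c.eq_of_conj_mem P haP hbP hab' hx₁P hx₁Pc hx₁Z hmem
    rw [← QuotientGroup.mk_mul, ← QuotientGroup.mk_mul, mul_inv_eq_iff_eq_mul.mp hfix]

end OddCtx

/-- Piece C. -/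
theorem oddCenterStep : OddCenterStep := by
  intro G _ _ hG hperf hsimple
  rw [← Nat.not_even_iff_odd, even_iff_two_dvd]
  exact fun h2 => OddCtx.contradiction ⟨hG, hperf, hsimple, h2⟩

end CfsgLib.MinNonCA98
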