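import Cfsg.Agent.MinNonCA98.OddCenterBSW
import Cfsg.Agent.MinNonCA98.Endgame76

/-!
# The centre has odd order: conclusion of piece C
-/

set_option autoImplicit false

namespace CfsgLib.MinNonCA98

universe u

/-- Piece C. -/
theorem oddCenterStep76 : OddCenterStep.{u} := by
  intro G _ _ hmin hp hs
  rw [Nat.odd_iff]
  by_contra hodd
  have c : OddCtx G := ⟨hmin, hp, hs, by omega⟩
  obtain ⟨F, _, _, hF, ⟨e⟩⟩ := c.exists_psl_odd
  have h2 : (2 : F) ≠ 0 := by
    intro h
    haveI : CharP F 2 := CharTwo.of_one_ne_zero_of_two_eq_zero one_ne_zero h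
    obtain ⟨n, -, hn⟩ := FiniteField.card F 2
    rw [hn] at hF
    exact Nat.not_even_iff_odd.mpr hF (Nat.even_pow.mpr ⟨even_two, n.pos.ne'⟩)
  exact false_of_psl2_quotient hmin hs h2 e fun S w hw hc => c.center_sylow_le S hw hc

end CfsgLib.MinNonCA98
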