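import Mathlib
import Cfsg.Agent.MinNonCA98.Interfaces
import Cfsg.Agent.MinNonCA98.RadicalBasic
import Cfsg.Agent.Involution.BaerSuzuki

/-!
# Piece A: in a minimal non-CA group every solvable normal subgroup is central
-/

set_option autoImplicit false

namespace CfsgLib.MinNonCA98

namespace Rad

variable {G : Type*} [Group G] [Finite G]

/-- If `G = E * M` with `E` normal solvable, then `M` is not solvable. -/
theorem not_solvable_of_sup (h : MinNonCA G) {E M : Subgroup G} [hE : E.Normal]
    [Group.IsSolvable E] (htop : E ⊔ M = ⊤) : ¬ Group.IsSolvable M := by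
  intro hM
  refine h.not_solvable ?_
  set q := QuotientGroup.mk' E with hq
  haveI : Group.IsSolvable (G ⧸ E) := by
    refine Group.isSolvable_of_surjective (f := q.comp M.subtype) fun y => ?_
    obtain ⟨g, rfl⟩ := QuotientGroup.mk'_surjective E y
    obtain ⟨e, he, m, hm, rfl⟩ := Subgroup.mem_sup_of_normal_left.mp (htop.ge (Subgroup.mem_top g))
    refine ⟨⟨m, hm⟩, ?_⟩
    simp [hq, (QuotientGroup.eq_one_iff e).mpr he]
  exact Group.isSolvable_of_ker_le_range E.subtype q
    (by rw [hq, Subgroup.range_subtype, QuotientGroup.ker_mk'])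

/-- A solvable normal subgroup that avoids the centraliser of a red element up to the centre lies in
that centraliser. -/
theorem le_red_centralizer_of_inf (h : MinNonCA G) {x : G} (hx : Red x) (E : Subgroup G)
    [hE : E.Normal] [Group.IsSolvable E]
    (hEM : E ⊓ Subgroup.centralizer ({x} : Set G) ≤ Subgroup.center G) :
    E ≤ Subgroup.centralizer ({x} : Set G) := by
  haveI : Fact (Nat.Prime 2) := ⟨Nat.prime_two⟩
  by_contra hnle
  set M := Subgroup.centralizer ({x} : Set G) with hM
  have htop : E ⊔ M = ⊤ :=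
    (hx.isCoatom h).2 _ (lt_of_le_of_ne le_sup_right fun he => hnle (le_sup_left.trans he.ge))
  have hMns : ¬ Group.IsSolvable M := not_solvable_of_sup h htop
  let S : Sylow 2 M := default
  set P : Subgroup G := (S : Subgroup M).map M.subtype with hP
  set N : Subgroup G := M ⊓ Subgroup.normalizer (P : Set G) with hN
  have hnorm : ∀ m : M, m ∈ Subgroup.normalizer ((S : Subgroup M) : Set M) ↔
      (m : G) ∈ Subgroup.normalizer (P : Set G) := by
    intro m
    rw [Subgroup.mem_normalizer_iff, Subgroup.mem_normalizer_iff, hP]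
    constructor
    · intro hm a
      constructor
      · rintro ⟨b, hb, rfl⟩
        exact ⟨m * b * m⁻¹, (hm b).mp hb, by simp⟩
      · rintro ⟨b, hb, e⟩
        refine ⟨m⁻¹ * b * m, (hm _).mpr (by
          rw [show m * (m⁻¹ * b * m) * m⁻¹ = b by group]; exact hb), ?_⟩
        simp only [map_mul, map_inv, Subgroup.coe_subtype, Subgroup.coe_inv] at e ⊢
        rw [e]; group
    · intro hm b
      have := hm (b : G)
      rw [show (b : G) = M.subtype b from rfl] at this
      rw [← Subgroup.mem_map_iff_mem M.subtype_injective (x := b), this,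
        ← Subgroup.mem_map_iff_mem M.subtype_injective (x := m * b * m⁻¹)]
      simp
  by_cases hH : E ⊔ N = ⊤
  · refine hMns (solvable_of_normal_sylow_two S ?_)
    rw [← Subgroup.normalizer_eq_top_iff, eq_top_iff]
    intro m _
    rw [hnorm]
    obtain ⟨e, he, n, hn, hm⟩ := Subgroup.mem_sup_of_normal_left.mp (hH.ge (Subgroup.mem_top (m : G)))
    have hez : e ∈ Subgroup.center G := hEM ⟨he, by
      rw [show e = (m : G) * n⁻¹ by rw [← hm]; group]
      exact M.mul_mem m.2 (M.inv_mem hn.1)⟩
    rw [← hm]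
    exact mul_mem (Subgroup.center_le_normalizer _ hez) hn.2
  · obtain ⟨e, he, hex⟩ : ∃ e ∈ E, ¬ Commute x e := by
      obtain ⟨e, he, hex⟩ := SetLike.not_le_iff_exists.mp hnle
      exact ⟨e, he, fun hc => hex (Subgroup.mem_centralizer_singleton_iff.mpr hc.eq.symm)⟩
    have hxN : x ∈ N := by
      refine ⟨Subgroup.mem_centralizer_singleton_iff.mpr rfl, Subgroup.mem_normalizer_iff.mpr ?_⟩
      intro a
      constructor
      · intro ha
        obtain ⟨b, hb, rfl⟩ := Subgroup.mem_map.mp ha
        have hbx : (b : G) * x = x * b := Subgroup.mem_centralizer_singleton_iff.mp b.2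
        rwa [Subgroup.coe_subtype, ← hbx, mul_inv_cancel_right]
      · intro ha
        obtain ⟨b, hb, hb'⟩ := Subgroup.mem_map.mp ha
        have hbx : (b : G) * x = x * b := Subgroup.mem_centralizer_singleton_iff.mp b.2
        rw [Subgroup.coe_subtype] at hb'
        have : a = (b : G) := by
          rw [show a = x⁻¹ * (x * a * x⁻¹) * x by group, ← hb', mul_assoc, hbx, inv_mul_cancel_left]
        exact Subgroup.mem_map.mpr ⟨b, hb, this.symm⟩
    refine hMns (solvable_of_comm_normalizer S fun a ha b hb => Subtype.ext ?_)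
    have hcx : ∀ c : M, Commute x (c : G) := fun c =>
      (Subgroup.mem_centralizer_singleton_iff.mp c.2).symm
    exact h.proper _ hH x (Subgroup.mem_sup_right hxN) ⟨e, Subgroup.mem_sup_left he, hex⟩
      (a : G) (Subgroup.mem_sup_right ⟨a.2, (hnorm a).mp ha⟩)
      (b : G) (Subgroup.mem_sup_right ⟨b.2, (hnorm b).mp hb⟩) (hcx a) (hcx b)

/-- The centraliser of a normal abelian noncentral subgroup is abelian. -/
theorem centralizer_comm (h : MinNonCA G) (E : Subgroup G) [hE : E.Normal]
    (hEc : ∀ a ∈ E, ∀ b ∈ E, Commute a b) (hEz : ¬ E ≤ Subgroup.center G) :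
    ∀ a ∈ Subgroup.centralizer (E : Set G), ∀ b ∈ Subgroup.centralizer (E : Set G),
      Commute a b := by
  haveI : Fact (Nat.Prime 2) := ⟨Nat.prime_two⟩
  by_contra hA
  push Not at hA
  obtain ⟨a, ha, b, hb, hab⟩ := hA
  set A := Subgroup.centralizer (E : Set G) with hAdef
  have hEA : E ≤ A := fun e he => Subgroup.mem_centralizer_iff.mpr fun f hf => (hEc f hf e he).eq
  have hAtop : A ≠ ⊤ := fun ht => hEz fun e he => Subgroup.mem_center_iff.mpr fun g =>
    (Subgroup.mem_centralizer_iff.mp (ht.ge (Subgroup.mem_top g)) e he).symm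
  have hmax : ∀ H : Subgroup G, A ≤ H → H ≠ ⊤ → H = A := by
    refine fun H hAH hH => le_antisymm (fun k hk => ?_) hAH
    refine Subgroup.mem_centralizer_iff.mpr fun e he => ?_
    by_cases hez : e ∈ Subgroup.center G
    · exact (Subgroup.mem_center_iff.mp hez k).symm
    · have hea : Commute e a := Subgroup.mem_centralizer_iff.mp ha e he
      have heb : Commute e b := Subgroup.mem_centralizer_iff.mp hb e he
      have hr : Red e := ⟨hez, a, b, hea, heb, hab⟩
      exact (Subgroup.mem_centralizer_singleton_iff.mp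
        (hr.le_centralizer h hH (hAH (hEA he)) (hAH ha) (hAH hb) hea heb hab hk)).symm
  haveI : A.Normal := Subgroup.normal_centralizer
  have hAns : ¬ Group.IsSolvable A := by
    intro hsol
    refine h.not_solvable ?_
    haveI : Group.IsSolvable (G ⧸ A) := by
      refine solvable_of_no_subgroups fun K => ?_
      by_cases hK : K.comap (QuotientGroup.mk' A) = ⊤
      · right
        rw [← Subgroup.map_comap_eq_self_of_surjective (QuotientGroup.mk'_surjective A) K, hK,
          Subgroup.map_top_of_surjective _ (QuotientGroup.mk'_surjective A)]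
      · left
        rw [← Subgroup.map_comap_eq_self_of_surjective (QuotientGroup.mk'_surjective A) K,
          hmax _ (fun g hg => by
            rw [Subgroup.mem_comap, QuotientGroup.mk'_apply, (QuotientGroup.eq_one_iff g).mpr hg]
            exact one_mem K) hK, QuotientGroup.map_mk'_self]
    exact Group.isSolvable_of_ker_le_range A.subtype (QuotientGroup.mk' A)
      (by rw [Subgroup.range_subtype, QuotientGroup.ker_mk'])
  let S : Sylow 2 A := default
  set H := Subgroup.normalizer (((S : Subgroup A).map A.subtype : Subgroup G) : Set G) with hH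
  have hfrat : H ⊔ A = ⊤ := Sylow.normalizer_sup_eq_top S
  have hnorm : ∀ c : A, c ∈ Subgroup.normalizer ((S : Subgroup A) : Set A) → (c : G) ∈ H :=
    fun c hc => Subgroup.le_normalizer_map A.subtype ⟨c, hc, rfl⟩
  have hEH : E ≤ H := by
    intro e he
    refine Subgroup.mem_normalizer_iff.mpr fun c => ?_
    have hfix : ∀ d ∈ (S : Subgroup A).map A.subtype, e * d * e⁻¹ = d := by
      rintro _ ⟨d, -, rfl⟩
      rw [Subgroup.coe_subtype, Subgroup.mem_centralizer_iff.mp d.2 e he, mul_inv_cancel_right]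
    constructor
    · intro hc
      rw [hfix c hc]; exact hc
    · intro hc
      have h2 := hfix _ hc
      have : e * c * e⁻¹ = c := mul_left_cancel (mul_right_cancel h2)
      rwa [this] at hc
  by_cases hHtop : H = ⊤
  · refine hAns (solvable_of_normal_sylow_two S ⟨fun s hs c => ?_⟩)
    rw [← Subgroup.mem_map_iff_mem A.subtype_injective]
    simpa only [map_mul, map_inv, Subgroup.coe_subtype, Subgroup.coe_inv] using
      (Subgroup.mem_normalizer_iff.mp
        (hH ▸ hHtop.ge (Subgroup.mem_top (c : G))) (s : G)).mp (Subgroup.mem_map_of_mem A.subtype hs)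
  · obtain ⟨e, he, k, hk, hek⟩ : ∃ e ∈ E, ∃ k ∈ H, ¬ Commute e k := by
      by_contra hno
      push Not at hno
      refine hAtop ?_
      rw [← hfrat, eq_comm, sup_eq_right]
      exact fun k hk => Subgroup.mem_centralizer_iff.mpr fun e he => (hno e he k hk).eq
    refine hAns (solvable_of_comm_normalizer S fun c hc d hd => Subtype.ext ?_)
    exact h.proper _ hHtop e (hEH he) ⟨k, hk, hek⟩ (c : G) (hnorm c hc) (d : G) (hnorm d hd)
      (Subgroup.mem_centralizer_iff.mp c.2 e he) (Subgroup.mem_centralizer_iff.mp d.2 e he)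

/-- Iterating a conjugation that multiplies `a` by a central element. -/
theorem conj_pow_center {y a z : G} (hz : z ∈ Subgroup.center G) (h : y * a * y⁻¹ = a * z)
    (i : ℕ) : y ^ i * a * (y ^ i)⁻¹ = a * z ^ i := by
  induction i with
  | zero => simp
  | succ i hi =>
    have hzc : y * z ^ i * y⁻¹ = z ^ i := by
      rw [Subgroup.mem_center_iff.mp (pow_mem hz i) y, mul_inv_cancel_right]
    calc y ^ (i + 1) * a * (y ^ (i + 1))⁻¹ = y * (y ^ i * a * (y ^ i)⁻¹) * y⁻¹ := by
          rw [pow_succ']; group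
      _ = (y * a * y⁻¹) * (y * z ^ i * y⁻¹) := by rw [hi]; group
      _ = a * z ^ (i + 1) := by rw [h, hzc, pow_succ', mul_assoc]

/-- The twisting element has order dividing that of `a`. -/
theorem pow_orderOf_twist {y a z : G} (hz : z ∈ Subgroup.center G) (h : y * a * y⁻¹ = a * z) :
    z ^ orderOf a = 1 := by
  have hc : Commute a z := Subgroup.mem_center_iff.mp hz a
  have h1 : (a * z) ^ orderOf a = 1 := by
    rw [← h, conj_pow, pow_orderOf_eq_one]; group
  rwa [hc.mul_pow, pow_orderOf_eq_one, one_mul] at h1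

/-- A normal abelian subgroup is central. -/
theorem abelian_le_center (h : MinNonCA G) (E₀ : Subgroup G) [hE₀ : E₀.Normal]
    (hE₀c : ∀ a ∈ E₀, ∀ b ∈ E₀, Commute a b) : E₀ ≤ Subgroup.center G := by
  haveI : Fact (Nat.Prime 2) := ⟨Nat.prime_two⟩
  by_contra hz₀
  obtain ⟨x, hx⟩ := exists_red_of_not_ca h.not_ca
  set M := Subgroup.centralizer ({x} : Set G) with hM
  obtain ⟨E, hE, hEc, hEz, hEM⟩ : ∃ E : Subgroup G, E.Normal ∧
      (∀ a ∈ E, ∀ b ∈ E, Commute a b) ∧ ¬ E ≤ Subgroup.center G ∧ E ≤ M := by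
    by_cases hle : E₀ ≤ M
    · exact ⟨E₀, hE₀, hE₀c, hz₀, hle⟩
    refine ⟨E₀ ⊓ M, ?_, fun a ha b hb => hE₀c a ha.1 b hb.1, fun hc => hle ?_, inf_le_right⟩
    · have htop : E₀ ⊔ M = ⊤ :=
        (hx.isCoatom h).2 _ (lt_of_le_of_ne le_sup_right fun he => hle (le_sup_left.trans he.ge))
      refine ⟨fun c hc g => ?_⟩
      obtain ⟨e, he, m, hm, rfl⟩ := Subgroup.mem_sup_of_normal_left.mp (htop.ge (Subgroup.mem_top g))
      have h1 : m * c * m⁻¹ ∈ E₀ ⊓ M :=
        ⟨hE₀.conj_mem c hc.1 m, M.mul_mem (M.mul_mem hm hc.2) (M.inv_mem hm)⟩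
      have h2 : e * m * c * (e * m)⁻¹ = e * (m * c * m⁻¹) * e⁻¹ := by group
      rw [h2, (hE₀c e he _ h1.1).eq, mul_inv_cancel_right]
      exact h1
    · haveI : Group.IsSolvable E₀ :=
        Group.isSolvable_of_comm fun a b => Subtype.ext (hE₀c a a.2 b b.2)
      exact le_red_centralizer_of_inf h hx E₀ hc
  -- the abelian self-centralising normal subgroup
  set A := Subgroup.centralizer (E : Set G) with hAdef
  haveI := hE
  haveI hAN : A.Normal := Subgroup.normal_centralizer
  have hAc := centralizer_comm h E hEc hEz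
  have hEA : E ≤ A := fun e he => Subgroup.mem_centralizer_iff.mpr fun f hf => (hEc f hf e he).eq
  have hCA : ∀ c : G, (∀ a ∈ A, Commute a c) → c ∈ A := fun c hc =>
    Subgroup.mem_centralizer_iff.mpr fun e he => (hc e (hEA he)).eq
  have hxA : x ∈ A := Subgroup.mem_centralizer_iff.mpr fun e he =>
    Subgroup.mem_centralizer_singleton_iff.mp (hEM he)
  haveI : Group.IsSolvable A := Group.isSolvable_of_comm fun a b => Subtype.ext (hAc a a.2 b b.2)
  set π := QuotientGroup.mk' A with hπ
  have hker : ∀ {g : G}, π g = 1 ↔ g ∈ A := fun {g} => QuotientGroup.eq_one_iff g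
  have hQ : ¬ Group.IsSolvable (G ⧸ A) := fun hs => h.not_solvable
    (Group.isSolvable_of_ker_le_range A.subtype π
      (by rw [hπ, Subgroup.range_subtype, QuotientGroup.ker_mk']))
  have hproper : ∀ K : Subgroup (G ⧸ A), K ≠ ⊤ → K.comap π ≠ ⊤ := fun K hK he => hK (by
    rw [← Subgroup.map_comap_eq_self_of_surjective (QuotientGroup.mk'_surjective A) K, ← hπ, he,
      Subgroup.map_top_of_surjective _ (QuotientGroup.mk'_surjective A)])
  have hAcomap : ∀ (K : Subgroup (G ⧸ A)), A ≤ K.comap π := fun K g hg => by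
    rw [Subgroup.mem_comap, hker.mpr hg]; exact one_mem K
  -- fixed points agree inside a proper subgroup
  have hfix : ∀ H : Subgroup G, H ≠ ⊤ → A ≤ H → ∀ y ∈ H, ∀ y' ∈ H, y ∉ A → ∀ a ∈ A,
      Commute a y → Commute a y' := by
    intro H hH hAH y hy y' hy' hyA a ha hay
    by_contra hay'
    exact hyA (hCA y fun c hc =>
      h.proper H hH a (hAH ha) ⟨y', hy', hay'⟩ c (hAH hc) y hy (hAc a ha c hc) hay)
  have hpairtop : ∀ p q : G ⧸ A, p * p = 1 → q * q = 1 →
      Subgroup.closure ({p, q} : Set (G ⧸ A)) ≠ ⊤ :=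
    fun p q hp hq he => hQ (solvable_of_two_involutions hp hq he)
  -- an involution modulo `A`
  obtain ⟨w₀, hw₀A, hw₀2⟩ : ∃ w : G, w ∉ A ∧ π w * π w = 1 := by
    have heven : 2 ∣ Nat.card (G ⧸ A) := by
      by_contra hodd
      exact hQ (Cfsg.Agent.S0205.result (Nat.not_even_iff_odd.1 fun he =>
        hodd (even_iff_two_dvd.1 he)))
    obtain ⟨q, hq⟩ := exists_prime_orderOf_dvd_card' (G := G ⧸ A) 2 heven
    obtain ⟨w, rfl⟩ := QuotientGroup.mk'_surjective A q
    refine ⟨w, fun hw => ?_, ?_⟩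
    · rw [hker.mpr hw, orderOf_one] at hq
      omega
    · rw [← pow_two, ← hq, pow_orderOf_eq_one]
  have hinvfix : ∀ v w : G, v ∉ A → π v * π v = 1 → π w * π w = 1 → ∀ a ∈ A,
      Commute a v → Commute a w := by
    intro v w hvA hv hw a ha
    exact hfix _ (hproper _ (hpairtop (π v) (π w) hv hw)) (hAcomap _) v
      (Subgroup.mem_comap.mpr (Subgroup.subset_closure (by simp))) w
      (Subgroup.mem_comap.mpr (Subgroup.subset_closure (by simp))) hvA a ha
  -- involutions fix only central elements of `A`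
  have hinv : ∀ w : G, w ∉ A → π w * π w = 1 → ∀ a ∈ A, Commute a w → a ∈ Subgroup.center G := by
    intro w hwA hw a ha haw
    set C₀ : Subgroup G := A ⊓ Subgroup.centralizer ({w₀} : Set G) with hC₀
    haveI : C₀.Normal := ⟨fun c hc g => by
      refine ⟨hAN.conj_mem c hc.1 g, Subgroup.mem_centralizer_singleton_iff.mpr ?_⟩
      refine (hinvfix (g * w₀ * g⁻¹) w₀ ?_ ?_ hw₀2 _ (hAN.conj_mem c hc.1 g) ?_).eq
      · intro hmem
        exact hw₀A (by simpa [mul_assoc] using hAN.conj_mem _ hmem g⁻¹)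
      · simp only [map_mul, map_inv]
        rw [show π g * π w₀ * (π g)⁻¹ * (π g * π w₀ * (π g)⁻¹) =
          π g * (π w₀ * π w₀) * (π g)⁻¹ by group, hw₀2]
        group
      · show g * c * g⁻¹ * (g * w₀ * g⁻¹) = g * w₀ * g⁻¹ * (g * c * g⁻¹)
        rw [show g * c * g⁻¹ * (g * w₀ * g⁻¹) = g * (c * w₀) * g⁻¹ by group,
          Subgroup.mem_centralizer_singleton_iff.mp hc.2]
        group⟩
    have haC : a ∈ C₀ := ⟨ha, Subgroup.mem_centralizer_singleton_iff.mpr
      (hinvfix w w₀ hwA hw hw₀2 a ha haw).eq⟩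
    by_contra haz
    have hC₀z : ¬ C₀ ≤ Subgroup.center G := fun hle => haz (hle haC)
    have hcc := centralizer_comm h C₀ (fun c hc d hd => hAc c hc.1 d hd.1) hC₀z
    refine hw₀A (hCA w₀ fun c hc => hcc c ?_ w₀ ?_)
    · exact Subgroup.mem_centralizer_iff.mpr fun d hd => (hAc d hd.1 c hc).eq
    · exact Subgroup.mem_centralizer_iff.mpr fun d hd =>
        Subgroup.mem_centralizer_singleton_iff.mp hd.2
  -- so does every element inside a proper subgroup with an involution
  have hfree : ∀ H : Subgroup G, H ≠ ⊤ → A ≤ H → ∀ y ∈ H, ∀ w ∈ H, y ∉ A → w ∉ A →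
      π w * π w = 1 → ∀ a ∈ A, Commute a y → a ∈ Subgroup.center G :=
    fun H hH hAH y hy w hw hyA hwA hw2 a ha hay =>
      hinv w hwA hw2 a ha (hfix H hH hAH y hy w hw hyA a ha hay)
  -- an involution inverts `A` modulo the centre
  have hinvert : ∀ w : G, π w * π w = 1 → ∀ a ∈ A, w ∉ A →
      a * (w * a * w⁻¹) ∈ Subgroup.center G := by
    intro w hw a ha hwA
    have hw' : w * a * w⁻¹ ∈ A := hAN.conj_mem a ha w
    have hww : w * w ∈ A := hker.mp (by rw [map_mul, hw])
    refine hinv w hwA hw _ (mul_mem ha hw') ?_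
    show a * (w * a * w⁻¹) * w = w * (a * (w * a * w⁻¹))
    calc a * (w * a * w⁻¹) * w = a * (w * a * w⁻¹) * w := rfl
      _ = (w * a * w⁻¹) * a * w := by rw [(hAc a ha _ hw').eq]
      _ = (w * a * w⁻¹) * (a * (w * w)) * w⁻¹ := by group
      _ = (w * a * w⁻¹) * ((w * w) * a) * w⁻¹ := by rw [(hAc a ha _ hww).eq]
      _ = w * (a * (w * a * w⁻¹)) := by group
  -- products of two involutions centralise `A` modulo the centre
  have hprod : ∀ v w : G, v ∉ A → w ∉ A → π v * π v = 1 → π w * π w = 1 → ∀ a ∈ A,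
      ∃ z ∈ Subgroup.center G, (v * w) * a * (v * w)⁻¹ = a * z := by
    intro v w hvA hwA hv hw a ha
    have h1 := hinvert w hw a ha hwA
    have h2 := hinvert v hv _ (inv_mem ha) hvA
    refine ⟨_, mul_mem h1 h2, ?_⟩
    set z₁ := a * (w * a * w⁻¹) with hz₁
    have h1' : v * z₁ = z₁ * v := Subgroup.mem_center_iff.mp h1 v
    calc v * w * a * (v * w)⁻¹ = v * (a⁻¹ * z₁) * v⁻¹ := by rw [hz₁]; group
      _ = v * a⁻¹ * (z₁ * v⁻¹) := by group
      _ = v * a⁻¹ * (v⁻¹ * z₁) := by rw [← Subgroup.mem_center_iff.mp h1 v⁻¹]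
      _ = v * a⁻¹ * v⁻¹ * z₁ := by group
      _ = a * (z₁ * (a⁻¹ * (v * a⁻¹ * v⁻¹))) := by
        rw [← mul_assoc a z₁, Subgroup.mem_center_iff.mp h1 a, mul_assoc z₁ a, mul_inv_cancel_left,
          Subgroup.mem_center_iff.mp h1]
  by_cases hA2 : ∃ a ∈ A, a ∉ Subgroup.center G ∧ ∃ k : ℕ, orderOf a = 2 ^ k
  · obtain ⟨a, ha, haz, k, hk⟩ := hA2
    -- an element of `A` outside the centre with central square
    obtain ⟨a₀, ha₀, ha₀z, ha₀2⟩ : ∃ a₀ ∈ A, a₀ ∉ Subgroup.center G ∧
        a₀ * a₀ ∈ Subgroup.center G := by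
      have hex : ∃ i, a ^ (2 ^ i) ∈ Subgroup.center G :=
        ⟨k, by rw [← hk, pow_orderOf_eq_one]; exact one_mem _⟩
      classical
      obtain ⟨j, hj, hjmin⟩ : ∃ j, a ^ (2 ^ j) ∈ Subgroup.center G ∧
          ∀ i < j, a ^ (2 ^ i) ∉ Subgroup.center G :=
        ⟨Nat.find hex, Nat.find_spec hex, fun i hi => Nat.find_min hex hi⟩
      rcases j with _ | j
      · exact absurd (by simpa using hj) haz
      · exact ⟨a ^ (2 ^ j), pow_mem ha _, hjmin j (Nat.lt_succ_self j), by
          rw [← pow_add, ← two_mul, ← pow_succ']; exact hj⟩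
    refine hQ (solvable_of_involutions ?_ ?_ (fun C hC hpair =>
      CfsgLib.Involution.baerSuzuki_set C hC hpair))
    · -- no elements of order four
      have hfour : ∀ q : G ⧸ A, q ^ 4 = 1 → q * q = 1 := by
        intro q hq
        obtain ⟨w, rfl⟩ := QuotientGroup.mk'_surjective A q
        rw [← hπ] at hq ⊢
        by_contra hne
        have hwwA : w * w ∉ A := fun hm => hne (by rw [← map_mul]; exact hker.mpr hm)
        have hww2 : π (w * w) * π (w * w) = 1 := by rw [← hq, map_mul, pow_succ, pow_succ, pow_two]; group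
        -- a fixed point modulo the centre
        obtain ⟨b, hb, hbz, hb2, hbw⟩ : ∃ b ∈ A, b ∉ Subgroup.center G ∧
            b * b ∈ Subgroup.center G ∧ b⁻¹ * (w * b * w⁻¹) ∈ Subgroup.center G := by
          by_cases hb : a₀⁻¹ * (w * a₀ * w⁻¹) ∈ Subgroup.center G
          · exact ⟨a₀, ha₀, ha₀z, ha₀2, hb⟩
          set c := w * a₀ * w⁻¹ with hc
          have hcA : c ∈ A := hAN.conj_mem _ ha₀ w
          have hcomm : Commute a₀⁻¹ c := hAc _ (inv_mem ha₀) _ hcA
          have hc2 : c * c ∈ Subgroup.center G := by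
            rw [hc, show w * a₀ * w⁻¹ * (w * a₀ * w⁻¹) = w * (a₀ * a₀) * w⁻¹ by group]
            exact (inferInstance : (Subgroup.center G).Normal).conj_mem _ ha₀2 w
          refine ⟨a₀⁻¹ * c, mul_mem (inv_mem ha₀) hcA, hb, ?_, ?_⟩
          · rw [hcomm.symm.mul_mul_mul_comm, ← mul_inv_rev]
            exact mul_mem (inv_mem ha₀2) hc2
          · have h2 := hinvert (w * w) hww2 a₀ ha₀ hwwA
            have h3 : (a₀⁻¹ * c)⁻¹ * (w * (a₀⁻¹ * c) * w⁻¹) =
                c⁻¹ * a₀ * c⁻¹ * (w * w * a₀ * (w * w)⁻¹) := by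
              rw [hc]; group
            rw [h3]
            have h4 : Commute a₀ c⁻¹ := hAc _ ha₀ _ (inv_mem hcA)
            rw [show c⁻¹ * a₀ * c⁻¹ = c⁻¹ * c⁻¹ * a₀ by rw [mul_assoc, h4.eq, ← mul_assoc],
              mul_assoc, ← mul_inv_rev]
            exact mul_mem (inv_mem hc2) h2
        set z := b⁻¹ * (w * b * w⁻¹) with hz
        have hwb : w * b * w⁻¹ = b * z := by rw [hz, mul_inv_cancel_left]
        have hz2 : z * z = 1 := by
          have h5 : (b * z) * (b * z) = b * b := by
            rw [← hwb, show w * b * w⁻¹ * (w * b * w⁻¹) = w * (b * b) * w⁻¹ by group,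
              Subgroup.mem_center_iff.mp hb2 w, mul_inv_cancel_right]
          rw [(show Commute z b from (Subgroup.mem_center_iff.mp hbw b).symm).mul_mul_mul_comm] at h5
          exact mul_eq_left.mp h5
        have h6 := conj_pow_center hbw hwb 2
        rw [pow_two, pow_two, hz2, mul_one] at h6
        exact hbz (hinv (w * w) hwwA hww2 b hb (mul_inv_eq_iff_eq_mul.mp h6).symm)
      intro q
      intro e he
      rcases e with _ | _ | e
      · rw [show q = 1 from orderOf_eq_one_iff.mp (by simpa using he), one_mul]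
      · rw [← pow_two, show (2 : ℕ) = orderOf q by simpa using he.symm, pow_orderOf_eq_one]
      · exfalso
        have h4 : (q ^ 2 ^ e) ^ 4 = 1 := by
          rw [← pow_mul, show 2 ^ e * 4 = 2 ^ (e + 1 + 1) by ring, ← he, pow_orderOf_eq_one]
        have h2 := hfour _ h4
        rw [← pow_add, ← two_mul, ← pow_succ'] at h2
        have := orderOf_dvd_of_pow_eq_one h2
        rw [he, Nat.pow_dvd_pow_iff_le_right one_lt_two] at this
        omega
    · intro p q hp hq
      set N := Subgroup.zpowers (p * q) with hN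
      have hN2 : IsPGroup 2 N := by
        obtain ⟨i, m, hm, hord, -, hm'⟩ := exists_two_pow_mul_odd (p * q)
        refine IsPGroup.iff_card.mpr ⟨i, ?_⟩
        rw [hN, Nat.card_zpowers, hord]
        suffices hm1 : m = 1 by rw [hm1, mul_one]
        by_contra hm1
        obtain ⟨v, hvq⟩ := QuotientGroup.mk'_surjective A p
        obtain ⟨w, hwq⟩ := QuotientGroup.mk'_surjective A q
        rw [← hπ] at hvq hwq
        have hpq : ¬ (p * q) ^ (2 ^ i) = 1 := fun he =>
          hm1 (by rw [← hm']; exact orderOf_eq_one_iff.mpr he)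
        have hvA : v ∉ A := fun hv => hpq (by
          rw [← hvq, hker.mpr hv, one_mul]
          rcases i with _ | i
          · exfalso
            rw [← hvq, hker.mpr hv, one_mul] at hord
            have h2 := orderOf_dvd_of_pow_eq_one (show q ^ 2 = 1 by rw [pow_two, hq])
            rw [hord, pow_zero, one_mul] at h2
            exact hm1 ((Nat.dvd_prime Nat.prime_two).mp h2 |>.resolve_right
              (fun e => by rw [e] at hm; exact (Nat.not_odd_iff_even.mpr even_two) hm))
          · rw [pow_succ', pow_mul, pow_two, hq, one_pow])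
        have hwA : w ∉ A := fun hv => hpq (by
          rw [← hwq, hker.mpr hv, mul_one]
          rcases i with _ | i
          · exfalso
            rw [← hwq, hker.mpr hv, mul_one] at hord
            have h2 := orderOf_dvd_of_pow_eq_one (show p ^ 2 = 1 by rw [pow_two, hp])
            rw [hord, pow_zero, one_mul] at h2
            exact hm1 ((Nat.dvd_prime Nat.prime_two).mp h2 |>.resolve_right
              (fun e => by rw [e] at hm; exact (Nat.not_odd_iff_even.mpr even_two) hm))
          · rw [pow_succ', pow_mul, pow_two, hp, one_pow])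
        obtain ⟨z, hz, hzc⟩ := hprod v w hvA hwA (by rw [hvq, hp]) (by rw [hwq, hq]) a ha
        have hzi := conj_pow_center hz hzc
        set y := (v * w) ^ (2 ^ i) with hy
        have hπy : π y = (p * q) ^ (2 ^ i) := by rw [hy, map_pow, map_mul, hvq, hwq]
        have hyA : y ∉ A := fun hm2 => hpq (by rw [← hπy]; exact hker.mpr hm2)
        have hym : y ^ m ∈ A := hker.mp (by rw [map_pow, hπy, ← hm', pow_orderOf_eq_one])
        have hz1 : z ^ (2 ^ i) = 1 := by
          refine eq_one_of_pow (i := m) (j := 2 ^ k) (Nat.Coprime.pow_right _ hm.coprime_two_right) ?_ ?_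
          · have h7 := conj_pow_center (pow_mem hz (2 ^ i)) (hy ▸ hzi (2 ^ i)) m
            rw [(hAc _ hym a ha).eq, mul_inv_cancel_right, eq_comm, mul_eq_left] at h7
            exact h7
          · rw [← pow_mul, mul_comm, pow_mul, ← hk, pow_orderOf_twist hz hzc, one_pow]
        have hay : Commute a y := by
          have h8 := hzi (2 ^ i)
          rw [← hy, hz1, mul_one] at h8
          exact (mul_inv_eq_iff_eq_mul.mp h8).symm
        refine haz (hfree _ (hproper _ (hpairtop p q hp hq)) (hAcomap _) y ?_ v ?_ hyA hvA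
          (by rw [hvq, hp]) a ha hay)
        · rw [Subgroup.mem_comap, hπy]
          exact pow_mem (mul_mem (Subgroup.subset_closure (by simp))
            (Subgroup.subset_closure (by simp))) _
        · rw [Subgroup.mem_comap, hvq]
          exact Subgroup.subset_closure (by simp)
      have hp2 : IsPGroup 2 (Subgroup.zpowers p) := by
        have hd := orderOf_dvd_of_pow_eq_one (show p ^ 2 = 1 by rw [pow_two, hp])
        obtain ⟨i, -, hi⟩ := (Nat.dvd_prime_pow Nat.prime_two).mp (show orderOf p ∣ 2 ^ 1 by simpa using hd)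
        exact IsPGroup.iff_card.mpr ⟨i, by rw [Nat.card_zpowers, hi]⟩
      have hnorm : Subgroup.zpowers p ≤ Subgroup.normalizer (N : Set (G ⧸ A)) := by
        rw [Subgroup.zpowers_le, Subgroup.mem_normalizer_iff_map_conj_eq, hN, MonoidHom.map_zpowers]
        have hpi : p⁻¹ = p := inv_eq_of_mul_eq_one_right hp
        have hqi : q⁻¹ = q := inv_eq_of_mul_eq_one_right hq
        have : p * (p * q) * p⁻¹ = (p * q)⁻¹ := by
          rw [mul_inv_rev, hpi, hqi, ← mul_assoc, hp, one_mul]
        simp only [MonoidHom.coe_coe, MulEquiv.toMonoidHom_eq_coe, MulAut.conj_apply, this,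
          Subgroup.zpowers_inv]
      refine (hp2.to_sup_of_normal_right' hN2 hnorm).to_le ((Subgroup.closure_le _).mpr ?_)
      rintro s hs
      rcases hs with hs | hs <;> rw [hs]
      · exact Subgroup.mem_sup_left (Subgroup.mem_zpowers p)
      · have hpqm : p * (p * q) ∈ Subgroup.zpowers p ⊔ N :=
          mul_mem (Subgroup.mem_sup_left (Subgroup.mem_zpowers p))
            (Subgroup.mem_sup_right (Subgroup.mem_zpowers _))
        rwa [← mul_assoc, hp, one_mul] at hpqm
  · push Not at hA2
    have hA2' : ∀ a ∈ A, ∀ k : ℕ, orderOf a = 2 ^ k → a ∈ Subgroup.center G :=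
      fun a ha k hk => by_contra fun hz => hA2 a ha hz k hk
    -- an element of odd order
    obtain ⟨a, ha, haz, hodd⟩ : ∃ a ∈ A, a ∉ Subgroup.center G ∧ Odd (orderOf a) := by
      obtain ⟨k, m, hm, -, hk, hm'⟩ := exists_two_pow_mul_odd x
      refine ⟨x ^ 2 ^ k, pow_mem hxA _, fun hz => hx.1 ?_, by rwa [hm']⟩
      exact mem_of_pow_mem (Nat.Coprime.pow_left _ hm.coprime_two_left) hz
        (hA2' _ (pow_mem hxA _) k hk)
    -- commuting involutions are equal
    have hu : ∀ p q : G ⧸ A, p ≠ 1 → q ≠ 1 → p * p = 1 → q * q = 1 → p * q = q * p → p = q := by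
      intro p q hp1 hq1 hp hq hpq
      by_contra hne
      obtain ⟨v, hvq⟩ := QuotientGroup.mk'_surjective A p
      obtain ⟨w, hwq⟩ := QuotientGroup.mk'_surjective A q
      rw [← hπ] at hvq hwq
      have hvA : v ∉ A := fun hv => hp1 (by rw [← hvq]; exact hker.mpr hv)
      have hwA : w ∉ A := fun hv => hq1 (by rw [← hwq]; exact hker.mpr hv)
      obtain ⟨z, hz, hzc⟩ := hprod v w hvA hwA (by rw [hvq, hp]) (by rw [hwq, hq]) a ha
      have hy2 : π (v * w) * π (v * w) = 1 := by
        rw [map_mul, hvq, hwq, show p * q * (p * q) = p * (q * p) * q by group, ← hpq,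
          show p * (p * q) * q = p * p * (q * q) by group, hp, hq, one_mul]
      have hyA : v * w ∉ A := fun hm2 => hne (by
        have h1 : p * q = 1 := by rw [← hvq, ← hwq, ← map_mul]; exact hker.mpr hm2
        rw [← inv_eq_of_mul_eq_one_right h1, inv_eq_of_mul_eq_one_right hp])
      have hz1 : z = 1 := by
        refine eq_one_of_pow (i := 2) (j := orderOf a) hodd.coprime_two_left ?_ (pow_orderOf_twist hz hzc)
        have h7 := conj_pow_center hz hzc 2
        have hy2A : (v * w) ^ 2 ∈ A := hker.mp (by rw [map_pow, pow_two, hy2])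
        rw [(hAc _ hy2A a ha).eq, mul_inv_cancel_right, eq_comm, mul_eq_left] at h7
        exact h7
      rw [hz1, mul_one] at hzc
      exact haz (hinv _ hyA hy2 a ha (mul_inv_eq_iff_eq_mul.mp hzc).symm)
    let P : Sylow 2 G := default
    set S : Sylow 2 (G ⧸ A) := P.mapSurjective (QuotientGroup.mk'_surjective A) with hS
    have hSne : (S : Subgroup (G ⧸ A)) ≠ ⊤ := fun ht => hQ (by
      haveI : Group.IsNilpotent (G ⧸ A) := (ht ▸ S.2 : IsPGroup 2 (⊤ : Subgroup (G ⧸ A))).of_equiv
        Subgroup.topEquiv |>.isNilpotent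
      infer_instance)
    have hPS : ∀ p ∈ (P : Subgroup G), π p ∈ (S : Subgroup (G ⧸ A)) := fun p hp => ⟨p, hp, rfl⟩
    -- a central involution of `S`
    obtain ⟨s, hsP, hsA, hs2, hsc⟩ : ∃ s ∈ (P : Subgroup G), s ∉ A ∧ π s * π s = 1 ∧
        ∀ p ∈ (P : Subgroup G), π s * π p = π p * π s := by
      haveI : Nontrivial (S : Subgroup (G ⧸ A)) := by
        rw [Subgroup.nontrivial_iff_ne_bot]
        refine S.ne_bot_of_dvd_card ?_
        by_contra hodd
        exact hQ (Cfsg.Agent.S0205.result (Nat.not_even_iff_odd.1 fun he =>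
          hodd (even_iff_two_dvd.1 he)))
      haveI := S.2.center_nontrivial
      obtain ⟨c, hc⟩ := exists_ne (1 : Subgroup.center (S : Subgroup (G ⧸ A)))
      obtain ⟨i, hi⟩ := exists_orderOf_two_pow S.2 (c : (S : Subgroup (G ⧸ A))).2
      obtain ⟨j, hj1, hj2⟩ := exists_pow_involution hi (fun he => hc (Subtype.ext (Subtype.ext he)))
      obtain ⟨s, hs, hse⟩ : ∃ s ∈ (P : Subgroup G), π s = ((c : (S : Subgroup (G ⧸ A))) : G ⧸ A) ^ j :=
        Subgroup.mem_map.mp (show ((c : (S : Subgroup (G ⧸ A))) : G ⧸ A) ^ j ∈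
          (P : Subgroup G).map π from pow_mem (c : (S : Subgroup (G ⧸ A))).2 j)
      refine ⟨s, hs, fun hm => hj1 (by rw [← hse]; exact hker.mpr hm), by rw [hse, hj2],
        fun p hp => ?_⟩
      rw [hse]
      have h1 := congrArg Subtype.val (Subgroup.mem_center_iff.mp c.2 ⟨π p, hPS p hp⟩)
      exact ((show Commute (π p) ((c : (S : Subgroup (G ⧸ A))) : G ⧸ A) from h1).pow_right j).symm.eq
    have hH : (S : Subgroup (G ⧸ A)).comap π ≠ ⊤ := hproper _ hSne
    have hsp : ∀ p ∈ (P : Subgroup G), Commute s p := by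
      intro p hp
      have hPA : ∀ b ∈ (P : Subgroup G), b ∈ A → b ∈ Subgroup.center G := fun b hb hbA => by
        obtain ⟨i, hi⟩ := exists_orderOf_two_pow P.2 hb
        exact hA2' b hbA i hi
      by_cases hpA : p ∈ A
      · exact Subgroup.mem_center_iff.mp (hPA p hp hpA) s
      obtain ⟨i, hi⟩ := exists_orderOf_two_pow S.2 (hPS p hp)
      obtain ⟨j, hj1, hj2⟩ := exists_pow_involution hi (fun he => hpA (hker.mp he))
      have he : π s = π p ^ j := hu _ _ (fun he => hsA (hker.mp he)) hj1 hs2 hj2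
        ((show Commute (π s) (π p) from hsc p hp).pow_right j).eq
      have hmem : (p ^ j)⁻¹ * s ∈ Subgroup.center G := hPA _
        (mul_mem (inv_mem (pow_mem hp j)) hsP) (hker.mp (by rw [map_mul, map_inv, map_pow, he, inv_mul_cancel]))
      have hc1 : Commute p ((p ^ j)⁻¹ * s) := Subgroup.mem_center_iff.mp hmem p
      have hc2 := (Commute.self_pow p j).mul_right hc1
      rw [mul_inv_cancel_left] at hc2
      exact hc2.symm
    have hPc : ∀ b ∈ (P : Subgroup G), ∀ c ∈ (P : Subgroup G), Commute b c := by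
      intro b hb c hc
      have hsne : ¬ Commute s a := fun hcm => haz (hinv s hsA hs2 a ha hcm.symm)
      exact h.proper _ hH s (Subgroup.mem_comap.mpr (hPS s hsP)) ⟨a, hAcomap _ ha, hsne⟩
        b (Subgroup.mem_comap.mpr (hPS b hb)) c (Subgroup.mem_comap.mpr (hPS c hc))
        (hsp b hb) (hsp c hc)
    refine hQ (solvable_of_unique_involution S ?_ ?_)
    · rintro _ ⟨b, hb, rfl⟩ _ ⟨c, hc, rfl⟩
      exact (hPc b hb c hc).map _
    · rintro _ ⟨b, hb, rfl⟩ _ ⟨c, hc, rfl⟩ hb1 hc1 hb2 hc2
      exact hu _ _ hb1 hc1 hb2 hc2 ((hPc b hb c hc).map _).eq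

end Rad

universe u

/-- Piece A. -/
theorem radicalStep : RadicalStep.{u} := by
  intro G _ _ h N₀ hN₀ hsol₀
  by_contra hz₀
  obtain ⟨R, ⟨hR, hsol, hRz⟩, hmin⟩ := Set.exists_min_image
    {R : Subgroup G | R.Normal ∧ Group.IsSolvable R ∧ ¬ R ≤ Subgroup.center G}
    (fun R => Nat.card R) (Set.toFinite _) ⟨N₀, hN₀, hsol₀, hz₀⟩
  haveI := hR
  haveI := hsol
  have hsmall : ∀ S : Subgroup G, S.Normal → S < R → S ≤ Subgroup.center G := by
    intro S hS hlt
    by_contra hSz
    haveI : Group.IsSolvable S :=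
      Group.isSolvable_of_isSolvable_injective (f := Subgroup.inclusion hlt.le)
        (Subgroup.inclusion_injective hlt.le)
    have hle := hmin S ⟨hS, ‹_›, hSz⟩
    exact absurd (Subgroup.eq_of_le_of_card_ge hlt.le hle) hlt.ne
  have hRne : R ≠ ⊥ := fun e => hRz (by rw [e]; exact bot_le)
  have hder : ∀ a ∈ R, ∀ b ∈ R, a * b * a⁻¹ * b⁻¹ ∈ Subgroup.center G := fun a ha b hb =>
    hsmall ⁅R, R⁆ inferInstance (by
      haveI : Nontrivial R := (Subgroup.nontrivial_iff_ne_bot R).mpr hRne
      rw [← R.range_subtype, MonoidHom.range_eq_map, ← Subgroup.map_commutator,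
        Subgroup.map_subtype_lt_map_subtype]
      exact Group.IsSolvable.commutator_lt_top_of_nontrivial R)
      (Subgroup.commutator_mem_commutator ha hb)
  have hle : ∀ y : G, Red y → R ≤ Subgroup.centralizer ({y} : Set G) := by
    intro y hy
    by_contra hnle
    set M := Subgroup.centralizer ({y} : Set G) with hM
    have htop : R ⊔ M = ⊤ :=
      (hy.isCoatom h).2 _ (lt_of_le_of_ne le_sup_right fun he => hnle (le_sup_left.trans he.ge))
    have hzM : Subgroup.center G ≤ M := Subgroup.center_le_centralizer _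
    haveI hN : (R ⊓ M).Normal := by
      refine ⟨fun c hc g => ?_⟩
      obtain ⟨r, hr, m, hm, rfl⟩ := Subgroup.mem_sup_of_normal_left.mp (htop.ge (Subgroup.mem_top g))
      set c' := m * c * m⁻¹ with hc'
      have h1 : c' ∈ R ⊓ M := ⟨hR.conj_mem c hc.1 m, M.mul_mem (M.mul_mem hm hc.2) (M.inv_mem hm)⟩
      have h2 : r * m * c * (r * m)⁻¹ = (r * c' * r⁻¹ * c'⁻¹) * c' := by rw [hc']; group
      rw [h2]
      exact mul_mem ⟨R.mul_mem (R.mul_mem (R.mul_mem hr h1.1) (R.inv_mem hr)) (R.inv_mem h1.1),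
        hzM (hder r hr c' h1.1)⟩ h1
    exact hnle (Rad.le_red_centralizer_of_inf h hy R
      (hsmall _ hN (lt_of_le_of_ne inf_le_left fun e => hnle (inf_eq_left.mp e))))
  obtain ⟨y, hyR, hyz⟩ := SetLike.not_le_iff_exists.mp hRz
  have hynr : ¬ Red y := by
    intro hy
    haveI : (R ⊓ Subgroup.centralizer (R : Set G)).Normal := inferInstance
    refine hyz (Rad.abelian_le_center h (R ⊓ Subgroup.centralizer (R : Set G))
      (fun a ha b hb => Subgroup.mem_centralizer_iff.mp hb.2 a ha.1) ⟨hyR, ?_⟩)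
    exact Subgroup.mem_centralizer_iff.mpr fun r hr =>
      Subgroup.mem_centralizer_singleton_iff.mp (hle y hy hr)
  haveI : (Subgroup.centralizer (R : Set G)).Normal := Subgroup.normal_centralizer
  have hCc : ∀ a ∈ Subgroup.centralizer (R : Set G), ∀ b ∈ Subgroup.centralizer (R : Set G),
      Commute a b := fun a ha b hb => by_contra fun hab => hynr
    ⟨hyz, a, b, Subgroup.mem_centralizer_iff.mp ha y hyR, Subgroup.mem_centralizer_iff.mp hb y hyR, hab⟩
  obtain ⟨x, hx⟩ := exists_red_of_not_ca h.not_ca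
  refine hx.1 (Rad.abelian_le_center h _ hCc (Subgroup.mem_centralizer_iff.mpr fun r hr => ?_))
  exact Subgroup.mem_centralizer_singleton_iff.mp (hle x hx hr)

end CfsgLib.MinNonCA98
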